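import Mathlib
import Cfsg.Agent.Lib.Schur.CheckParts
import Cfsg.Agent.Lib.Sporadic.MultCoThreePart.Level1

/-!
# Packed values of the edges of table 1
-/

set_option autoImplicit false
set_option maxRecDepth 100000
set_option maxHeartbeats 0
set_option Elab.async false

noncomputable section

namespace CfsgLib.Sporadic.MultCoThreePart

open CfsgLib.Schur.Cert CfsgLib.Sporadic

/-- the packed values -/
def pack1 : Pack := .node (.node (.node (.node (.leaf (0, 0)) (.leaf ((-84162174424773976102168516273215472993129252429543012311353311448373681867050846949222050918730076548306028604520620760156548347052553749497680751836117820591239613341842631319081616566297511684273865706203774996), 156))) (.leaf (0, 0))) (.node (.leaf (4562440617622195218641171605700291324893228507248559930579192517899275167208677386505912811317371399778642309573594407310688704721375437998252661319722214188251994674360264950082874192246603776, 1)) (.leaf (336648697699095904422361386945728477627698533330853609617898015944251523092739631471905665845130362085830722273510369531386132924128746264890075184081841200296351590149291174886975903476694039833546204493658456115, 638)))) (.node (.node (.node (.leaf (0, 0)) (.leaf (168324348849547952218024354399297531641934689274713794063325805897473396335804140103040715499172792034142237124033547939460349392343786952232327371619947676341517905320188837568434081089063899096529297247865667612,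 325))) (.leaf (0, 0))) (.node (.leaf (0, 0)) (.leaf (0, 0))))

theorem pack_ok1 : packOK level1.table pack1 = true := by decide +kernel

end CfsgLib.Sporadic.MultCoThreePart
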