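import Mathlib
import Cfsg.Agent.Lib.Schur.CheckParts
import Cfsg.Agent.Lib.Sporadic.MultCoThreePart.Level2

/-!
# Packed values of the edges of table 2
-/

set_option autoImplicit false
set_option maxRecDepth 100000
set_option maxHeartbeats 0
set_option Elab.async false

noncomputable section

namespace CfsgLib.Sporadic.MultCoThreePart

open CfsgLib.Schur.Cert CfsgLib.Sporadic

/-- the packed values -/
def pack2 : Pack := .node (.node (.node (.leaf (0, 0)) (.leaf (247330401473104534047094713089704592936284162827301600677093612073996441783902676332391551455831828490099393028428255310847032475698767741211542150837415869717789520470999046, 99))) (.node (.leaf (0, 0)) (.leaf (13407807929942597099574024998205846127479365820592393377723561443721764030073546976801874298166903427690031858186486050853753882811946569946433649006084096, 1)))) (.node (.node (.leaf (0, 0)) (.leaf (0, 0))) (.node (.leaf (0, 0)) (.leaf ((-726838724295606891100951894637527243342635818376695934213619396044309017508172369296857197307737919189623510235216440852865226891067396), 93))))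

theorem pack_ok2 : packOK level2.table pack2 = true := by decide +kernel

end CfsgLib.Sporadic.MultCoThreePart
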