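import Mathlib
import Cfsg.Agent.Lib.Schur.CheckParts
import Cfsg.Agent.Lib.Sporadic.MultCoThreePart.Level3

/-!
# Packed values of the edges of table 3
-/

set_option autoImplicit false
set_option maxRecDepth 100000
set_option maxHeartbeats 0
set_option Elab.async false

noncomputable section

namespace CfsgLib.Sporadic.MultCoThreePart

open CfsgLib.Schur.Cert CfsgLib.Sporadic

/-- the packed values -/
def pack3 : Pack := .node (.node (.node (.leaf (0, 0)) (.leaf (0, 0))) (.leaf (0, 0))) (.node (.node (.leaf (0, 0)) (.leaf ((-726838724295606890312911770709637659073559158978693647203131945903914054589377454728800794370109022834884518883845451519546901594636288), 30))) (.leaf (0, 0)))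

theorem pack_ok3 : packOK level3.table pack3 = true := by decide +kernel

end CfsgLib.Sporadic.MultCoThreePart
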