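import Mathlib
import Cfsg.Agent.Lib.Sporadic.MultCoThreePart.Pack0
import Cfsg.Agent.Lib.Sporadic.MultCoThreePart.Pack1
import Cfsg.Agent.Lib.Sporadic.MultCoThreePart.Pack2
import Cfsg.Agent.Lib.Sporadic.MultCoThreePart.Pack3
import Cfsg.Agent.Lib.Sporadic.MultCoThreePart.Pack4
import Cfsg.Agent.Lib.Sporadic.MultCoThreePart.Data
import Cfsg.Agent.Lib.Schur.CheckParts

/-!
# Shape and permutations of table 0
-/

set_option autoImplicit false
set_option maxRecDepth 100000
set_option maxHeartbeats 0
set_option Elab.async false

noncomputable section

namespace CfsgLib.Sporadic.MultCoThreePart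

open CfsgLib.Schur.Cert CfsgLib.Sporadic

theorem head0 : shapeHead level0 [level1, level2, level3, level4] (top) = true := by decide +kernel

theorem srel0_0 : allFrom (shapeRel (chainRels chain top) level0 (top)) 0 2 = true := by decide +kernel

theorem srel0_2 : allFrom (shapeRel (chainRels chain top) level0 (top)) 2 4 = true := by decide +kernel

theorem srel0_4 : allFrom (shapeRel (chainRels chain top) level0 (top)) 4 6 = true := by decide +kernel

theorem srel0_6 : allFrom (shapeRel (chainRels chain top) level0 (top)) 6 7 = true := by decide +kernel

theorem permsGen0 : permsGen 552 level0 [level1, level2, level3, level4] = true := by decide +kernel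

theorem path0_0 : allFrom (permsPath level0) 0 12 = true := by decide +kernel

theorem permsKey0 : permsKey level0 [level1, level2, level3, level4] = true := by decide +kernel

end CfsgLib.Sporadic.MultCoThreePart
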