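import Mathlib
import Cfsg.Agent.Lib.Sporadic.MultCoThreePart.Pack0
import Cfsg.Agent.Lib.Sporadic.MultCoThreePart.Pack1
import Cfsg.Agent.Lib.Sporadic.MultCoThreePart.Pack2
import Cfsg.Agent.Lib.Sporadic.MultCoThreePart.Pack3
import Cfsg.Agent.Lib.Sporadic.MultCoThreePart.Pack4
import Cfsg.Agent.Lib.Sporadic.MultCoThreePart.Data
import Cfsg.Agent.Lib.Schur.CheckParts

/-!
# Deductions of table 4
-/

set_option autoImplicit false
set_option maxRecDepth 100000
set_option maxHeartbeats 0
set_option Elab.async false

noncomputable section

namespace CfsgLib.Sporadic.MultCoThreePart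

open CfsgLib.Schur.Cert CfsgLib.Sporadic

theorem ded4_0 : allFrom (dedAt level4 pack4 [] []) 0 60 = true := by decide +kernel

theorem ded4_60 : allFrom (dedAt level4 pack4 [] []) 60 120 = true := by decide +kernel

theorem ded4_120 : allFrom (dedAt level4 pack4 [] []) 120 180 = true := by decide +kernel

theorem ded4_180 : allFrom (dedAt level4 pack4 [] []) 180 240 = true := by decide +kernel

theorem ded4_240 : allFrom (dedAt level4 pack4 [] []) 240 300 = true := by decide +kernel

theorem ded4_300 : allFrom (dedAt level4 pack4 [] []) 300 360 = true := by decide +kernel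

theorem ded4_360 : allFrom (dedAt level4 pack4 [] []) 360 420 = true := by decide +kernel

theorem ded4_420 : allFrom (dedAt level4 pack4 [] []) 420 480 = true := by decide +kernel

theorem ded4_480 : allFrom (dedAt level4 pack4 [] []) 480 540 = true := by decide +kernel

theorem ded4_540 : allFrom (dedAt level4 pack4 [] []) 540 600 = true := by decide +kernel

theorem ded4_600 : allFrom (dedAt level4 pack4 [] []) 600 660 = true := by decide +kernel

theorem ded4_660 : allFrom (dedAt level4 pack4 [] []) 660 720 = true := by decide +kernel

theorem ded4_720 : allFrom (dedAt level4 pack4 [] []) 720 780 = true := by decide +kernel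

theorem ded4_780 : allFrom (dedAt level4 pack4 [] []) 780 840 = true := by decide +kernel

theorem ded4_840 : allFrom (dedAt level4 pack4 [] []) 840 900 = true := by decide +kernel

theorem ded4_900 : allFrom (dedAt level4 pack4 [] []) 900 960 = true := by decide +kernel

theorem ded4_960 : allFrom (dedAt level4 pack4 [] []) 960 1020 = true := by decide +kernel

theorem ded4_1020 : allFrom (dedAt level4 pack4 [] []) 1020 1080 = true := by decide +kernel

theorem ded4_1080 : allFrom (dedAt level4 pack4 [] []) 1080 1140 = true := by decide +kernel

theorem ded4_1140 : allFrom (dedAt level4 pack4 [] []) 1140 1200 = true := by decide +kernel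

theorem ded4_1200 : allFrom (dedAt level4 pack4 [] []) 1200 1260 = true := by decide +kernel

theorem ded4_1260 : allFrom (dedAt level4 pack4 [] []) 1260 1320 = true := by decide +kernel

theorem ded4_1320 : allFrom (dedAt level4 pack4 [] []) 1320 1380 = true := by decide +kernel

theorem ded4_1380 : allFrom (dedAt level4 pack4 [] []) 1380 1440 = true := by decide +kernel

theorem ded4_1440 : allFrom (dedAt level4 pack4 [] []) 1440 1500 = true := by decide +kernel

theorem ded4_1500 : allFrom (dedAt level4 pack4 [] []) 1500 1560 = true := by decide +kernel

theorem ded4_1560 : allFrom (dedAt level4 pack4 [] []) 1560 1620 = true := by decide +kernel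

theorem ded4_1620 : allFrom (dedAt level4 pack4 [] []) 1620 1680 = true := by decide +kernel

theorem ded4_1680 : allFrom (dedAt level4 pack4 [] []) 1680 1740 = true := by decide +kernel

theorem ded4_1740 : allFrom (dedAt level4 pack4 [] []) 1740 1800 = true := by decide +kernel

theorem ded4_1800 : allFrom (dedAt level4 pack4 [] []) 1800 1860 = true := by decide +kernel

theorem ded4_1860 : allFrom (dedAt level4 pack4 [] []) 1860 1920 = true := by decide +kernel

theorem ded4_1920 : allFrom (dedAt level4 pack4 [] []) 1920 1945 = true := by decide +kernel

end CfsgLib.Sporadic.MultCoThreePart
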