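import Mathlib
import Cfsg.Agent.Lib.Sporadic.MultCoThreePart.Check0
import Cfsg.Agent.Lib.Sporadic.MultCoThreePart.Check0Row0
import Cfsg.Agent.Lib.Sporadic.MultCoThreePart.Check0Rel0
import Cfsg.Agent.Lib.Sporadic.MultCoThreePart.Check0Ded0
import Cfsg.Agent.Lib.Sporadic.MultCoThreePart.Check0Eqn0
import Cfsg.Agent.Lib.Sporadic.MultCoThreePart.Check1
import Cfsg.Agent.Lib.Sporadic.MultCoThreePart.Check1Row0
import Cfsg.Agent.Lib.Sporadic.MultCoThreePart.Check1Rel0
import Cfsg.Agent.Lib.Sporadic.MultCoThreePart.Check1Ded0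
import Cfsg.Agent.Lib.Sporadic.MultCoThreePart.Check1Eqn0
import Cfsg.Agent.Lib.Sporadic.MultCoThreePart.Check2
import Cfsg.Agent.Lib.Sporadic.MultCoThreePart.Check2Row0
import Cfsg.Agent.Lib.Sporadic.MultCoThreePart.Check2Rel0
import Cfsg.Agent.Lib.Sporadic.MultCoThreePart.Check2Ded0
import Cfsg.Agent.Lib.Sporadic.MultCoThreePart.Check2Eqn0
import Cfsg.Agent.Lib.Sporadic.MultCoThreePart.Check3
import Cfsg.Agent.Lib.Sporadic.MultCoThreePart.Check3Rel0
import Cfsg.Agent.Lib.Sporadic.MultCoThreePart.Check3Ded0
import Cfsg.Agent.Lib.Sporadic.MultCoThreePart.Check3Eqn0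
import Cfsg.Agent.Lib.Sporadic.MultCoThreePart.Check4
import Cfsg.Agent.Lib.Sporadic.MultCoThreePart.Check4Rel0
import Cfsg.Agent.Lib.Sporadic.MultCoThreePart.Check4Ded0
import Cfsg.Agent.Lib.Sporadic.MultCoThreePart.Check4Eqn0
import Cfsg.Agent.Lib.Sporadic.MultCoThreePart.CheckLin0
import Cfsg.Agent.Lib.Schur.CheckParts

/-!
# All checks of the chain
-/

set_option autoImplicit false
set_option maxRecDepth 100000
set_option maxHeartbeats 0
set_option Elab.async false

noncomputable section

namespace CfsgLib.Sporadic.MultCoThreePart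

open CfsgLib.Schur.Cert CfsgLib.Sporadic

theorem shape0 : shapeOK (chainRels chain top) rows level0 [level1, level2, level3, level4] (top) = true :=
  shapeOK_of_parts head0 (allFrom_trans srel0_0 (allFrom_trans srel0_2 (allFrom_trans srel0_4 (srel0_6)))) (allFrom_trans row0_0 (row0_10))

theorem deds0 : dedsOK level0 [level1, level2, level3, level4] = true :=
  dedsOK_of_parts pack_ok0 (packsOK_cons pack_ok1 (packsOK_cons pack_ok2 (packsOK_cons pack_ok3 (packsOK_cons pack_ok4 (rfl))))) (allFrom_trans ded0_0 (allFrom_trans ded0_3 (allFrom_trans ded0_6 (allFrom_trans ded0_9 (ded0_12)))))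

theorem eqns0 : eqnsOK level0 [level1, level2, level3, level4] = true :=
  eqnsOK_of_parts pack_ok0 (packsOK_cons pack_ok1 (packsOK_cons pack_ok2 (packsOK_cons pack_ok3 (packsOK_cons pack_ok4 (rfl))))) (allFrom_trans eqn0_0 (allFrom_trans eqn0_3 (eqn0_6)))

theorem shape1 : shapeOK (chainRels chain top) rows level1 [level2, level3, level4] (nextWords (top) level0) = true :=
  shapeOK_of_parts head1 (allFrom_trans srel1_0 (srel1_2)) (row1_0)

theorem deds1 : dedsOK level1 [level2, level3, level4] = true :=
  dedsOK_of_parts pack_ok1 (packsOK_cons pack_ok2 (packsOK_cons pack_ok3 (packsOK_cons pack_ok4 (rfl)))) (allFrom_trans ded1_0 (ded1_3))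

theorem eqns1 : eqnsOK level1 [level2, level3, level4] = true :=
  eqnsOK_of_parts pack_ok1 (packsOK_cons pack_ok2 (packsOK_cons pack_ok3 (packsOK_cons pack_ok4 (rfl)))) (eqn1_0)

theorem shape2 : shapeOK (chainRels chain top) rows level2 [level3, level4] (nextWords (nextWords (top) level0) level1) = true :=
  shapeOK_of_parts head2 (allFrom_trans srel2_0 (srel2_2)) (row2_0)

theorem deds2 : dedsOK level2 [level3, level4] = true :=
  dedsOK_of_parts pack_ok2 (packsOK_cons pack_ok3 (packsOK_cons pack_ok4 (rfl))) (ded2_0)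

theorem eqns2 : eqnsOK level2 [level3, level4] = true :=
  eqnsOK_of_parts pack_ok2 (packsOK_cons pack_ok3 (packsOK_cons pack_ok4 (rfl))) (eqn2_0)

theorem shape3 : shapeOK (chainRels chain top) rows level3 [level4] (nextWords (nextWords (nextWords (top) level0) level1) level2) = true :=
  shapeOK_of_parts head3 (allFrom_trans srel3_0 (srel3_2)) (row3_0)

theorem deds3 : dedsOK level3 [level4] = true :=
  dedsOK_of_parts pack_ok3 (packsOK_cons pack_ok4 (rfl)) (ded3_0)

theorem eqns3 : eqnsOK level3 [level4] = true :=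
  eqnsOK_of_parts pack_ok3 (packsOK_cons pack_ok4 (rfl)) (eqn3_0)

theorem shape4 : shapeOK (chainRels chain top) rows level4 [] (nextWords (nextWords (nextWords (nextWords (top) level0) level1) level2) level3) = true :=
  shapeOK_of_parts head4 (allFrom_trans srel4_0 (allFrom_trans srel4_2 (allFrom_trans srel4_4 (srel4_6)))) (allFrom_trans row4_0 (allFrom_trans row4_80 (allFrom_trans row4_160 (allFrom_trans row4_240 (allFrom_trans row4_320 (allFrom_trans row4_400 (allFrom_trans row4_480 (allFrom_trans row4_560 (allFrom_trans row4_640 (allFrom_trans row4_720 (allFrom_trans row4_800 (allFrom_trans row4_880 (row4_960)))))))))))))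

theorem deds4 : dedsOK level4 [] = true :=
  dedsOK_of_parts pack_ok4 (rfl) (allFrom_trans ded4_0 (allFrom_trans ded4_60 (allFrom_trans ded4_120 (allFrom_trans ded4_180 (allFrom_trans ded4_240 (allFrom_trans ded4_300 (allFrom_trans ded4_360 (allFrom_trans ded4_420 (allFrom_trans ded4_480 (allFrom_trans ded4_540 (allFrom_trans ded4_600 (allFrom_trans ded4_660 (allFrom_trans ded4_720 (allFrom_trans ded4_780 (allFrom_trans ded4_840 (allFrom_trans ded4_900 (allFrom_trans ded4_960 (allFrom_trans ded4_1020 (allFrom_trans ded4_1080 (allFrom_trans ded4_1140 (allFrom_trans ded4_1200 (allFrom_trans ded4_1260 (allFrom_trans ded4_1320 (allFrom_trans ded4_1380 (allFrom_trans ded4_1440 (allFrom_trans ded4_1500 (allFrom_trans ded4_1560 (allFrom_trans ded4_1620 (allFrom_trans ded4_1680 (allFrom_trans ded4_1740 (allFrom_trans ded4_1800 (allFrom_trans ded4_1860 (ded4_1920)))))))))))))))))))))))))))))))))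

theorem eqns4 : eqnsOK level4 [] = true :=
  eqnsOK_of_parts pack_ok4 (rfl) (eqn4_0)

theorem perms_check : permsOKN 552 chain = true :=
  permsOKN_cons permsGen0 (allFrom_trans rel0_0 (allFrom_trans rel0_1 (allFrom_trans rel0_2 (allFrom_trans rel0_3 (allFrom_trans rel0_4 (allFrom_trans rel0_5 (rel0_6))))))) (path0_0) permsKey0 (permsOKN_cons permsGen1 (allFrom_trans rel1_0 (allFrom_trans rel1_1 (allFrom_trans rel1_2 (rel1_3)))) (path1_0) permsKey1 (permsOKN_cons permsGen2 (allFrom_trans rel2_0 (allFrom_trans rel2_1 (allFrom_trans rel2_2 (rel2_3)))) (path2_0) permsKey2 (permsOKN_cons permsGen3 (allFrom_trans rel3_0 (allFrom_trans rel3_1 (allFrom_trans rel3_2 (rel3_3)))) (path3_0) permsKey3 (permsOKN_cons permsGen4 (allFrom_trans rel4_0 (allFrom_trans rel4_2 (allFrom_trans rel4_4 (rel4_6)))) (allFrom_trans path4_0 (allFrom_trans path4_200 (allFrom_trans path4_400 (allFrom_trans path4_600 (path4_800))))) permsKey4 (rfl)))))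

theorem rows_check : rows = relRows (chainRels chain top) ∧ chainExp chain = top.map (wexp vunit) := by decide +kernel

theorem lastWords : (nextWords (nextWords (nextWords (nextWords (nextWords (top) level0) level1) level2) level3) level4).isEmpty = true := by decide +kernel

theorem tables_check : tablesOK (chainRels chain top) rows chain top = true := by
  show tablesOK (chainRels chain top) rows [level0, level1, level2, level3, level4] top = true
  simp only [tablesOK, shape0, deds0, eqns0, shape1, deds1, eqns1, shape2, deds2, eqns2, shape3, deds3, eqns3, shape4, deds4, eqns4, lastWords, Bool.and_self]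

theorem lin_check : lin.ok rows 2 (chainEqns chain) = true :=
  LinCert.ok_of_parts linHead_check (allFrom_trans linUnit_0 (allFrom_trans linUnit_5 (allFrom_trans linUnit_10 (linUnit_15)))) (allFrom_trans linKind_0 (allFrom_trans linKind_2 (allFrom_trans linKind_4 (allFrom_trans linKind_6 (allFrom_trans linKind_8 (allFrom_trans linKind_10 (allFrom_trans linKind_12 (allFrom_trans linKind_14 (linKind_16)))))))))

end CfsgLib.Sporadic.MultCoThreePart
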