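import Mathlib
import Cfsg.Agent.Lib.Sporadic.ChainCertificate
import Cfsg.Agent.Lib.Schur.TrieFast

/-!
# Coset table 4 of a chain
-/

set_option autoImplicit false
set_option maxRecDepth 100000
set_option maxHeartbeats 0
set_option Elab.async false

noncomputable section

namespace CfsgLib.Sporadic.MultCoThreePart

open CfsgLib.Schur.Cert

/-- data -/
def next4 : Trie (ℕ) := .node (.node (.node (.node (.node (.node (.node (.node (.node (.node (.node (.node (.leaf 1) (.leaf 808)) (.leaf 614)) (.node (.node (.leaf 74) (.leaf 543)) (.leaf 803))) (.node (.node (.node (.leaf 193) (.leaf 877)) (.leaf 715)) (.node (.node (.leaf 471) (.leaf 786)) (.leaf 777)))) (.node (.node (.node (.node (.leaf 16) (.leaf 437)) (.leaf 670)) (.node (.node (.leaf 424) (.leaf 251)) (.leaf 776))) (.node (.node (.node (.leaf 172) (.leaf 518)) (.leaf 567)) (.node (.leaf 559) (.leaf 804))))) (.node (.node (.node (.node (.node (.leaf 55) (.leaf 908)) (.leaf 634)) (.node (.node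 (.leaf 13) (.leaf 648)) (.leaf 602))) (.node (.node (.node (.leaf 43) (.leaf 782)) (.leaf 737)) (.node (.node (.leaf 21) (.leaf 971)) (.leaf 343)))) (.node (.node (.node (.node (.leaf 149) (.leaf 459)) (.leaf 76)) (.node (.node (.leaf 105) (.leaf 223)) (.leaf 846))) (.node (.node (.node (.leaf 307) (.leaf 859)) (.leaf 764)) (.node (.leaf 580) (.leaf 863)))))) (.node (.node (.node (.node (.node (.node (.leaf 28) (.leaf 236)) (.leaf 631)) (.node (.node (.leaf 40) (.leaf 957)) (.leaf 269))) (.node (.node (.node (.leaf 5) (.leaf 491)) (.leaf 445)) (.node (.node (.leaf 123) (.leaf 555)) (.leaf 708)))) (.node (.node (.node (.node (.leaf 127) (.leaf 917)) (.leaf 193)) (.node (.node (.leaf 332) (.leaf 702)) (.leaf 778))) (.node (.node (.node (.leaf 294) (.leaf 290)) (.leaf 46)) (.node (.leaf 538) (.leaf 447))))) (.node (.node (.node (.node (.node (.leaf 80) (.leaf 865)) (.leaf 661)) (.node (.node (.leaf 89) (.leaf 858)) (.leaf 699))) (.node (.node (.node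 (.leaf 253) (.leaf 841)) (.leaf 745)) (.node (.node (.leaf 427) (.leaf 953)) (.leaf 827)))) (.node (.node (.node (.node (.leaf 170) (.leaf 662)) (.leaf 656)) (.node (.node (.leaf 381) (.leaf 930)) (.leaf 785))) (.node (.node (.node (.leaf 331) (.leaf 571)) (.leaf 791)) (.node (.leaf 598) (.leaf 783))))))) (.node (.node (.node (.node (.node (.node (.node (.leaf 16) (.leaf 744)) (.leaf 166)) (.node (.node (.leaf 362) (.leaf 610)) (.leaf 109))) (.node (.node (.node (.leaf 205) (.leaf 148)) (.leaf 567)) (.node (.node (.leaf 42) (.leaf 525)) (.leaf 856)))) (.node (.node (.node (.node (.leaf 118) (.leaf 439)) (.leaf 673)) (.node (.node (.leaf 97) (.leaf 203)) (.leaf 661))) (.node (.node (.node (.leaf 286) (.leaf 947)) (.leaf 242)) (.node (.leaf 367) (.leaf 795))))) (.node (.node (.node (.node (.node (.leaf 68) (.leaf 862)) (.leaf 653)) (.node (.node (.leaf 379) (.leaf 923)) (.leaf 825))) (.node (.node (.node (.leaf 164) (.leaf 510)) (.leaf 147)) (.node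 (.node (.leaf 131) (.leaf 966)) (.leaf 865)))) (.node (.node (.node (.node (.leaf 3) (.leaf 265)) (.leaf 698)) (.node (.node (.leaf 469) (.leaf 777)) (.leaf 92))) (.node (.node (.node (.leaf 67) (.leaf 343)) (.leaf 784)) (.node (.leaf 585) (.leaf 884)))))) (.node (.node (.node (.node (.node (.node (.leaf 41) (.leaf 410)) (.leaf 641)) (.node (.node (.leaf 384) (.leaf 577)) (.leaf 629))) (.node (.node (.node (.leaf 197) (.leaf 284)) (.leaf 732)) (.node (.node (.leaf 355) (.leaf 881)) (.leaf 154)))) (.node (.node (.node (.node (.leaf 137) (.leaf 394)) (.leaf 485)) (.node (.node (.leaf 446) (.leaf 962)) (.leaf 308))) (.node (.node (.node (.leaf 301) (.leaf 540)) (.leaf 162)) (.node (.leaf 575) (.leaf 768))))) (.node (.node (.node (.node (.node (.leaf 91) (.leaf 109)) (.leaf 609)) (.node (.node (.leaf 417) (.leaf 964)) (.leaf 816))) (.node (.node (.node (.leaf 69) (.leaf 345)) (.leaf 742)) (.node (.leaf 551) (.leaf 362)))) (.node (.node (.node (.node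 (.leaf 182) (.leaf 477)) (.leaf 489)) (.node (.node (.leaf 489) (.leaf 943)) (.leaf 77))) (.node (.node (.node (.leaf 336) (.leaf 438)) (.leaf 798)) (.node (.leaf 28) (.leaf 246)))))))) (.node (.node (.node (.node (.node (.node (.node (.node (.leaf 9) (.leaf 151)) (.leaf 619)) (.node (.node (.leaf 357) (.leaf 595)) (.leaf 805))) (.node (.node (.node (.leaf 199) (.leaf 484)) (.leaf 88)) (.node (.node (.leaf 503) (.leaf 425)) (.leaf 108)))) (.node (.node (.node (.node (.leaf 111) (.leaf 881)) (.leaf 187)) (.node (.node (.leaf 432) (.leaf 959)) (.leaf 636))) (.node (.node (.node (.leaf 54) (.leaf 174)) (.leaf 591)) (.node (.leaf 562) (.leaf 357))))) (.node (.node (.node (.node (.node (.leaf 60) (.leaf 420)) (.leaf 31)) (.node (.node (.leaf 85) (.leaf 533)) (.leaf 796))) (.node (.node (.node (.leaf 215) (.leaf 328)) (.leaf 226)) (.node (.node (.leaf 535) (.leaf 885)) (.leaf 746)))) (.node (.node (.node (.node (.leaf 116) (.leaf 905)) (.leaf 487)) (.node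 (.node (.leaf 466) (.leaf 425)) (.leaf 318))) (.node (.node (.node (.leaf 286) (.leaf 932)) (.leaf 621)) (.node (.leaf 587) (.leaf 434)))))) (.node (.node (.node (.node (.node (.node (.leaf 35) (.leaf 194)) (.leaf 636)) (.node (.node (.leaf 379) (.leaf 625)) (.leaf 675))) (.node (.node (.node (.leaf 39) (.leaf 872)) (.leaf 73)) (.node (.node (.leaf 279) (.leaf 488)) (.leaf 858)))) (.node (.node (.node (.node (.leaf 97) (.leaf 928)) (.leaf 686)) (.node (.node (.leaf 450) (.leaf 582)) (.leaf 227))) (.node (.node (.node (.leaf 217) (.leaf 875)) (.leaf 246)) (.node (.leaf 560) (.leaf 860))))) (.node (.node (.node (.node (.node (.leaf 86) (.leaf 916)) (.leaf 632)) (.node (.node (.leaf 391) (.leaf 964)) (.leaf 287))) (.node (.node (.node (.leaf 185) (.leaf 944)) (.leaf 574)) (.node (.leaf 135) (.leaf 669)))) (.node (.node (.node (.node (.leaf 175) (.leaf 288)) (.leaf 704)) (.node (.node (.leaf 484) (.leaf 969)) (.leaf 768))) (.node (.node (.node (.leaf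 338) (.leaf 946)) (.leaf 584)) (.node (.leaf 599) (.leaf 387))))))) (.node (.node (.node (.node (.node (.node (.node (.leaf 22) (.leaf 407)) (.leaf 626)) (.node (.node (.leaf 78) (.leaf 326)) (.leaf 738))) (.node (.node (.node (.leaf 155) (.leaf 896)) (.leaf 216)) (.node (.node (.leaf 514) (.leaf 814)) (.leaf 671)))) (.node (.node (.node (.node (.leaf 19) (.leaf 198)) (.leaf 679)) (.node (.node (.leaf 442) (.leaf 399)) (.leaf 649))) (.node (.node (.node (.leaf 175) (.leaf 530)) (.leaf 83)) (.node (.leaf 146) (.leaf 828))))) (.node (.node (.node (.node (.node (.leaf 66) (.leaf 721)) (.leaf 179)) (.node (.node (.leaf 405) (.leaf 668)) (.leaf 507))) (.node (.node (.node (.leaf 247) (.leaf 877)) (.leaf 612)) (.node (.node (.leaf 540) (.leaf 492)) (.leaf 831)))) (.node (.node (.node (.node (.leaf 162) (.leaf 469)) (.leaf 434)) (.node (.node (.leaf 474) (.leaf 968)) (.leaf 806))) (.node (.node (.node (.leaf 199) (.leaf 208)) (.leaf 255)) (.node (.leaf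 498) (.leaf 741)))))) (.node (.node (.node (.node (.node (.node (.leaf 47) (.leaf 842)) (.leaf 586)) (.node (.node (.leaf 164) (.leaf 404)) (.leaf 818))) (.node (.node (.node (.leaf 230) (.leaf 938)) (.leaf 735)) (.node (.node (.leaf 127) (.leaf 970)) (.leaf 228)))) (.node (.node (.node (.node (.leaf 144) (.leaf 270)) (.leaf 621)) (.node (.node (.leaf 17) (.leaf 712)) (.leaf 775))) (.node (.node (.node (.leaf 306) (.leaf 919)) (.leaf 775)) (.node (.leaf 557) (.leaf 371))))) (.node (.node (.node (.node (.node (.leaf 99) (.leaf 431)) (.leaf 666)) (.node (.node (.leaf 423) (.leaf 195)) (.leaf 218))) (.node (.node (.node (.leaf 270) (.leaf 889)) (.leaf 752)) (.node (.leaf 436) (.leaf 705)))) (.node (.node (.node (.node (.leaf 32) (.leaf 853)) (.leaf 38)) (.node (.node (.leaf 490) (.leaf 766)) (.leaf 853))) (.node (.node (.node (.leaf 11) (.leaf 742)) (.leaf 165)) (.node (.leaf 162) (.leaf 687))))))))) (.node (.node (.node (.node (.node (.node (.node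 (.node (.node (.leaf 5) (.leaf 117)) (.leaf 617)) (.node (.node (.leaf 21) (.leaf 597)) (.leaf 139))) (.node (.node (.node (.leaf 34) (.leaf 923)) (.leaf 133)) (.node (.node (.leaf 432) (.leaf 950)) (.leaf 330)))) (.node (.node (.node (.node (.leaf 107) (.leaf 923)) (.leaf 668)) (.node (.node (.leaf 94) (.leaf 531)) (.leaf 453))) (.node (.node (.node (.leaf 278) (.leaf 870)) (.leaf 755)) (.node (.leaf 562) (.leaf 665))))) (.node (.node (.node (.node (.node (.leaf 57) (.leaf 224)) (.leaf 649)) (.node (.node (.leaf 22) (.leaf 499)) (.leaf 820))) (.node (.node (.node (.leaf 238) (.leaf 500)) (.leaf 738)) (.node (.node (.leaf 533) (.leaf 971)) (.leaf 830)))) (.node (.node (.node (.node (.leaf 122) (.leaf 274)) (.leaf 200)) (.node (.node (.leaf 463) (.leaf 716)) (.leaf 565))) (.node (.node (.node (.leaf 64) (.leaf 900)) (.leaf 779)) (.node (.leaf 583) (.leaf 373)))))) (.node (.node (.node (.node (.node (.node (.leaf 0) (.leaf 405)) (.leaf 620)) (.node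 (.node (.leaf 376) (.leaf 564)) (.leaf 479))) (.node (.node (.node (.leaf 184) (.leaf 925)) (.leaf 729)) (.node (.node (.leaf 520) (.leaf 836)) (.leaf 718)))) (.node (.node (.node (.node (.leaf 130) (.leaf 677)) (.leaf 455)) (.node (.node (.leaf 448) (.leaf 943)) (.leaf 304))) (.node (.node (.node (.leaf 9) (.leaf 919)) (.leaf 749)) (.node (.leaf 572) (.leaf 746))))) (.node (.node (.node (.node (.node (.leaf 84) (.leaf 723)) (.leaf 663)) (.node (.node (.leaf 310) (.leaf 961)) (.leaf 484))) (.node (.node (.node (.leaf 257) (.leaf 914)) (.leaf 513)) (.node (.leaf 544) (.leaf 351)))) (.node (.node (.node (.node (.leaf 88) (.leaf 933)) (.leaf 82)) (.node (.node (.leaf 482) (.leaf 596)) (.leaf 705))) (.node (.node (.node (.leaf 334) (.leaf 210)) (.leaf 793)) (.node (.leaf 602) (.leaf 761))))))) (.node (.node (.node (.node (.node (.node (.node (.leaf 1) (.leaf 897)) (.leaf 563)) (.node (.node (.leaf 366) (.leaf 452)) (.leaf 810))) (.node (.node (.node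 (.leaf 209) (.leaf 487)) (.leaf 494)) (.node (.node (.leaf 512) (.leaf 331)) (.leaf 774)))) (.node (.node (.node (.node (.leaf 113) (.leaf 867)) (.leaf 190)) (.node (.node (.leaf 294) (.leaf 695)) (.leaf 837))) (.node (.node (.node (.leaf 288) (.leaf 267)) (.leaf 575)) (.node (.leaf 495) (.leaf 360))))) (.node (.node (.node (.node (.node (.leaf 72) (.leaf 911)) (.leaf 655)) (.node (.node (.leaf 87) (.leaf 866)) (.leaf 67))) (.node (.node (.node (.leaf 6) (.leaf 852)) (.leaf 281)) (.node (.node (.leaf 538) (.leaf 907)) (.leaf 757)))) (.node (.node (.node (.node (.leaf 159) (.leaf 908)) (.leaf 144)) (.node (.node (.leaf 471) (.leaf 968)) (.leaf 799))) (.node (.node (.node (.leaf 324) (.leaf 681)) (.leaf 786)) (.node (.leaf 156) (.leaf 82)))))) (.node (.node (.node (.node (.node (.node (.leaf 44) (.leaf 166)) (.leaf 644)) (.node (.node (.leaf 323) (.leaf 641)) (.leaf 618))) (.node (.node (.node (.leaf 41) (.leaf 247)) (.leaf 558)) (.node (.node (.leaf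 298) (.leaf 970)) (.leaf 859)))) (.node (.node (.node (.node (.leaf 140) (.leaf 850)) (.leaf 691)) (.node (.node (.leaf 455) (.leaf 910)) (.leaf 180))) (.node (.node (.node (.leaf 303) (.leaf 836)) (.leaf 772)) (.node (.leaf 403) (.leaf 753))))) (.node (.node (.node (.node (.node (.leaf 95) (.leaf 921)) (.leaf 600)) (.node (.node (.leaf 420) (.leaf 938)) (.leaf 829))) (.node (.node (.node (.leaf 267) (.leaf 600)) (.leaf 647)) (.node (.leaf 138) (.leaf 793)))) (.node (.node (.node (.node (.leaf 7) (.leaf 926)) (.leaf 709)) (.node (.node (.leaf 493) (.leaf 901)) (.leaf 706))) (.node (.node (.node (.leaf 346) (.leaf 873)) (.leaf 616)) (.node (.leaf 406) (.leaf 891)))))))) (.node (.node (.node (.node (.node (.node (.node (.node (.leaf 12) (.leaf 894)) (.leaf 440)) (.node (.node (.leaf 359) (.leaf 955)) (.leaf 650))) (.node (.node (.node (.leaf 115) (.leaf 847)) (.leaf 721)) (.node (.node (.leaf 478) (.leaf 796)) (.leaf 798)))) (.node (.node (.node (.node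 (.leaf 115) (.leaf 894)) (.leaf 675)) (.node (.node (.leaf 436) (.leaf 933)) (.leaf 835))) (.node (.node (.node (.leaf 283) (.leaf 946)) (.leaf 527)) (.node (.leaf 144) (.leaf 662))))) (.node (.node (.node (.node (.node (.leaf 64) (.leaf 910)) (.leaf 651)) (.node (.node (.leaf 212) (.leaf 661)) (.leaf 642))) (.node (.node (.node (.leaf 209) (.leaf 841)) (.leaf 342)) (.node (.node (.leaf 351) (.leaf 966)) (.leaf 471)))) (.node (.node (.node (.node (.leaf 155) (.leaf 464)) (.leaf 553)) (.node (.node (.leaf 467) (.leaf 359)) (.leaf 729))) (.node (.node (.node (.leaf 10) (.leaf 948)) (.leaf 252)) (.node (.leaf 590) (.leaf 173)))))) (.node (.node (.node (.node (.node (.node (.leaf 4) (.leaf 821)) (.leaf 583)) (.node (.node (.leaf 382) (.leaf 959)) (.leaf 815))) (.node (.node (.node (.leaf 119) (.leaf 680)) (.leaf 672)) (.node (.node (.leaf 524) (.leaf 399)) (.leaf 797)))) (.node (.node (.node (.node (.leaf 135) (.leaf 849)) (.leaf 689)) (.node (.node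 (.leaf 261) (.leaf 879)) (.leaf 750))) (.node (.node (.node (.leaf 60) (.leaf 229)) (.leaf 769)) (.node (.leaf 514) (.leaf 368))))) (.node (.node (.node (.node (.node (.leaf 89) (.leaf 429)) (.leaf 664)) (.node (.node (.leaf 391) (.leaf 964)) (.leaf 423))) (.node (.node (.node (.leaf 261) (.leaf 311)) (.leaf 235)) (.node (.leaf 315) (.leaf 772)))) (.node (.node (.node (.node (.leaf 178) (.leaf 230)) (.leaf 581)) (.node (.node (.leaf 487) (.leaf 326)) (.leaf 852))) (.node (.node (.node (.leaf 33) (.leaf 952)) (.leaf 796)) (.node (.leaf 606) (.leaf 807))))))) (.node (.node (.node (.node (.node (.node (.node (.leaf 25) (.leaf 152)) (.leaf 628)) (.node (.node (.leaf 371) (.leaf 616)) (.leaf 812))) (.node (.node (.node (.leaf 214) (.leaf 896)) (.leaf 726)) (.node (.node (.leaf 344) (.leaf 648)) (.leaf 334)))) (.node (.node (.node (.node (.leaf 81) (.leaf 444)) (.leaf 681)) (.node (.node (.leaf 445) (.leaf 962)) (.leaf 606))) (.node (.node (.node (.leaf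 280) (.leaf 357)) (.leaf 379)) (.node (.leaf 554) (.leaf 715))))) (.node (.node (.node (.node (.node (.leaf 77) (.leaf 874)) (.leaf 659)) (.node (.node (.leaf 408) (.leaf 408)) (.leaf 827))) (.node (.node (.node (.leaf 250) (.leaf 506)) (.leaf 742)) (.node (.node (.leaf 543) (.leaf 852)) (.leaf 132)))) (.node (.node (.node (.node (.leaf 166) (.leaf 900)) (.leaf 233)) (.node (.node (.leaf 477) (.leaf 736)) (.leaf 68))) (.node (.node (.node (.leaf 329) (.leaf 939)) (.leaf 512)) (.node (.leaf 499) (.leaf 547)))))) (.node (.node (.node (.node (.node (.node (.leaf 51) (.leaf 906)) (.leaf 637)) (.node (.node (.leaf 390) (.leaf 404)) (.leaf 683))) (.node (.node (.node (.leaf 233) (.leaf 902)) (.leaf 232)) (.node (.node (.leaf 306) (.leaf 971)) (.leaf 847)))) (.node (.node (.node (.node (.leaf 24) (.leaf 930)) (.leaf 573)) (.node (.node (.leaf 393) (.leaf 936)) (.leaf 313))) (.node (.node (.node (.leaf 249) (.leaf 551)) (.leaf 132)) (.node (.leaf 578) (.leaf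 222))))) (.node (.node (.node (.node (.node (.leaf 96) (.leaf 878)) (.leaf 652)) (.node (.node (.leaf 426) (.leaf 686)) (.leaf 218))) (.node (.node (.node (.leaf 272) (.leaf 294)) (.leaf 125)) (.node (.leaf 24) (.leaf 869)))) (.node (.node (.node (.node (.leaf 189) (.leaf 480)) (.leaf 679)) (.node (.node (.leaf 117) (.leaf 549)) (.leaf 636))) (.node (.node (.node (.leaf 285) (.leaf 955)) (.leaf 794)) (.node (.leaf 611) (.leaf 105)))))))))) (.node (.node (.node (.node (.node (.node (.node (.node (.node (.node (.leaf 3) (.leaf 669)) (.leaf 615)) (.node (.node (.leaf 352) (.leaf 892)) (.leaf 262))) (.node (.node (.node (.leaf 195) (.leaf 483)) (.leaf 716)) (.node (.node (.leaf 499) (.leaf 604)) (.leaf 855)))) (.node (.node (.node (.node (.leaf 71) (.leaf 898)) (.leaf 186)) (.node (.node (.leaf 428) (.leaf 688)) (.leaf 701))) (.node (.node (.node (.leaf 276) (.leaf 698)) (.leaf 517)) (.node (.leaf 560) (.leaf 356))))) (.node (.node (.node (.node (.node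 (.leaf 56) (.leaf 418)) (.leaf 595)) (.node (.node (.leaf 393) (.leaf 960)) (.leaf 497))) (.node (.node (.node (.leaf 232) (.leaf 224)) (.leaf 613)) (.node (.node (.leaf 532) (.leaf 945)) (.leaf 752)))) (.node (.node (.node (.node (.leaf 150) (.leaf 931)) (.leaf 561)) (.node (.node (.leaf 461) (.leaf 406)) (.leaf 847))) (.node (.node (.node (.leaf 312) (.leaf 939)) (.leaf 62)) (.node (.leaf 581) (.leaf 787)))))) (.node (.node (.node (.node (.node (.node (.leaf 30) (.leaf 897)) (.leaf 633)) (.node (.node (.leaf 374) (.leaf 623)) (.leaf 468))) (.node (.node (.node (.leaf 217) (.leaf 243)) (.leaf 728)) (.node (.node (.leaf 292) (.leaf 727)) (.leaf 337)))) (.node (.node (.node (.node (.leaf 128) (.leaf 926)) (.leaf 525)) (.node (.node (.leaf 100) (.leaf 597)) (.leaf 130))) (.node (.node (.node (.leaf 283) (.leaf 857)) (.leaf 766)) (.node (.leaf 57) (.leaf 708))))) (.node (.node (.node (.node (.node (.leaf 82) (.leaf 313)) (.leaf 32)) (.node (.node (.leaf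 407) (.leaf 376)) (.leaf 812))) (.node (.node (.node (.leaf 255) (.leaf 508)) (.leaf 125)) (.node (.node (.leaf 134) (.leaf 824)) (.leaf 654)))) (.node (.node (.node (.node (.leaf 172) (.leaf 845)) (.leaf 207)) (.node (.node (.leaf 382) (.leaf 738)) (.leaf 774))) (.node (.node (.node (.leaf 332) (.leaf 948)) (.leaf 623)) (.node (.leaf 600) (.leaf 408))))))) (.node (.node (.node (.node (.node (.node (.node (.leaf 18) (.leaf 896)) (.leaf 623)) (.node (.node (.leaf 364) (.leaf 388)) (.leaf 809))) (.node (.node (.node (.leaf 207) (.leaf 876)) (.leaf 723)) (.node (.node (.leaf 510) (.leaf 802)) (.leaf 687)))) (.node (.node (.node (.node (.leaf 119) (.leaf 99)) (.leaf 677)) (.node (.node (.leaf 439) (.leaf 963)) (.leaf 375))) (.node (.node (.node (.leaf 204) (.leaf 948)) (.leaf 492)) (.node (.leaf 566) (.leaf 772))))) (.node (.node (.node (.node (.node (.leaf 70) (.leaf 396)) (.leaf 654)) (.node (.node (.leaf 401) (.leaf 931)) (.leaf 185))) (.node (.node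 (.node (.leaf 45) (.leaf 274)) (.leaf 594)) (.node (.node (.leaf 419) (.leaf 871)) (.leaf 347)))) (.node (.node (.node (.node (.leaf 158) (.leaf 466)) (.leaf 699)) (.node (.node (.leaf 141) (.leaf 547)) (.leaf 667))) (.node (.node (.node (.leaf 322) (.leaf 946)) (.leaf 253)) (.node (.leaf 593) (.leaf 882)))))) (.node (.node (.node (.node (.node (.node (.leaf 42) (.leaf 879)) (.leaf 59)) (.node (.node (.leaf 282) (.leaf 851)) (.leaf 788))) (.node (.node (.node (.leaf 226) (.leaf 603)) (.leaf 733)) (.node (.node (.leaf 126) (.leaf 967)) (.leaf 820)))) (.node (.node (.node (.node (.leaf 77) (.leaf 826)) (.leaf 196)) (.node (.node (.leaf 303) (.leaf 731)) (.leaf 773))) (.node (.node (.node (.leaf 302) (.leaf 281)) (.leaf 135)) (.node (.leaf 124) (.leaf 369))))) (.node (.node (.node (.node (.node (.leaf 93) (.leaf 908)) (.leaf 56)) (.node (.node (.leaf 91) (.leaf 541)) (.leaf 751))) (.node (.node (.node (.leaf 265) (.leaf 259)) (.leaf 750)) (.node (.leaf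 534) (.leaf 128)))) (.node (.node (.node (.node (.leaf 183) (.leaf 899)) (.leaf 574)) (.node (.node (.leaf 491) (.leaf 533)) (.leaf 804))) (.node (.node (.node (.leaf 345) (.leaf 579)) (.leaf 794)) (.node (.leaf 588) (.leaf 890)))))))) (.node (.node (.node (.node (.node (.node (.node (.node (.leaf 11) (.leaf 893)) (.leaf 165)) (.node (.node (.leaf 325) (.leaf 602)) (.leaf 806))) (.node (.node (.node (.leaf 35) (.leaf 918)) (.leaf 719)) (.node (.node (.leaf 505) (.leaf 341)) (.leaf 806)))) (.node (.node (.node (.node (.leaf 113) (.leaf 860)) (.leaf 508)) (.node (.node (.leaf 434) (.leaf 387)) (.leaf 834))) (.node (.node (.node (.leaf 277) (.leaf 866)) (.leaf 241)) (.node (.leaf 551) (.leaf 813))))) (.node (.node (.node (.node (.node (.leaf 62) (.leaf 784)) (.leaf 522)) (.node (.node (.leaf 398) (.leaf 359)) (.leaf 823))) (.node (.node (.node (.leaf 6) (.leaf 501)) (.leaf 561)) (.node (.node (.leaf 140) (.leaf 579)) (.leaf 829)))) (.node (.node (.node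 (.node (.leaf 133) (.leaf 617)) (.leaf 672)) (.node (.node (.leaf 380) (.leaf 769)) (.leaf 767))) (.node (.node (.node (.leaf 317) (.leaf 810)) (.leaf 782)) (.node (.leaf 589) (.leaf 863)))))) (.node (.node (.node (.node (.node (.node (.leaf 37) (.leaf 903)) (.leaf 638)) (.node (.node (.leaf 380) (.leaf 926)) (.leaf 347))) (.node (.node (.node (.leaf 222) (.leaf 903)) (.leaf 219)) (.node (.node (.leaf 523) (.leaf 846)) (.leaf 734)))) (.node (.node (.node (.node (.leaf 133) (.leaf 211)) (.leaf 266)) (.node (.node (.leaf 276) (.leaf 961)) (.leaf 841))) (.node (.node (.node (.leaf 298) (.leaf 537)) (.leaf 496)) (.node (.leaf 573) (.leaf 348))))) (.node (.node (.node (.node (.node (.leaf 80) (.leaf 919)) (.leaf 182)) (.node (.node (.leaf 415) (.leaf 675)) (.leaf 486))) (.node (.node (.node (.leaf 259) (.leaf 888)) (.leaf 217)) (.node (.leaf 415) (.leaf 844)))) (.node (.node (.node (.node (.leaf 176) (.leaf 476)) (.leaf 513)) (.node (.node (.leaf 485)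 (.leaf 956)) (.leaf 739))) (.node (.node (.node (.leaf 340) (.leaf 292)) (.leaf 795)) (.node (.leaf 605) (.leaf 832))))))) (.node (.node (.node (.node (.node (.node (.node (.leaf 23) (.leaf 898)) (.leaf 364)) (.node (.node (.leaf 362) (.leaf 465)) (.leaf 811))) (.node (.node (.node (.leaf 213) (.leaf 554)) (.leaf 453)) (.node (.node (.leaf 515) (.leaf 935)) (.leaf 842)))) (.node (.node (.node (.node (.leaf 85) (.leaf 163)) (.leaf 277)) (.node (.node (.leaf 181) (.leaf 697)) (.leaf 644))) (.node (.node (.node (.leaf 292) (.leaf 694)) (.leaf 763)) (.node (.leaf 556) (.leaf 874))))) (.node (.node (.node (.node (.node (.leaf 76) (.leaf 914)) (.leaf 441)) (.node (.node (.leaf 406) (.leaf 245)) (.leaf 692))) (.node (.node (.node (.leaf 249) (.leaf 810)) (.leaf 741)) (.node (.node (.leaf 542) (.leaf 917)) (.leaf 619)))) (.node (.node (.node (.node (.leaf 164) (.leaf 932)) (.leaf 620)) (.node (.node (.leaf 476) (.leaf 524)) (.leaf 321))) (.node (.node (.node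 (.leaf 200) (.leaf 655)) (.leaf 630)) (.node (.leaf 157) (.leaf 837)))))) (.node (.node (.node (.node (.node (.node (.leaf 49) (.leaf 840)) (.leaf 646)) (.node (.node (.leaf 389) (.leaf 645)) (.leaf 682))) (.node (.node (.node (.leaf 231) (.leaf 474)) (.leaf 618)) (.node (.node (.leaf 376) (.leaf 521)) (.leaf 862)))) (.node (.node (.node (.node (.leaf 146) (.leaf 929)) (.leaf 692)) (.node (.node (.leaf 446) (.leaf 563)) (.leaf 785))) (.node (.node (.node (.leaf 308) (.leaf 205)) (.leaf 249)) (.node (.leaf 540) (.leaf 745))))) (.node (.node (.node (.node (.node (.leaf 15) (.leaf 288)) (.leaf 527)) (.node (.node (.leaf 360) (.leaf 940)) (.leaf 293))) (.node (.node (.node (.leaf 142) (.leaf 682)) (.leaf 712)) (.node (.leaf 555) (.leaf 754)))) (.node (.node (.node (.node (.leaf 145) (.leaf 715)) (.leaf 711)) (.node (.node (.leaf 86) (.leaf 771)) (.leaf 828))) (.node (.node (.node (.leaf 348) (.leaf 938)) (.leaf 50)) (.node (.leaf 28) (.leaf 782)))))))))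 (.node (.node (.node (.node (.node (.node (.node (.node (.node (.leaf 7) (.leaf 395)) (.leaf 451)) (.node (.node (.leaf 355) (.leaf 954)) (.leaf 685))) (.node (.node (.node (.leaf 192) (.leaf 915)) (.leaf 717)) (.node (.node (.leaf 501) (.leaf 789)) (.leaf 811)))) (.node (.node (.node (.node (.leaf 109) (.leaf 818)) (.leaf 672)) (.node (.node (.leaf 431) (.leaf 296)) (.leaf 833))) (.node (.node (.node (.leaf 280) (.leaf 544)) (.leaf 48)) (.node (.leaf 563) (.leaf 139))))) (.node (.node (.node (.node (.node (.leaf 59) (.leaf 861)) (.leaf 176)) (.node (.node (.leaf 395) (.leaf 751)) (.leaf 575))) (.node (.node (.node (.leaf 239) (.leaf 927)) (.leaf 676)) (.node (.node (.leaf 534) (.leaf 625)) (.leaf 345)))) (.node (.node (.node (.node (.leaf 3) (.leaf 461)) (.leaf 695)) (.node (.node (.leaf 465) (.leaf 951)) (.leaf 740))) (.node (.node (.node (.leaf 314) (.leaf 927)) (.leaf 251)) (.node (.leaf 585) (.leaf 880)))))) (.node (.node (.node (.node (.node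 (.node (.leaf 33) (.leaf 901)) (.leaf 635)) (.node (.node (.leaf 378) (.leaf 944)) (.leaf 270))) (.node (.node (.node (.leaf 219) (.leaf 631)) (.leaf 426)) (.node (.node (.leaf 521) (.leaf 776)) (.leaf 734)))) (.node (.node (.node (.node (.leaf 131) (.leaf 885)) (.leaf 685)) (.node (.node (.leaf 282) (.leaf 720)) (.leaf 803))) (.node (.node (.node (.leaf 280) (.leaf 937)) (.leaf 767)) (.node (.leaf 500) (.leaf 382))))) (.node (.node (.node (.node (.node (.leaf 85) (.leaf 918)) (.leaf 41)) (.node (.node (.leaf 413) (.leaf 963)) (.leaf 111))) (.node (.node (.node (.leaf 167) (.leaf 928)) (.leaf 747)) (.node (.leaf 361) (.leaf 75)))) (.node (.node (.node (.node (.leaf 173) (.leaf 188)) (.leaf 568)) (.node (.node (.leaf 483) (.leaf 627)) (.leaf 336))) (.node (.node (.node (.leaf 336) (.leaf 632)) (.leaf 783)) (.node (.leaf 160) (.leaf 843))))))) (.node (.node (.node (.node (.node (.node (.node (.leaf 12) (.leaf 781)) (.leaf 168)) (.node (.node (.leaf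 368) (.leaf 728)) (.leaf 572))) (.node (.node (.node (.leaf 37) (.leaf 892)) (.leaf 725)) (.node (.node (.leaf 372) (.leaf 967)) (.leaf 333)))) (.node (.node (.node (.node (.leaf 122) (.leaf 442)) (.leaf 608)) (.node (.node (.leaf 441) (.leaf 965)) (.leaf 61))) (.node (.node (.node (.leaf 289) (.leaf 942)) (.leaf 760)) (.node (.leaf 124) (.leaf 790))))) (.node (.node (.node (.node (.node (.leaf 10) (.leaf 912)) (.leaf 614)) (.node (.node (.leaf 403) (.leaf 909)) (.leaf 826))) (.node (.node (.node (.leaf 246) (.leaf 942)) (.leaf 696)) (.node (.node (.leaf 539) (.leaf 758)) (.leaf 701)))) (.node (.node (.node (.node (.leaf 161) (.leaf 862)) (.leaf 203)) (.node (.node (.leaf 473) (.leaf 733)) (.leaf 613))) (.node (.node (.node (.leaf 326) (.leaf 240)) (.leaf 601)) (.node (.leaf 542) (.leaf 882)))))) (.node (.node (.node (.node (.node (.node (.leaf 45) (.leaf 411)) (.leaf 634)) (.node (.node (.leaf 83) (.leaf 959)) (.leaf 817))) (.node (.node (.node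 (.leaf 228) (.leaf 279)) (.leaf 734)) (.node (.node (.leaf 392) (.leaf 895)) (.leaf 112)))) (.node (.node (.node (.node (.leaf 142) (.leaf 654)) (.leaf 412)) (.node (.node (.leaf 332) (.leaf 400)) (.leaf 310))) (.node (.node (.node (.leaf 304) (.leaf 545)) (.leaf 89)) (.node (.leaf 577) (.leaf 760))))) (.node (.node (.node (.node (.node (.leaf 97) (.leaf 202)) (.leaf 184)) (.node (.node (.leaf 421) (.leaf 679)) (.leaf 515))) (.node (.node (.node (.leaf 51) (.leaf 904)) (.leaf 102)) (.node (.leaf 460) (.leaf 354)))) (.node (.node (.node (.node (.leaf 186) (.leaf 490)) (.leaf 710)) (.node (.node (.leaf 494) (.leaf 957)) (.leaf 755))) (.node (.node (.node (.leaf 347) (.leaf 954)) (.leaf 800)) (.node (.leaf 47) (.leaf 890)))))))) (.node (.node (.node (.node (.node (.node (.node (.node (.leaf 14) (.leaf 895)) (.leaf 621)) (.node (.node (.leaf 23) (.leaf 449)) (.leaf 807))) (.node (.node (.node (.leaf 203) (.leaf 486)) (.leaf 517)) (.node (.node (.leaf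 507) (.leaf 667)) (.leaf 790)))) (.node (.node (.node (.node (.leaf 117) (.leaf 275)) (.leaf 189)) (.node (.node (.leaf 437) (.leaf 692)) (.leaf 836))) (.node (.node (.node (.leaf 55) (.leaf 870)) (.leaf 757)) (.node (.leaf 477) (.leaf 358))))) (.node (.node (.node (.node (.node (.leaf 66) (.leaf 421)) (.leaf 652)) (.node (.node (.leaf 400) (.leaf 884)) (.leaf 496))) (.node (.node (.node (.leaf 225) (.leaf 856)) (.leaf 740)) (.node (.node (.leaf 466) (.leaf 890)) (.leaf 119)))) (.node (.node (.node (.node (.leaf 26) (.leaf 846)) (.leaf 697)) (.node (.node (.leaf 266) (.leaf 664)) (.leaf 849))) (.node (.node (.node (.leaf 320) (.leaf 950)) (.leaf 684)) (.node (.leaf 591) (.leaf 539)))))) (.node (.node (.node (.node (.node (.node (.leaf 0) (.leaf 393)) (.leaf 640)) (.node (.node (.leaf 383) (.leaf 629)) (.leaf 120))) (.node (.node (.node (.leaf 224) (.leaf 369)) (.leaf 731)) (.node (.node (.leaf 258) (.leaf 420)) (.leaf 340)))) (.node (.node (.node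 (.node (.leaf 94) (.leaf 452)) (.leaf 676)) (.node (.node (.leaf 453) (.leaf 591)) (.leaf 587))) (.node (.node (.node (.leaf 9) (.leaf 895)) (.leaf 770)) (.node (.leaf 372) (.leaf 503))))) (.node (.node (.node (.node (.node (.leaf 13) (.leaf 868)) (.leaf 388)) (.node (.node (.leaf 324) (.leaf 191)) (.leaf 289))) (.node (.node (.node (.leaf 262) (.leaf 592)) (.leaf 605)) (.node (.leaf 136) (.leaf 824)))) (.node (.node (.node (.node (.leaf 180) (.leaf 929)) (.leaf 706)) (.node (.node (.leaf 338) (.leaf 834)) (.leaf 617))) (.node (.node (.node (.leaf 72) (.leaf 911)) (.leaf 104)) (.node (.leaf 593) (.leaf 389))))))) (.node (.node (.node (.node (.node (.node (.node (.leaf 26) (.leaf 900)) (.leaf 629)) (.node (.node (.leaf 372) (.leaf 526)) (.leaf 507))) (.node (.node (.node (.leaf 216) (.leaf 918)) (.leaf 727)) (.node (.node (.leaf 518) (.leaf 816)) (.leaf 723)))) (.node (.node (.node (.node (.leaf 125) (.leaf 725)) (.leaf 682)) (.node (.node (.leaf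 427) (.leaf 626)) (.leaf 301))) (.node (.node (.node (.leaf 207) (.leaf 534)) (.leaf 765)) (.node (.leaf 570) (.leaf 752))))) (.node (.node (.node (.node (.node (.leaf 79) (.leaf 786)) (.leaf 180)) (.node (.node (.leaf 410) (.leaf 666)) (.leaf 479))) (.node (.node (.node (.leaf 66) (.leaf 371)) (.leaf 98)) (.node (.node (.leaf 545) (.leaf 706)) (.leaf 350)))) (.node (.node (.node (.node (.leaf 168) (.leaf 473)) (.leaf 58)) (.node (.node (.leaf 479) (.leaf 312)) (.leaf 136))) (.node (.node (.node (.leaf 330) (.leaf 349)) (.leaf 790)) (.node (.leaf 597) (.leaf 238)))))) (.node (.node (.node (.node (.node (.node (.leaf 53) (.leaf 250)) (.leaf 31)) (.node (.node (.leaf 392) (.leaf 439)) (.leaf 757))) (.node (.node (.node (.leaf 235) (.leaf 528)) (.leaf 546)) (.node (.node (.leaf 128) (.leaf 430)) (.leaf 747)))) (.node (.node (.node (.node (.leaf 140) (.leaf 330)) (.leaf 199)) (.node (.node (.leaf 458) (.leaf 719)) (.leaf 845))) (.node (.node (.node (.leaf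 63) (.leaf 944)) (.leaf 776)) (.node (.leaf 472) (.leaf 877))))) (.node (.node (.node (.node (.node (.leaf 103) (.leaf 433)) (.leaf 315)) (.node (.node (.leaf 93) (.leaf 380)) (.leaf 691))) (.node (.node (.node (.leaf 221) (.leaf 911)) (.leaf 753)) (.node (.leaf 53) (.leaf 727)))) (.node (.node (.node (.node (.leaf 191) (.leaf 887)) (.leaf 713)) (.node (.node (.leaf 473) (.leaf 815)) (.leaf 725))) (.node (.node (.node (.leaf 350) (.leaf 590)) (.leaf 766)) (.node (.leaf 612) (.leaf 131))))))))))) (.node (.node (.node (.node (.node (.node (.node (.node (.node (.node (.node (.leaf 2) (.leaf 827)) (.leaf 163)) (.node (.node (.leaf 351) (.leaf 594)) (.leaf 804))) (.node (.node (.node (.leaf 194) (.leaf 202)) (.leaf 658)) (.node (.node (.leaf 447) (.leaf 644)) (.leaf 854)))) (.node (.node (.node (.node (.leaf 105) (.leaf 596)) (.leaf 72)) (.node (.node (.leaf 427) (.leaf 907)) (.leaf 788))) (.node (.node (.node (.leaf 275) (.leaf 945)) (.leaf 754)) (.node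 (.leaf 502) (.leaf 839))))) (.node (.node (.node (.node (.node (.leaf 7) (.leaf 320)) (.leaf 386)) (.node (.node (.leaf 20) (.leaf 353)) (.leaf 278))) (.node (.node (.node (.leaf 236) (.leaf 940)) (.leaf 45)) (.node (.node (.leaf 392) (.leaf 678)) (.leaf 745)))) (.node (.node (.node (.node (.leaf 143) (.leaf 223)) (.leaf 694)) (.node (.node (.leaf 460) (.leaf 968)) (.leaf 186))) (.node (.node (.node (.leaf 311) (.leaf 395)) (.leaf 777)) (.node (.leaf 341) (.leaf 878)))))) (.node (.node (.node (.node (.node (.node (.leaf 29) (.leaf 403)) (.leaf 632)) (.node (.node (.leaf 79) (.leaf 335)) (.leaf 688))) (.node (.node (.node (.leaf 182) (.leaf 924)) (.leaf 659)) (.node (.node (.leaf 276) (.leaf 817)) (.leaf 724)))) (.node (.node (.node (.node (.leaf 20) (.leaf 825)) (.leaf 409)) (.node (.node (.leaf 361) (.leaf 951)) (.leaf 303))) (.node (.node (.node (.leaf 295) (.leaf 535)) (.leaf 737)) (.node (.leaf 147) (.leaf 795))))) (.node (.node (.node (.node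 (.node (.leaf 81) (.leaf 916)) (.leaf 662)) (.node (.node (.leaf 411) (.leaf 962)) (.leaf 57))) (.node (.node (.node (.leaf 254) (.leaf 915)) (.leaf 714)) (.node (.node (.leaf 454) (.leaf 913)) (.leaf 868)))) (.node (.node (.node (.node (.leaf 171) (.leaf 532)) (.leaf 612)) (.node (.node (.leaf 481) (.leaf 262)) (.leaf 762))) (.node (.node (.node (.leaf 17) (.leaf 891)) (.leaf 792)) (.node (.leaf 599) (.leaf 799))))))) (.node (.node (.node (.node (.node (.node (.node (.leaf 17) (.leaf 893)) (.leaf 127)) (.node (.node (.leaf 363) (.leaf 445)) (.leaf 265))) (.node (.node (.node (.leaf 206) (.leaf 937)) (.leaf 719)) (.node (.node (.leaf 509) (.leaf 728)) (.leaf 671)))) (.node (.node (.node (.node (.leaf 110) (.leaf 791)) (.leaf 676)) (.node (.node (.leaf 234) (.leaf 934)) (.leaf 834))) (.node (.node (.node (.leaf 56) (.leaf 823)) (.leaf 758)) (.node (.leaf 493) (.leaf 872))))) (.node (.node (.node (.node (.node (.leaf 69) (.leaf 422)) (.leaf 103)) (.node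 (.node (.leaf 325) (.leaf 201)) (.leaf 256))) (.node (.node (.node (.leaf 244) (.leaf 921)) (.leaf 228)) (.node (.node (.leaf 537) (.leaf 947)) (.leaf 319)))) (.node (.node (.node (.node (.leaf 122) (.leaf 350)) (.leaf 571)) (.node (.node (.leaf 470) (.leaf 545)) (.leaf 320))) (.node (.node (.node (.leaf 14) (.leaf 639)) (.leaf 785)) (.node (.leaf 197) (.leaf 753)))))) (.node (.node (.node (.node (.node (.node (.leaf 34) (.leaf 901)) (.leaf 642)) (.node (.node (.leaf 385) (.leaf 638)) (.leaf 54))) (.node (.node (.node (.leaf 225) (.leaf 295)) (.leaf 462)) (.node (.node (.leaf 410) (.leaf 536)) (.leaf 448)))) (.node (.node (.node (.node (.leaf 138) (.leaf 456)) (.leaf 509)) (.node (.node (.leaf 103) (.leaf 929)) (.leaf 90))) (.node (.node (.node (.leaf 297) (.leaf 278)) (.leaf 248)) (.node (.leaf 576) (.leaf 754))))) (.node (.node (.node (.node (.node (.leaf 92) (.leaf 871)) (.leaf 52)) (.node (.node (.leaf 418) (.leaf 655)) (.leaf 291))) (.node (.node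 (.node (.leaf 264) (.leaf 514)) (.leaf 680)) (.node (.leaf 552) (.leaf 694)))) (.node (.node (.node (.node (.leaf 4) (.leaf 121)) (.leaf 708)) (.node (.node (.leaf 490) (.leaf 758)) (.leaf 739))) (.node (.node (.node (.leaf 344) (.leaf 922)) (.leaf 799)) (.node (.leaf 400) (.leaf 889)))))))) (.node (.node (.node (.node (.node (.node (.node (.node (.leaf 10) (.leaf 396)) (.leaf 50)) (.node (.node (.leaf 76) (.leaf 522)) (.leaf 780))) (.node (.node (.node (.leaf 200) (.leaf 914)) (.leaf 718)) (.node (.node (.leaf 504) (.leaf 791)) (.leaf 826)))) (.node (.node (.node (.node (.leaf 112) (.leaf 552)) (.leaf 673)) (.node (.node (.leaf 433) (.leaf 244)) (.leaf 297))) (.node (.node (.node (.leaf 281) (.leaf 523)) (.leaf 606)) (.node (.leaf 564) (.leaf 91))))) (.node (.node (.node (.node (.node (.leaf 61) (.leaf 844)) (.leaf 637)) (.node (.node (.leaf 397) (.leaf 660)) (.leaf 822))) (.node (.node (.node (.leaf 44) (.leaf 906)) (.leaf 509)) (.node (.node (.leaf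 536) (.leaf 555)) (.leaf 402)))) (.node (.node (.node (.node (.leaf 153) (.leaf 463)) (.leaf 663)) (.node (.node (.leaf 107) (.leaf 353)) (.leaf 750))) (.node (.node (.node (.leaf 316) (.leaf 949)) (.leaf 781)) (.node (.leaf 588) (.leaf 881)))))) (.node (.node (.node (.node (.node (.node (.leaf 36) (.leaf 848)) (.leaf 637)) (.node (.node (.leaf 374) (.leaf 958)) (.leaf 271))) (.node (.node (.node (.leaf 221) (.leaf 493)) (.leaf 670)) (.node (.node (.leaf 522) (.leaf 740)) (.leaf 565)))) (.node (.node (.node (.node (.leaf 101) (.leaf 156)) (.leaf 687)) (.node (.node (.leaf 237) (.leaf 707)) (.leaf 840))) (.node (.node (.node (.leaf 240) (.leaf 878)) (.leaf 642)) (.node (.leaf 501) (.leaf 875))))) (.node (.node (.node (.node (.node (.leaf 87) (.leaf 428)) (.leaf 635)) (.node (.node (.leaf 90) (.leaf 469)) (.leaf 663))) (.node (.node (.node (.leaf 255) (.leaf 257)) (.leaf 748)) (.node (.leaf 322) (.leaf 730)))) (.node (.node (.node (.node (.leaf 30)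 (.leaf 861)) (.leaf 489)) (.node (.node (.leaf 36) (.leaf 529)) (.leaf 851))) (.node (.node (.node (.leaf 339) (.leaf 683)) (.leaf 566)) (.node (.leaf 604) (.leaf 831))))))) (.node (.node (.node (.node (.node (.node (.node (.leaf 15) (.leaf 733)) (.leaf 169)) (.node (.node (.leaf 369) (.leaf 615)) (.leaf 306))) (.node (.node (.node (.leaf 212) (.leaf 829)) (.leaf 443)) (.node (.node (.leaf 510) (.leaf 931)) (.leaf 857)))) (.node (.node (.node (.node (.leaf 2) (.leaf 924)) (.leaf 651)) (.node (.node (.leaf 443) (.leaf 521)) (.leaf 630))) (.node (.node (.node (.leaf 291) (.leaf 129)) (.leaf 762)) (.node (.leaf 25) (.leaf 674))))) (.node (.node (.node (.node (.node (.leaf 75) (.leaf 913)) (.leaf 541)) (.node (.node (.leaf 214) (.leaf 241)) (.leaf 285))) (.node (.node (.node (.leaf 248) (.leaf 505)) (.leaf 697)) (.node (.node (.leaf 541) (.leaf 969)) (.leaf 802)))) (.node (.node (.node (.node (.leaf 163) (.leaf 229)) (.leaf 204)) (.node (.node (.leaf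 475) (.leaf 735)) (.leaf 779))) (.node (.node (.node (.leaf 328) (.leaf 520)) (.leaf 604)) (.node (.leaf 569) (.leaf 383)))))) (.node (.node (.node (.node (.node (.node (.leaf 48) (.leaf 415)) (.leaf 592)) (.node (.node (.leaf 388) (.leaf 524)) (.leaf 819))) (.node (.node (.node (.leaf 121) (.leaf 939)) (.leaf 222)) (.node (.node (.leaf 528) (.leaf 897)) (.leaf 189)))) (.node (.node (.node (.node (.leaf 145) (.leaf 809)) (.leaf 429)) (.node (.node (.leaf 457) (.leaf 481)) (.leaf 312))) (.node (.node (.node (.leaf 307) (.leaf 550)) (.leaf 764)) (.node (.leaf 152) (.leaf 717))))) (.node (.node (.node (.node (.node (.leaf 100) (.leaf 864)) (.leaf 667)) (.node (.node (.leaf 424) (.leaf 963)) (.leaf 831))) (.node (.node (.node (.leaf 52) (.leaf 903)) (.leaf 651)) (.node (.leaf 554) (.leaf 365)))) (.node (.node (.node (.node (.leaf 112) (.leaf 583)) (.leaf 590)) (.node (.node (.leaf 496) (.leaf 659)) (.leaf 503))) (.node (.node (.node (.leaf 318) (.leaf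 543)) (.leaf 261)) (.node (.leaf 610) (.leaf 693))))))))) (.node (.node (.node (.node (.node (.node (.node (.node (.node (.leaf 6) (.leaf 146)) (.leaf 440)) (.node (.node (.leaf 354) (.leaf 247)) (.leaf 263))) (.node (.node (.node (.leaf 197) (.leaf 920)) (.leaf 158)) (.node (.node (.leaf 118) (.leaf 580)) (.leaf 71)))) (.node (.node (.node (.node (.leaf 108) (.leaf 894)) (.leaf 671)) (.node (.node (.leaf 430) (.leaf 957)) (.leaf 412))) (.node (.node (.node (.leaf 279) (.leaf 807)) (.leaf 666)) (.node (.leaf 401) (.leaf 870))))) (.node (.node (.node (.node (.node (.leaf 58) (.leaf 419)) (.leaf 650)) (.node (.node (.leaf 394) (.leaf 570)) (.leaf 566))) (.node (.node (.node (.leaf 160) (.leaf 271)) (.leaf 739)) (.node (.node (.leaf 459) (.leaf 886)) (.leaf 748)))) (.node (.node (.node (.node (.leaf 25) (.leaf 920)) (.leaf 36)) (.node (.node (.leaf 464) (.leaf 346)) (.leaf 316))) (.node (.node (.node (.leaf 313) (.leaf 556)) (.leaf 780)) (.node (.leaf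 584) (.leaf 879)))))) (.node (.node (.node (.node (.node (.node (.leaf 32) (.leaf 880)) (.leaf 171)) (.node (.node (.leaf 377) (.leaf 714)) (.leaf 732))) (.node (.node (.node (.leaf 218) (.leaf 302)) (.leaf 686)) (.node (.node (.leaf 383) (.leaf 609)) (.leaf 378)))) (.node (.node (.node (.node (.leaf 75) (.leaf 927)) (.leaf 548)) (.node (.node (.leaf 101) (.leaf 370)) (.leaf 839))) (.node (.node (.node (.leaf 296) (.leaf 932)) (.leaf 245)) (.node (.leaf 433) (.leaf 703))))) (.node (.node (.node (.node (.node (.leaf 12) (.leaf 917)) (.leaf 35)) (.node (.node (.leaf 248) (.leaf 906)) (.leaf 828))) (.node (.node (.node (.leaf 258) (.leaf 943)) (.leaf 707)) (.node (.leaf 548) (.leaf 689)))) (.node (.node (.node (.node (.leaf 168) (.leaf 934)) (.leaf 703)) (.node (.node (.leaf 461) (.leaf 744)) (.leaf 722))) (.node (.node (.node (.leaf 335) (.leaf 235)) (.leaf 794)) (.node (.leaf 588) (.leaf 887))))))) (.node (.node (.node (.node (.node (.node (.node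 (.leaf 20) (.leaf 398)) (.leaf 625)) (.node (.node (.leaf 367) (.leaf 260)) (.leaf 559))) (.node (.node (.node (.leaf 210) (.leaf 873)) (.leaf 724)) (.node (.node (.leaf 344) (.leaf 960)) (.leaf 793)))) (.node (.node (.node (.node (.leaf 121) (.leaf 781)) (.leaf 678)) (.node (.node (.leaf 397) (.leaf 431)) (.leaf 299))) (.node (.node (.node (.leaf 148) (.leaf 949)) (.leaf 584)) (.node (.leaf 567) (.leaf 709))))) (.node (.node (.node (.node (.node (.leaf 73) (.leaf 770)) (.leaf 656)) (.node (.node (.leaf 30) (.leaf 954)) (.leaf 74))) (.node (.node (.node (.leaf 215) (.leaf 130)) (.leaf 735)) (.node (.node (.leaf 421) (.leaf 969)) (.leaf 866)))) (.node (.node (.node (.node (.leaf 160) (.leaf 468)) (.leaf 149)) (.node (.node (.leaf 472) (.leaf 504)) (.leaf 657))) (.node (.node (.node (.leaf 325) (.leaf 216)) (.leaf 787)) (.node (.leaf 27) (.leaf 885)))))) (.node (.node (.node (.node (.node (.node (.leaf 5) (.leaf 801)) (.leaf 645)) (.node (.node (.leaf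 355) (.leaf 888)) (.leaf 275))) (.node (.node (.node (.leaf 190) (.leaf 586)) (.leaf 731)) (.node (.node (.leaf 527) (.leaf 658)) (.leaf 860)))) (.node (.node (.node (.node (.leaf 141) (.leaf 912)) (.leaf 657)) (.node (.node (.leaf 456) (.leaf 967)) (.leaf 843))) (.node (.node (.node (.leaf 61) (.leaf 176)) (.leaf 773)) (.node (.leaf 29) (.leaf 401))))) (.node (.node (.node (.node (.node (.leaf 96) (.leaf 430)) (.leaf 603)) (.node (.node (.leaf 110) (.leaf 450)) (.leaf 822))) (.node (.node (.node (.leaf 268) (.leaf 853)) (.leaf 236)) (.node (.leaf 483) (.leaf 762)))) (.node (.node (.node (.node (.leaf 185) (.leaf 851)) (.leaf 183)) (.node (.node (.leaf 338) (.leaf 549)) (.leaf 339))) (.node (.node (.node (.leaf 40) (.leaf 580)) (.leaf 763)) (.node (.leaf 608) (.leaf 748)))))))) (.node (.node (.node (.node (.node (.node (.node (.node (.leaf 13) (.leaf 698)) (.leaf 620)) (.node (.node (.leaf 360) (.leaf 605)) (.leaf 685))) (.node (.node (.node (.leaf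 202) (.leaf 865)) (.leaf 494)) (.node (.node (.leaf 506) (.leaf 833)) (.leaf 331)))) (.node (.node (.node (.node (.leaf 116) (.leaf 438)) (.leaf 423)) (.node (.node (.leaf 96) (.leaf 940)) (.leaf 177))) (.node (.node (.node (.leaf 284) (.leaf 854)) (.leaf 756)) (.node (.leaf 506) (.leaf 800))))) (.node (.node (.node (.node (.node (.leaf 65) (.leaf 191)) (.leaf 62)) (.node (.node (.leaf 239) (.leaf 289)) (.leaf 824))) (.node (.node (.node (.leaf 242) (.leaf 502)) (.leaf 368)) (.node (.node (.leaf 454) (.leaf 512)) (.leaf 863)))) (.node (.node (.node (.node (.leaf 156) (.leaf 187)) (.leaf 201)) (.node (.node (.leaf 468) (.leaf 763)) (.leaf 833))) (.node (.node (.node (.leaf 319) (.leaf 856)) (.leaf 622)) (.node (.leaf 37) (.leaf 377)))))) (.node (.node (.node (.node (.node (.node (.leaf 39) (.leaf 904)) (.leaf 639)) (.node (.node (.leaf 81) (.leaf 257)) (.leaf 114))) (.node (.node (.node (.leaf 150) (.leaf 363)) (.leaf 220)) (.node (.node (.leaf 442)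 (.leaf 970)) (.leaf 709)))) (.node (.node (.node (.node (.leaf 22) (.leaf 867)) (.leaf 690)) (.node (.node (.leaf 452) (.leaf 633)) (.leaf 307))) (.node (.node (.node (.leaf 300) (.leaf 538)) (.leaf 134)) (.node (.leaf 574) (.leaf 674))))) (.node (.node (.node (.node (.node (.leaf 90) (.leaf 95)) (.leaf 665)) (.node (.node (.leaf 358) (.leaf 677)) (.leaf 814))) (.node (.node (.node (.leaf 49) (.leaf 889)) (.leaf 44)) (.node (.leaf 550) (.leaf 352)))) (.node (.node (.node (.node (.leaf 179) (.leaf 935)) (.leaf 598)) (.node (.node (.leaf 488) (.leaf 529)) (.leaf 835))) (.node (.node (.node (.leaf 342) (.leaf 569)) (.leaf 797)) (.node (.leaf 607) (.leaf 854))))))) (.node (.node (.node (.node (.node (.node (.node (.leaf 2) (.leaf 157)) (.leaf 55)) (.node (.node (.leaf 365) (.leaf 299)) (.leaf 268))) (.node (.node (.node (.leaf 215) (.leaf 922)) (.leaf 60)) (.node (.node (.leaf 517) (.leaf 519)) (.leaf 825)))) (.node (.node (.node (.node (.leaf 87) (.leaf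 710)) (.leaf 192)) (.node (.node (.leaf 446) (.leaf 699)) (.leaf 633))) (.node (.node (.node (.leaf 58) (.leaf 942)) (.leaf 764)) (.node (.leaf 435) (.leaf 562))))) (.node (.node (.node (.node (.node (.leaf 78) (.leaf 915)) (.leaf 65)) (.node (.node (.leaf 409) (.leaf 411)) (.leaf 812))) (.node (.node (.node (.leaf 251) (.leaf 366)) (.leaf 743)) (.node (.node (.leaf 544) (.leaf 930)) (.leaf 850)))) (.node (.node (.node (.node (.leaf 167) (.leaf 820)) (.leaf 643)) (.node (.node (.leaf 478) (.leaf 444)) (.leaf 779))) (.node (.node (.node (.leaf 305) (.leaf 568)) (.leaf 789)) (.node (.leaf 158) (.leaf 161)))))) (.node (.node (.node (.node (.node (.node (.leaf 52) (.leaf 907)) (.leaf 175)) (.node (.node (.leaf 391) (.leaf 647)) (.leaf 819))) (.node (.node (.node (.leaf 234) (.leaf 835)) (.leaf 390)) (.node (.node (.leaf 530) (.leaf 965)) (.leaf 342)))) (.node (.node (.node (.node (.leaf 147) (.leaf 458)) (.leaf 690)) (.node (.node (.leaf 414) (.leaf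 364)) (.leaf 137))) (.node (.node (.node (.leaf 310) (.leaf 378)) (.leaf 250)) (.node (.leaf 579) (.leaf 273))))) (.node (.node (.node (.node (.node (.leaf 102) (.leaf 205)) (.leaf 668)) (.node (.node (.leaf 254) (.leaf 464)) (.leaf 295))) (.node (.node (.node (.leaf 273) (.leaf 611)) (.leaf 713)) (.node (.leaf 557) (.leaf 665)))) (.node (.node (.node (.node (.leaf 190) (.leaf 624)) (.leaf 211)) (.node (.node (.leaf 19) (.leaf 773)) (.leaf 711))) (.node (.node (.node (.leaf 349) (.leaf 925)) (.leaf 65)) (.node (.leaf 384) (.leaf 838)))))))))) (.node (.node (.node (.node (.node (.node (.node (.node (.node (.node (.leaf 4) (.leaf 845)) (.leaf 616)) (.node (.node (.leaf 353) (.leaf 953)) (.leaf 106))) (.node (.node (.node (.leaf 196) (.leaf 115)) (.leaf 213)) (.node (.node (.leaf 500) (.leaf 832)) (.leaf 106)))) (.node (.node (.node (.node (.leaf 106) (.leaf 462)) (.leaf 550)) (.node (.node (.leaf 429) (.leaf 354)) (.leaf 296))) (.node (.node (.node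 (.leaf 277) (.leaf 520)) (.leaf 640)) (.node (.leaf 561) (.leaf 756))))) (.node (.node (.node (.node (.node (.leaf 51) (.leaf 188)) (.leaf 607)) (.node (.node (.leaf 16) (.leaf 653)) (.leaf 518))) (.node (.node (.node (.leaf 237) (.leaf 934)) (.leaf 530)) (.node (.node (.leaf 528) (.leaf 608)) (.leaf 435)))) (.node (.node (.node (.node (.leaf 151) (.leaf 460)) (.leaf 485)) (.node (.node (.leaf 462) (.leaf 611)) (.leaf 700))) (.node (.node (.node (.leaf 181) (.leaf 704)) (.leaf 778)) (.node (.leaf 582) (.leaf 348)))))) (.node (.node (.node (.node (.node (.node (.leaf 31) (.leaf 886)) (.leaf 634)) (.node (.node (.leaf 375) (.leaf 482)) (.leaf 813))) (.node (.node (.node (.leaf 8) (.leaf 585)) (.leaf 409)) (.node (.node (.leaf 519) (.leaf 756)) (.leaf 703)))) (.node (.node (.node (.node (.leaf 129) (.leaf 883)) (.leaf 684)) (.node (.node (.leaf 447) (.leaf 966)) (.leaf 838))) (.node (.node (.node (.leaf 59) (.leaf 137)) (.leaf 711)) (.node (.leaf 571)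 (.leaf 366))))) (.node (.node (.node (.node (.node (.leaf 83) (.leaf 426)) (.leaf 39)) (.node (.node (.leaf 412) (.leaf 532)) (.leaf 695))) (.node (.node (.node (.leaf 256) (.leaf 869)) (.leaf 746)) (.node (.node (.leaf 547) (.leaf 958)) (.leaf 770)))) (.node (.node (.node (.node (.leaf 29) (.leaf 857)) (.leaf 702)) (.node (.node (.leaf 480) (.leaf 570)) (.leaf 322))) (.node (.node (.node (.leaf 333) (.leaf 951)) (.leaf 126)) (.node (.leaf 601) (.leaf 84))))))) (.node (.node (.node (.node (.node (.node (.node (.leaf 19) (.leaf 741)) (.leaf 624)) (.node (.node (.leaf 365) (.leaf 614)) (.leaf 269))) (.node (.node (.node (.leaf 208) (.leaf 787)) (.leaf 640)) (.node (.node (.leaf 511) (.leaf 457)) (.leaf 784)))) (.node (.node (.node (.node (.leaf 120) (.leaf 912)) (.leaf 539)) (.node (.node (.leaf 440) (.leaf 328)) (.leaf 778))) (.node (.node (.node (.leaf 287) (.leaf 858)) (.leaf 759)) (.node (.leaf 491) (.leaf 792))))) (.node (.node (.node (.node (.node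 (.leaf 71) (.leaf 859)) (.leaf 441)) (.node (.node (.leaf 402) (.leaf 848)) (.leaf 284))) (.node (.node (.node (.leaf 245) (.leaf 504)) (.leaf 607)) (.node (.node (.leaf 143) (.leaf 808)) (.leaf 743)))) (.node (.node (.node (.node (.leaf 153) (.leaf 321)) (.leaf 700)) (.node (.node (.leaf 448) (.leaf 726)) (.leaf 729))) (.node (.node (.node (.leaf 323) (.leaf 924)) (.leaf 220)) (.node (.leaf 594) (.leaf 381)))))) (.node (.node (.node (.node (.node (.node (.leaf 43) (.leaf 905)) (.leaf 643)) (.node (.node (.leaf 386) (.leaf 958)) (.leaf 816))) (.node (.node (.node (.leaf 227) (.leaf 309)) (.leaf 221)) (.node (.node (.leaf 526) (.leaf 883)) (.leaf 704)))) (.node (.node (.node (.node (.leaf 139) (.leaf 107)) (.leaf 64)) (.node (.node (.leaf 389) (.leaf 941)) (.leaf 842))) (.node (.node (.node (.leaf 178) (.leaf 542)) (.leaf 769)) (.node (.leaf 151) (.leaf 173))))) (.node (.node (.node (.node (.node (.leaf 94) (.leaf 920)) (.leaf 478)) (.node (.node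 (.leaf 419) (.leaf 678)) (.leaf 817))) (.node (.node (.node (.leaf 266) (.leaf 293)) (.leaf 638)) (.node (.leaf 458) (.leaf 839)))) (.node (.node (.node (.node (.leaf 184) (.leaf 921)) (.leaf 581)) (.node (.node (.leaf 492) (.leaf 465)) (.leaf 823))) (.node (.node (.node (.leaf 339) (.leaf 953)) (.leaf 260)) (.node (.leaf 384) (.leaf 830)))))))) (.node (.node (.node (.node (.node (.node (.node (.node (.leaf 0) (.leaf 98)) (.leaf 577)) (.node (.node (.leaf 358) (.leaf 302)) (.leaf 264))) (.node (.node (.node (.leaf 201) (.leaf 936)) (.leaf 720)) (.node (.node (.leaf 120) (.leaf 950)) (.leaf 792)))) (.node (.node (.node (.node (.leaf 114) (.leaf 154)) (.leaf 674)) (.node (.node (.leaf 435) (.leaf 691)) (.leaf 660))) (.node (.node (.node (.leaf 282) (.leaf 194)) (.leaf 546)) (.node (.leaf 475) (.leaf 871))))) (.node (.node (.node (.node (.node (.leaf 63) (.leaf 909)) (.leaf 386)) (.node (.node (.leaf 399) (.leaf 961)) (.leaf 628))) (.node (.node (.node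 (.leaf 241) (.leaf 329)) (.leaf 227)) (.node (.node (.leaf 394) (.leaf 893)) (.leaf 159)))) (.node (.node (.node (.node (.leaf 154) (.leaf 902)) (.leaf 696)) (.node (.node (.leaf 463) (.leaf 467)) (.leaf 848))) (.node (.node (.node (.leaf 318) (.leaf 558)) (.leaf 95)) (.node (.leaf 155) (.leaf 882)))))) (.node (.node (.node (.node (.node (.node (.leaf 38) (.leaf 722)) (.leaf 172)) (.node (.node (.leaf 381) (.leaf 627)) (.leaf 373))) (.node (.node (.node (.leaf 223) (.leaf 311)) (.leaf 79)) (.node (.node (.leaf 234) (.leaf 578)) (.leaf 809)))) (.node (.node (.node (.node (.leaf 134) (.leaf 449)) (.leaf 688)) (.node (.node (.leaf 451) (.leaf 467)) (.leaf 646))) (.node (.node (.node (.leaf 299) (.leaf 937)) (.leaf 768)) (.node (.leaf 511) (.leaf 876))))) (.node (.node (.node (.node (.node (.leaf 88) (.leaf 252)) (.leaf 548)) (.node (.node (.leaf 14) (.leaf 470)) (.leaf 670))) (.node (.node (.node (.leaf 260) (.leaf 599)) (.leaf 301)) (.node (.leaf 549)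 (.leaf 798)))) (.node (.node (.node (.node (.leaf 177) (.leaf 899)) (.leaf 705)) (.node (.node (.leaf 486) (.leaf 880)) (.leaf 138))) (.node (.node (.node (.leaf 341) (.leaf 237)) (.leaf 515)) (.node (.leaf 43) (.leaf 888))))))) (.node (.node (.node (.node (.node (.node (.node (.leaf 24) (.leaf 899)) (.leaf 627)) (.node (.node (.leaf 370) (.leaf 416)) (.leaf 732))) (.node (.node (.node (.leaf 206) (.leaf 159)) (.leaf 619)) (.node (.node (.leaf 516) (.leaf 965)) (.leaf 624)))) (.node (.node (.node (.node (.leaf 124) (.leaf 771)) (.leaf 680)) (.node (.node (.leaf 444) (.leaf 317)) (.leaf 300))) (.node (.node (.node (.leaf 293) (.leaf 855)) (.leaf 615)) (.node (.leaf 569) (.leaf 170))))) (.node (.node (.node (.node (.node (.leaf 69) (.leaf 196)) (.leaf 658)) (.node (.node (.leaf 407) (.leaf 955)) (.leaf 428))) (.node (.node (.node (.leaf 46) (.leaf 349)) (.leaf 681)) (.node (.node (.leaf 26) (.leaf 838)) (.leaf 867)))) (.node (.node (.node (.node (.leaf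 165) (.leaf 470)) (.leaf 645)) (.node (.node (.leaf 111) (.leaf 952)) (.leaf 813))) (.node (.node (.node (.leaf 327) (.leaf 557)) (.leaf 256)) (.node (.leaf 596) (.leaf 805)))))) (.node (.node (.node (.node (.node (.node (.leaf 50) (.leaf 226)) (.leaf 647)) (.node (.node (.leaf 178) (.leaf 952)) (.leaf 767))) (.node (.node (.node (.leaf 232) (.leaf 497)) (.leaf 736)) (.node (.node (.leaf 529) (.leaf 578)) (.leaf 319)))) (.node (.node (.node (.node (.leaf 116) (.leaf 263)) (.leaf 693)) (.node (.node (.leaf 334) (.leaf 713)) (.leaf 844))) (.node (.node (.node (.leaf 309) (.leaf 875)) (.leaf 92)) (.node (.leaf 405) (.leaf 437))))) (.node (.node (.node (.node (.node (.leaf 101) (.leaf 432)) (.leaf 390)) (.node (.node (.leaf 425) (.leaf 909)) (.leaf 832))) (.node (.node (.node (.leaf 271) (.leaf 398)) (.leaf 238)) (.node (.leaf 556) (.leaf 759)))) (.node (.node (.node (.node (.leaf 188) (.leaf 928)) (.leaf 712)) (.node (.node (.leaf 497) (.leaf 335))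 (.leaf 327))) (.node (.node (.node (.leaf 316) (.leaf 589)) (.leaf 802)) (.node (.leaf 593) (.leaf 811))))))))) (.node (.node (.node (.node (.node (.node (.node (.node (.node (.leaf 8) (.leaf 123)) (.leaf 618)) (.node (.node (.leaf 356) (.leaf 819)) (.leaf 649))) (.node (.node (.node (.leaf 198) (.leaf 329)) (.leaf 169)) (.node (.node (.leaf 502) (.leaf 960)) (.leaf 803)))) (.node (.node (.node (.node (.leaf 110) (.leaf 436)) (.leaf 78)) (.node (.node (.leaf 113) (.leaf 300)) (.leaf 749))) (.node (.node (.node (.leaf 259) (.leaf 291)) (.leaf 622)) (.node (.leaf 402) (.leaf 855))))) (.node (.node (.node (.node (.node (.leaf 8) (.leaf 864)) (.leaf 519)) (.node (.node (.leaf 396) (.leaf 416)) (.leaf 821))) (.node (.node (.node (.leaf 240) (.leaf 941)) (.leaf 573)) (.node (.node (.leaf 129) (.leaf 481)) (.leaf 718)))) (.node (.node (.node (.node (.leaf 152) (.leaf 800)) (.leaf 690)) (.node (.node (.leaf 418) (.leaf 822)) (.leaf 815))) (.node (.node (.node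 (.leaf 315) (.leaf 142)) (.leaf 684)) (.node (.leaf 586) (.leaf 374)))))) (.node (.node (.node (.node (.node (.node (.leaf 34) (.leaf 902)) (.leaf 631)) (.node (.node (.leaf 80) (.leaf 377)) (.leaf 814))) (.node (.node (.node (.leaf 220) (.leaf 904)) (.leaf 730)) (.node (.node (.leaf 239) (.leaf 843)) (.leaf 700)))) (.node (.node (.node (.node (.leaf 132) (.leaf 702)) (.leaf 254)) (.node (.node (.leaf 449) (.leaf 639)) (.leaf 305))) (.node (.node (.node (.leaf 297) (.leaf 536)) (.leaf 646)) (.node (.leaf 149) (.leaf 145))))) (.node (.node (.node (.node (.node (.leaf 1) (.leaf 314)) (.leaf 560)) (.node (.node (.leaf 414) (.leaf 673)) (.leaf 118))) (.node (.node (.node (.leaf 48) (.leaf 170)) (.leaf 598)) (.node (.leaf 456) (.leaf 780)))) (.node (.node (.node (.node (.leaf 174) (.leaf 475)) (.leaf 576)) (.node (.node (.leaf 114) (.leaf 936)) (.leaf 759))) (.node (.node (.node (.leaf 337) (.leaf 243)) (.leaf 258)) (.node (.leaf 603) (.leaf 179)))))))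 (.node (.node (.node (.node (.node (.node (.node (.leaf 21) (.leaf 849)) (.leaf 564)) (.node (.node (.leaf 33) (.leaf 956)) (.leaf 267))) (.node (.node (.node (.leaf 211) (.leaf 511)) (.leaf 183)) (.node (.node (.leaf 513) (.leaf 535)) (.leaf 693)))) (.node (.node (.node (.node (.leaf 123) (.leaf 308)) (.leaf 206)) (.node (.node (.leaf 167) (.leaf 696)) (.leaf 726))) (.node (.node (.node (.leaf 290) (.leaf 356)) (.leaf 761)) (.node (.leaf 568) (.leaf 873))))) (.node (.node (.node (.node (.node (.leaf 74) (.leaf 424)) (.leaf 657)) (.node (.node (.leaf 404) (.leaf 933)) (.leaf 572))) (.node (.node (.node (.leaf 242) (.leaf 231)) (.leaf 230)) (.node (.node (.leaf 214) (.leaf 913)) (.leaf 601)))) (.node (.node (.node (.node (.leaf 27) (.leaf 272)) (.leaf 552)) (.node (.node (.leaf 18) (.leaf 505)) (.leaf 765))) (.node (.node (.node (.leaf 327) (.leaf 635)) (.leaf 788)) (.node (.leaf 595) (.leaf 886)))))) (.node (.node (.node (.node (.node (.node (.leaf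 46) (.leaf 887)) (.leaf 174)) (.node (.node (.leaf 387) (.leaf 643)) (.leaf 102))) (.node (.node (.node (.leaf 229) (.leaf 212)) (.leaf 553)) (.node (.node (.leaf 414) (.leaf 716)) (.leaf 861)))) (.node (.node (.node (.node (.leaf 143) (.leaf 457)) (.leaf 443)) (.node (.node (.leaf 104) (.leaf 610)) (.leaf 765))) (.node (.node (.node (.leaf 305) (.leaf 253)) (.leaf 774)) (.node (.leaf 474) (.leaf 747))))) (.node (.node (.node (.node (.node (.leaf 98) (.leaf 231)) (.leaf 49)) (.node (.node (.leaf 422) (.leaf 874)) (.leaf 830))) (.node (.node (.node (.leaf 269) (.leaf 516)) (.leaf 751)) (.node (.leaf 553) (.leaf 821)))) (.node (.node (.node (.node (.leaf 187) (.leaf 872)) (.leaf 210)) (.node (.node (.leaf 495) (.leaf 761)) (.leaf 760))) (.node (.node (.node (.leaf 73) (.leaf 309)) (.leaf 801)) (.node (.leaf 609) (.leaf 892)))))))) (.node (.node (.node (.node (.node (.node (.node (.node (.leaf 15) (.leaf 397)) (.leaf 622)) (.node (.node (.leaf 361)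 (.leaf 385)) (.leaf 808))) (.node (.node (.node (.leaf 204) (.leaf 884)) (.leaf 722)) (.node (.node (.leaf 508) (.leaf 801)) (.leaf 797)))) (.node (.node (.node (.node (.leaf 18) (.leaf 171)) (.leaf 42)) (.node (.node (.leaf 438) (.leaf 287)) (.leaf 298))) (.node (.node (.node (.leaf 285) (.leaf 526)) (.leaf 587)) (.node (.leaf 565) (.leaf 724))))) (.node (.node (.node (.node (.node (.leaf 67) (.leaf 290)) (.leaf 177)) (.node (.node (.leaf 375) (.leaf 910)) (.leaf 628))) (.node (.node (.node (.leaf 243) (.leaf 891)) (.leaf 141)) (.node (.node (.leaf 417) (.leaf 789)) (.leaf 864)))) (.node (.node (.node (.node (.leaf 157) (.leaf 876)) (.leaf 656)) (.node (.node (.leaf 108) (.leaf 455)) (.leaf 850))) (.node (.node (.node (.leaf 321) (.leaf 337)) (.leaf 783)) (.node (.leaf 592) (.leaf 883)))))) (.node (.node (.node (.node (.node (.node (.leaf 40) (.leaf 333)) (.leaf 370)) (.node (.node (.leaf 208) (.leaf 451)) (.leaf 273))) (.node (.node (.node (.leaf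 193) (.leaf 495)) (.leaf 53)) (.node (.node (.leaf 525) (.leaf 537)) (.leaf 818)))) (.node (.node (.node (.node (.leaf 136) (.leaf 352)) (.leaf 195)) (.node (.node (.leaf 454) (.leaf 710)) (.leaf 743))) (.node (.node (.node (.leaf 283) (.leaf 945)) (.leaf 771)) (.node (.leaf 516) (.leaf 840))))) (.node (.node (.node (.node (.node (.leaf 68) (.leaf 916)) (.leaf 413)) (.node (.node (.leaf 416) (.leaf 941)) (.leaf 736))) (.node (.node (.node (.leaf 263) (.leaf 340)) (.leaf 749)) (.node (.leaf 476) (.leaf 721)))) (.node (.node (.node (.node (.leaf 181) (.leaf 317)) (.leaf 707)) (.node (.node (.leaf 367) (.leaf 641)) (.leaf 324))) (.node (.node (.node (.leaf 343) (.leaf 576)) (.leaf 653)) (.node (.leaf 161) (.leaf 225))))))) (.node (.node (.node (.node (.node (.node (.node (.leaf 27) (.leaf 233)) (.leaf 630)) (.node (.node (.leaf 373) (.leaf 664)) (.leaf 559))) (.node (.node (.node (.leaf 38) (.leaf 869)) (.leaf 413)) (.node (.node (.leaf 86) (.leaf 472))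 (.leaf 363)))) (.node (.node (.node (.node (.leaf 126) (.leaf 925)) (.leaf 683)) (.node (.node (.leaf 99) (.leaf 482)) (.leaf 805))) (.node (.node (.node (.leaf 213) (.leaf 272)) (.leaf 244)) (.node (.leaf 422) (.leaf 717))))) (.node (.node (.node (.node (.node (.leaf 11) (.leaf 219)) (.leaf 660)) (.node (.node (.leaf 323) (.leaf 268)) (.leaf 286))) (.node (.node (.node (.leaf 252) (.leaf 582)) (.leaf 744)) (.node (.node (.leaf 546) (.leaf 947)) (.leaf 730)))) (.node (.node (.node (.node (.leaf 169) (.leaf 905)) (.leaf 701)) (.node (.node (.leaf 480) (.leaf 737)) (.leaf 93))) (.node (.node (.node (.leaf 70) (.leaf 949)) (.leaf 100)) (.node (.leaf 346) (.leaf 385)))))) (.node (.node (.node (.node (.node (.node (.leaf 54) (.leaf 417)) (.leaf 648)) (.node (.node (.leaf 84) (.leaf 523)) (.leaf 589))) (.node (.node (.node (.leaf 209) (.leaf 868)) (.leaf 650)) (.node (.node (.leaf 531) (.leaf 898)) (.leaf 755)))) (.node (.node (.node (.node (.leaf 148)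 (.leaf 304)) (.leaf 70)) (.node (.node (.leaf 459) (.leaf 935)) (.leaf 314))) (.node (.node (.node (.leaf 198) (.leaf 626)) (.leaf 47)) (.node (.leaf 153) (.leaf 150))))) (.node (.node (.node (.node (.node (.leaf 104) (.leaf 922)) (.leaf 669)) (.node (.node (.leaf 23) (.leaf 956)) (.leaf 63))) (.node (.node (.node (.leaf 274) (.leaf 498)) (.leaf 720)) (.node (.leaf 558) (.leaf 837)))) (.node (.node (.node (.node (.leaf 192) (.leaf 531)) (.leaf 714)) (.node (.node (.leaf 498) (.leaf 488)) (.leaf 652))) (.node (.node (.node (.leaf 264) (.leaf 450)) (.leaf 775)) (.node (.leaf 613) (.leaf 689)))))))))))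

/-- data -/
def prev4 : Trie (ℕ) := .node (.node (.node (.node (.node (.node (.node (.node (.node (.node (.node (.node (.leaf 12) (.leaf 808)) (.leaf 320)) (.node (.node (.leaf 74) (.leaf 765)) (.leaf 500))) (.node (.node (.node (.leaf 51) (.leaf 656)) (.leaf 715)) (.node (.node (.leaf 539) (.leaf 786)) (.leaf 907)))) (.node (.node (.node (.node (.leaf 16) (.leaf 735)) (.leaf 337)) (.node (.node (.leaf 138) (.leaf 776)) (.leaf 776))) (.node (.node (.node (.leaf 54) (.leaf 518)) (.leaf 888)) (.node (.leaf 559) (.leaf 433))))) (.node (.node (.node (.node (.node (.leaf 277) (.leaf 833)) (.leaf 634)) (.node (.node (.leaf 85) (.leaf 648)) (.leaf 877))) (.node (.node (.node (.leaf 43) (.leaf 500)) (.leaf 241)) (.node (.node (.leaf 131) (.leaf 941)) (.leaf 343)))) (.node (.node (.node (.node (.leaf 401) (.leaf 459)) (.leaf 318)) (.node (.node (.leaf 105) (.leaf 716)) (.leaf 315))) (.node (.node (.node (.leaf 412) (.leaf 553)) (.leaf 764)) (.node (.leaf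 154) (.leaf 373)))))) (.node (.node (.node (.node (.node (.node (.leaf 28) (.leaf 680)) (.leaf 741)) (.node (.node (.leaf 150) (.leaf 723)) (.leaf 269))) (.node (.node (.node (.leaf 39) (.leaf 491)) (.leaf 725)) (.node (.node (.leaf 123) (.leaf 842)) (.leaf 961)))) (.node (.node (.node (.node (.leaf 442) (.leaf 549)) (.leaf 193)) (.node (.node (.leaf 790) (.leaf 702)) (.leaf 577))) (.node (.node (.node (.leaf 294) (.leaf 697)) (.leaf 245)) (.node (.leaf 850) (.leaf 447))))) (.node (.node (.node (.node (.node (.leaf 374) (.leaf 865)) (.leaf 526)) (.node (.node (.leaf 89) (.leaf 668)) (.leaf 287))) (.node (.node (.node (.leaf 47) (.leaf 749)) (.leaf 745)) (.node (.node (.leaf 760) (.leaf 953)) (.leaf 351)))) (.node (.node (.node (.node (.leaf 170) (.leaf 625)) (.leaf 877)) (.node (.node (.leaf 883) (.leaf 802)) (.leaf 785))) (.node (.node (.node (.leaf 71) (.leaf 571)) (.leaf 312)) (.node (.leaf 598) (.leaf 386))))))) (.node (.node (.node (.node (.node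 (.node (.node (.leaf 1) (.leaf 523)) (.leaf 166)) (.node (.node (.leaf 78) (.leaf 610)) (.leaf 431))) (.node (.node (.node (.leaf 205) (.leaf 571)) (.leaf 216)) (.node (.node (.leaf 121) (.leaf 866)) (.leaf 856)))) (.node (.node (.node (.node (.leaf 19) (.leaf 439)) (.leaf 230)) (.node (.node (.leaf 97) (.leaf 695)) (.leaf 312))) (.node (.node (.node (.leaf 67) (.leaf 529)) (.leaf 242)) (.node (.leaf 146) (.leaf 414))))) (.node (.node (.node (.node (.node (.leaf 68) (.leaf 612)) (.leaf 178)) (.node (.node (.leaf 101) (.leaf 695)) (.leaf 825))) (.node (.node (.node (.leaf 83) (.leaf 510)) (.leaf 435)) (.node (.node (.leaf 131) (.leaf 903)) (.leaf 767)))) (.node (.node (.node (.node (.leaf 30) (.leaf 650)) (.leaf 698)) (.node (.node (.leaf 109) (.leaf 777)) (.leaf 422))) (.node (.node (.node (.leaf 67) (.leaf 561)) (.leaf 538)) (.node (.leaf 156) (.leaf 884)))))) (.node (.node (.node (.node (.node (.node (.leaf 193) (.leaf 410)) (.leaf 173)) (.node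 (.node (.leaf 384) (.leaf 778)) (.leaf 275))) (.node (.node (.node (.leaf 56) (.leaf 496)) (.leaf 732)) (.node (.node (.leaf 821) (.leaf 881)) (.leaf 583)))) (.node (.node (.node (.node (.leaf 137) (.leaf 669)) (.leaf 914)) (.node (.node (.leaf 825) (.leaf 743)) (.leaf 308))) (.node (.node (.node (.leaf 412) (.leaf 540)) (.leaf 406)) (.node (.leaf 575) (.leaf 416))))) (.node (.node (.node (.node (.node (.leaf 324) (.leaf 469)) (.leaf 609)) (.node (.node (.leaf 840) (.leaf 964)) (.leaf 937))) (.node (.node (.node (.leaf 69) (.leaf 670)) (.leaf 895)) (.node (.leaf 806) (.leaf 362)))) (.node (.node (.node (.node (.leaf 32) (.leaf 477)) (.leaf 284)) (.node (.node (.leaf 489) (.leaf 882)) (.leaf 325))) (.node (.node (.node (.leaf 509) (.leaf 881)) (.leaf 798)) (.node (.leaf 162) (.leaf 737)))))))) (.node (.node (.node (.node (.node (.node (.node (.node (.leaf 9) (.leaf 516)) (.leaf 263)) (.node (.node (.leaf 665) (.leaf 794)) (.leaf 805))) (.node (.node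 (.node (.leaf 76) (.leaf 484)) (.leaf 214)) (.node (.node (.leaf 503) (.leaf 890)) (.leaf 380)))) (.node (.node (.node (.node (.leaf 448) (.leaf 438)) (.leaf 187)) (.node (.node (.leaf 839) (.leaf 959)) (.leaf 317))) (.node (.node (.node (.leaf 54) (.leaf 643)) (.leaf 949)) (.node (.leaf 462) (.leaf 357))))) (.node (.node (.node (.node (.node (.leaf 9) (.leaf 420)) (.leaf 180)) (.node (.node (.leaf 85) (.leaf 797)) (.leaf 955))) (.node (.node (.node (.leaf 517) (.leaf 601)) (.leaf 226)) (.node (.node (.leaf 130) (.leaf 885)) (.leaf 493)))) (.node (.node (.node (.node (.leaf 116) (.leaf 481)) (.leaf 884)) (.node (.node (.leaf 846) (.leaf 721)) (.leaf 318))) (.node (.node (.node (.leaf 692) (.leaf 932)) (.leaf 304)) (.node (.leaf 587) (.leaf 922)))))) (.node (.node (.node (.node (.node (.node (.leaf 4) (.leaf 409)) (.leaf 636)) (.node (.node (.leaf 81) (.leaf 625)) (.leaf 395))) (.node (.node (.node (.leaf 39) (.leaf 732)) (.leaf 343)) (.node (.node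 (.leaf 518) (.leaf 873)) (.leaf 858)))) (.node (.node (.node (.node (.leaf 22) (.leaf 928)) (.leaf 220)) (.node (.node (.leaf 450) (.leaf 894)) (.leaf 418))) (.node (.node (.node (.leaf 60) (.leaf 634)) (.leaf 246)) (.node (.leaf 150) (.leaf 506))))) (.node (.node (.node (.node (.node (.leaf 86) (.leaf 650)) (.leaf 886)) (.node (.node (.leaf 724) (.leaf 871)) (.leaf 287))) (.node (.node (.node (.leaf 49) (.leaf 944)) (.leaf 235)) (.node (.leaf 135) (.leaf 376)))) (.node (.node (.node (.node (.leaf 59) (.leaf 658)) (.leaf 704)) (.node (.node (.leaf 115) (.leaf 969)) (.leaf 323))) (.node (.node (.node (.leaf 338) (.leaf 575)) (.leaf 259)) (.node (.leaf 698) (.leaf 387))))))) (.node (.node (.node (.node (.node (.node (.node (.leaf 97) (.leaf 407)) (.leaf 798)) (.node (.node (.leaf 78) (.leaf 760)) (.leaf 268))) (.node (.node (.node (.leaf 586) (.leaf 490)) (.leaf 216)) (.node (.node (.leaf 123) (.leaf 814)) (.leaf 463)))) (.node (.node (.node (.node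 (.leaf 19) (.leaf 443)) (.leaf 274)) (.node (.node (.leaf 127) (.leaf 781)) (.leaf 649))) (.node (.node (.node (.leaf 586) (.leaf 530)) (.leaf 303)) (.node (.leaf 146) (.leaf 948))))) (.node (.node (.node (.node (.node (.leaf 316) (.leaf 425)) (.leaf 179)) (.node (.node (.leaf 158) (.leaf 668)) (.leaf 891))) (.node (.node (.node (.leaf 247) (.leaf 602)) (.leaf 231)) (.node (.node (.leaf 169) (.leaf 924)) (.leaf 831)))) (.node (.node (.node (.node (.leaf 28) (.leaf 469)) (.leaf 378)) (.node (.node (.leaf 474) (.leaf 852)) (.leaf 504))) (.node (.node (.node (.leaf 692) (.leaf 702)) (.leaf 255)) (.node (.leaf 792) (.leaf 683)))))) (.node (.node (.node (.node (.node (.node (.leaf 47) (.leaf 555)) (.leaf 175)) (.node (.node (.leaf 616) (.leaf 765)) (.leaf 818))) (.node (.node (.node (.leaf 506) (.leaf 938)) (.leaf 437)) (.node (.node (.leaf 127) (.leaf 935)) (.leaf 508)))) (.node (.node (.node (.node (.leaf 24) (.leaf 688)) (.leaf 621)) (.node (.node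 (.leaf 105) (.leaf 712)) (.leaf 450))) (.node (.node (.node (.leaf 306) (.leaf 776)) (.leaf 952)) (.node (.leaf 762) (.leaf 371))))) (.node (.node (.node (.node (.node (.leaf 167) (.leaf 431)) (.leaf 245)) (.node (.node (.leaf 423) (.leaf 688)) (.leaf 413))) (.node (.node (.node (.leaf 459) (.leaf 517)) (.leaf 752)) (.node (.leaf 898) (.leaf 361)))) (.node (.node (.node (.node (.leaf 32) (.leaf 479)) (.leaf 211)) (.node (.node (.leaf 117) (.leaf 916)) (.leaf 853))) (.node (.node (.node (.leaf 74) (.leaf 742)) (.leaf 400)) (.node (.leaf 162) (.leaf 393))))))))) (.node (.node (.node (.node (.node (.node (.node (.node (.node (.leaf 34) (.leaf 493)) (.leaf 617)) (.node (.node (.leaf 128) (.leaf 597)) (.leaf 419))) (.node (.node (.node (.leaf 34) (.leaf 486)) (.leaf 214)) (.node (.node (.leaf 868) (.leaf 894)) (.leaf 330)))) (.node (.node (.node (.node (.leaf 463) (.leaf 923)) (.leaf 858)) (.node (.node (.leaf 94) (.leaf 689)) (.leaf 297))) (.node (.node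 (.node (.leaf 54) (.leaf 543)) (.leaf 755)) (.node (.leaf 143) (.leaf 357))))) (.node (.node (.node (.node (.node (.leaf 57) (.leaf 637)) (.leaf 350)) (.node (.node (.leaf 85) (.leaf 774)) (.leaf 820))) (.node (.node (.node (.leaf 600) (.leaf 500)) (.leaf 226)) (.node (.node (.leaf 533) (.leaf 878)) (.leaf 414)))) (.node (.node (.node (.node (.leaf 372) (.leaf 679)) (.leaf 200)) (.node (.node (.leaf 107) (.leaf 716)) (.leaf 869))) (.node (.node (.node (.leaf 64) (.leaf 580)) (.leaf 968)) (.node (.leaf 154) (.leaf 373)))))) (.node (.node (.node (.node (.node (.node (.leaf 4) (.leaf 405)) (.leaf 920)) (.node (.node (.leaf 376) (.leaf 772)) (.leaf 926))) (.node (.node (.node (.leaf 39) (.leaf 515)) (.leaf 729)) (.node (.node (.leaf 885) (.leaf 836)) (.leaf 338)))) (.node (.node (.node (.node (.leaf 130) (.leaf 480)) (.leaf 710)) (.node (.node (.leaf 111) (.leaf 704)) (.leaf 304))) (.node (.node (.node (.leaf 60) (.leaf 919)) (.leaf 962)) (.node (.leaf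 572) (.leaf 597))))) (.node (.node (.node (.node (.node (.leaf 178) (.leaf 957)) (.leaf 663)) (.node (.node (.leaf 134) (.leaf 961)) (.leaf 287))) (.node (.node (.node (.leaf 257) (.leaf 700)) (.leaf 235)) (.node (.leaf 135) (.leaf 351)))) (.node (.node (.node (.node (.leaf 30) (.leaf 933)) (.leaf 282)) (.node (.node (.leaf 482) (.leaf 912)) (.leaf 323))) (.node (.node (.node (.leaf 71) (.leaf 707)) (.leaf 793)) (.node (.leaf 224) (.leaf 389))))))) (.node (.node (.node (.node (.node (.node (.node (.leaf 1) (.leaf 682)) (.leaf 654)) (.node (.node (.leaf 78) (.leaf 615)) (.leaf 810))) (.node (.node (.node (.leaf 489) (.leaf 487)) (.leaf 216)) (.node (.node (.leaf 512) (.leaf 826)) (.leaf 499)))) (.node (.node (.node (.node (.leaf 19) (.leaf 521)) (.leaf 190)) (.node (.node (.leaf 497) (.leaf 695)) (.leaf 451))) (.node (.node (.node (.leaf 288) (.leaf 550)) (.leaf 293)) (.node (.leaf 146) (.leaf 360))))) (.node (.node (.node (.node (.node (.leaf 336)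 (.leaf 911)) (.leaf 783)) (.node (.node (.leaf 87) (.leaf 664)) (.leaf 318))) (.node (.node (.node (.leaf 49) (.leaf 536)) (.leaf 281)) (.node (.node (.leaf 784) (.leaf 907)) (.leaf 348)))) (.node (.node (.node (.node (.leaf 159) (.leaf 657)) (.leaf 402)) (.node (.node (.leaf 110) (.leaf 779)) (.leaf 799))) (.node (.node (.node (.leaf 739) (.leaf 681)) (.leaf 254)) (.node (.leaf 156) (.leaf 383)))))) (.node (.node (.node (.node (.node (.node (.leaf 160) (.leaf 577)) (.leaf 644)) (.node (.node (.leaf 705) (.leaf 641)) (.leaf 932))) (.node (.node (.node (.leaf 41) (.leaf 496)) (.leaf 927)) (.node (.node (.leaf 660) (.leaf 861)) (.leaf 859)))) (.node (.node (.node (.node (.leaf 24) (.leaf 850)) (.leaf 300)) (.node (.node (.leaf 455) (.leaf 712)) (.leaf 541))) (.node (.node (.node (.leaf 83) (.leaf 648)) (.leaf 772)) (.node (.leaf 169) (.leaf 370))))) (.node (.node (.node (.node (.node (.leaf 95) (.leaf 634)) (.leaf 238)) (.node (.node (.leaf 106) (.leaf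 854)) (.leaf 829))) (.node (.node (.node (.leaf 306) (.leaf 600)) (.leaf 934)) (.node (.leaf 138) (.leaf 596)))) (.node (.node (.node (.node (.leaf 32) (.leaf 479)) (.leaf 709)) (.node (.node (.leaf 117) (.leaf 901)) (.leaf 335))) (.node (.node (.node (.leaf 346) (.leaf 690)) (.leaf 261)) (.node (.leaf 162) (.leaf 891)))))))) (.node (.node (.node (.node (.node (.node (.node (.node (.leaf 1) (.leaf 894)) (.leaf 805)) (.node (.node (.leaf 359) (.leaf 758)) (.leaf 265))) (.node (.node (.node (.leaf 487) (.leaf 646)) (.leaf 721)) (.node (.node (.leaf 121) (.leaf 796)) (.leaf 626)))) (.node (.node (.node (.node (.leaf 115) (.leaf 582)) (.leaf 378)) (.node (.node (.leaf 141) (.leaf 756)) (.leaf 835))) (.node (.node (.node (.leaf 628) (.leaf 946)) (.leaf 255)) (.node (.leaf 144) (.leaf 939))))) (.node (.node (.node (.node (.node (.leaf 9) (.leaf 608)) (.leaf 651)) (.node (.node (.leaf 713) (.leaf 661)) (.leaf 954))) (.node (.node (.node (.leaf 209) (.leaf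 604)) (.leaf 860)) (.node (.node (.leaf 827) (.leaf 888)) (.leaf 471)))) (.node (.node (.node (.node (.leaf 37) (.leaf 464)) (.leaf 438)) (.node (.node (.leaf 467) (.leaf 721)) (.leaf 320))) (.node (.node (.node (.leaf 70) (.leaf 828)) (.leaf 252)) (.node (.leaf 156) (.leaf 641)))))) (.node (.node (.node (.node (.node (.node (.leaf 4) (.leaf 456)) (.leaf 173)) (.node (.node (.leaf 539) (.leaf 789)) (.leaf 815))) (.node (.node (.node (.leaf 501) (.leaf 680)) (.leaf 371)) (.node (.node (.leaf 524) (.leaf 854)) (.leaf 456)))) (.node (.node (.node (.node (.leaf 544) (.leaf 578)) (.leaf 689)) (.node (.node (.leaf 616) (.leaf 879)) (.leaf 328))) (.node (.node (.node (.leaf 60) (.leaf 736)) (.leaf 248)) (.node (.leaf 715) (.leaf 368))))) (.node (.node (.node (.node (.node (.leaf 407) (.leaf 429)) (.leaf 866)) (.node (.node (.leaf 391) (.leaf 804)) (.leaf 377))) (.node (.node (.node (.leaf 104) (.leaf 640)) (.leaf 235)) (.node (.leaf 846) (.leaf 564))))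 (.node (.node (.node (.node (.leaf 178) (.leaf 673)) (.leaf 954)) (.node (.node (.leaf 115) (.leaf 823)) (.leaf 852))) (.node (.node (.node (.leaf 112) (.leaf 952)) (.leaf 259)) (.node (.leaf 606) (.leaf 450))))))) (.node (.node (.node (.node (.node (.node (.node (.leaf 143) (.leaf 542)) (.leaf 628)) (.node (.node (.leaf 572) (.leaf 616)) (.leaf 904))) (.node (.node (.node (.leaf 214) (.leaf 597)) (.leaf 296)) (.node (.node (.leaf 123) (.leaf 836)) (.leaf 334)))) (.node (.node (.node (.node (.leaf 379) (.leaf 444)) (.leaf 233)) (.node (.node (.leaf 445) (.leaf 749)) (.leaf 349))) (.node (.node (.node (.leaf 822) (.leaf 614)) (.leaf 379)) (.node (.leaf 733) (.leaf 514))))) (.node (.node (.node (.node (.node (.leaf 77) (.leaf 468)) (.leaf 314)) (.node (.node (.leaf 880) (.leaf 773)) (.leaf 827))) (.node (.node (.node (.leaf 47) (.leaf 506)) (.leaf 232)) (.node (.node (.leaf 543) (.leaf 968)) (.leaf 537)))) (.node (.node (.node (.node (.leaf 28) (.leaf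 641)) (.leaf 233)) (.node (.node (.leaf 899) (.leaf 736)) (.leaf 325))) (.node (.node (.node (.leaf 329) (.leaf 793)) (.leaf 257)) (.node (.leaf 770) (.leaf 547)))))) (.node (.node (.node (.node (.node (.node (.leaf 7) (.leaf 906)) (.leaf 224)) (.node (.node (.leaf 390) (.leaf 849)) (.leaf 278))) (.node (.node (.node (.leaf 681) (.leaf 555)) (.leaf 232)) (.node (.node (.leaf 267) (.leaf 971)) (.leaf 591)))) (.node (.node (.node (.node (.leaf 24) (.leaf 659)) (.leaf 872)) (.node (.node (.leaf 105) (.leaf 715)) (.leaf 313))) (.node (.node (.node (.leaf 135) (.leaf 551)) (.leaf 421)) (.node (.leaf 578) (.leaf 373))))) (.node (.node (.node (.node (.node (.leaf 375) (.leaf 645)) (.leaf 652)) (.node (.node (.leaf 196) (.leaf 686)) (.leaf 409))) (.node (.node (.node (.leaf 272) (.leaf 744)) (.leaf 239)) (.node (.leaf 144) (.leaf 869)))) (.node (.node (.node (.node (.leaf 673) (.leaf 480)) (.leaf 941)) (.node (.node (.leaf 117) (.leaf 823)) (.leaf 329)))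 (.node (.node (.node (.leaf 74) (.leaf 796)) (.leaf 794)) (.node (.leaf 805) (.leaf 393)))))))))) (.node (.node (.node (.node (.node (.node (.node (.node (.node (.node (.leaf 3) (.leaf 394)) (.leaf 452)) (.node (.node (.leaf 730) (.leaf 815)) (.leaf 262))) (.node (.node (.node (.leaf 254) (.leaf 483)) (.leaf 223)) (.node (.node (.leaf 499) (.leaf 841)) (.leaf 461)))) (.node (.node (.node (.node (.leaf 334) (.leaf 436)) (.leaf 186)) (.node (.node (.leaf 285) (.leaf 688)) (.leaf 949))) (.node (.node (.node (.leaf 276) (.leaf 599)) (.leaf 889)) (.node (.leaf 142) (.leaf 356))))) (.node (.node (.node (.node (.node (.leaf 8) (.leaf 418)) (.leaf 176)) (.node (.node (.leaf 393) (.leaf 830)) (.leaf 294))) (.node (.node (.node (.leaf 742) (.leaf 602)) (.leaf 613)) (.node (.node (.leaf 827) (.leaf 945)) (.leaf 627)))) (.node (.node (.node (.node (.leaf 150) (.leaf 658)) (.leaf 918)) (.node (.node (.leaf 844) (.leaf 778)) (.leaf 847))) (.node (.node (.node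 (.leaf 661) (.leaf 939)) (.leaf 251)) (.node (.leaf 581) (.leaf 644)))))) (.node (.node (.node (.node (.node (.node (.leaf 3) (.leaf 635)) (.leaf 633)) (.node (.node (.leaf 80) (.leaf 623)) (.leaf 874))) (.node (.node (.node (.leaf 217) (.leaf 584)) (.leaf 848)) (.node (.node (.leaf 817) (.leaf 940)) (.leaf 337)))) (.node (.node (.node (.node (.leaf 21) (.leaf 926)) (.leaf 832)) (.node (.node (.leaf 100) (.leaf 896)) (.leaf 535))) (.node (.node (.node (.leaf 513) (.leaf 551)) (.leaf 766)) (.node (.leaf 204) (.leaf 392))))) (.node (.node (.node (.node (.node (.leaf 82) (.leaf 649)) (.leaf 182)) (.node (.node (.leaf 901) (.leaf 669)) (.leaf 812))) (.node (.node (.node (.leaf 48) (.leaf 508)) (.leaf 234)) (.node (.node (.leaf 134) (.leaf 961)) (.leaf 563)))) (.node (.node (.node (.node (.leaf 631) (.leaf 475)) (.leaf 207)) (.node (.node (.leaf 114) (.leaf 738)) (.leaf 474))) (.node (.node (.node (.leaf 332) (.leaf 572)) (.leaf 299)) (.node (.leaf 945)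 (.leaf 408))))))) (.node (.node (.node (.node (.node (.node (.node (.leaf 110) (.leaf 896)) (.leaf 167)) (.node (.node (.leaf 364) (.leaf 710)) (.leaf 266))) (.node (.node (.node (.leaf 37) (.leaf 604)) (.leaf 723)) (.node (.node (.leaf 122) (.leaf 802)) (.leaf 380)))) (.node (.node (.node (.node (.leaf 119) (.leaf 444)) (.leaf 447)) (.node (.node (.leaf 714) (.leaf 788)) (.leaf 375))) (.node (.node (.node (.leaf 57) (.leaf 948)) (.leaf 302)) (.node (.leaf 566) (.leaf 569))))) (.node (.node (.node (.node (.node (.leaf 10) (.leaf 735)) (.leaf 654)) (.node (.node (.leaf 149) (.leaf 931)) (.leaf 390))) (.node (.node (.node (.leaf 45) (.leaf 645)) (.leaf 229)) (.node (.node (.leaf 139) (.leaf 964)) (.leaf 347)))) (.node (.node (.node (.node (.leaf 405) (.leaf 466)) (.leaf 884)) (.node (.node (.leaf 141) (.leaf 769)) (.leaf 321))) (.node (.node (.node (.leaf 93) (.leaf 969)) (.leaf 253)) (.node (.leaf 932) (.leaf 943)))))) (.node (.node (.node (.node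 (.node (.node (.leaf 42) (.leaf 411)) (.leaf 207)) (.node (.node (.leaf 82) (.leaf 812)) (.leaf 788))) (.node (.node (.node (.leaf 466) (.leaf 603)) (.leaf 402)) (.node (.node (.leaf 126) (.leaf 857)) (.leaf 370)))) (.node (.node (.node (.node (.leaf 23) (.leaf 464)) (.leaf 196)) (.node (.node (.leaf 104) (.leaf 731)) (.leaf 310))) (.node (.node (.node (.leaf 302) (.leaf 629)) (.leaf 249)) (.node (.leaf 383) (.leaf 369))))) (.node (.node (.node (.node (.node (.leaf 424) (.leaf 908)) (.leaf 197)) (.node (.node (.leaf 91) (.leaf 794)) (.leaf 385))) (.node (.node (.node (.leaf 50) (.leaf 584)) (.leaf 750)) (.node (.leaf 220) (.leaf 376)))) (.node (.node (.node (.node (.leaf 183) (.leaf 508)) (.leaf 309)) (.node (.node (.leaf 116) (.leaf 759)) (.leaf 804))) (.node (.node (.node (.leaf 700) (.leaf 579)) (.leaf 541)) (.node (.leaf 588) (.leaf 391)))))))) (.node (.node (.node (.node (.node (.node (.node (.node (.leaf 69) (.leaf 439)) (.leaf 165)) (.node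 (.node (.leaf 77) (.leaf 602)) (.leaf 551))) (.node (.node (.node (.leaf 35) (.leaf 734)) (.leaf 215)) (.node (.node (.leaf 130) (.leaf 818)) (.leaf 806)))) (.node (.node (.node (.node (.leaf 480) (.leaf 860)) (.leaf 899)) (.node (.node (.leaf 434) (.leaf 763)) (.leaf 444))) (.node (.node (.node (.leaf 55) (.leaf 525)) (.leaf 241)) (.node (.leaf 857) (.leaf 358))))) (.node (.node (.node (.node (.node (.leaf 62) (.leaf 460)) (.leaf 799)) (.node (.node (.leaf 893) (.leaf 724)) (.leaf 823))) (.node (.node (.node (.leaf 45) (.leaf 501)) (.leaf 343)) (.node (.node (.leaf 140) (.leaf 887)) (.leaf 495)))) (.node (.node (.node (.node (.leaf 26) (.leaf 579)) (.leaf 672)) (.node (.node (.leaf 108) (.leaf 769)) (.leaf 963))) (.node (.node (.node (.leaf 317) (.leaf 788)) (.leaf 431)) (.node (.leaf 202) (.leaf 863)))))) (.node (.node (.node (.node (.node (.node (.leaf 155) (.leaf 903)) (.leaf 188)) (.node (.node (.leaf 380) (.leaf 740)) (.leaf 273))) (.node (.node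 (.node (.leaf 731) (.leaf 494)) (.leaf 219)) (.node (.node (.leaf 744) (.leaf 846)) (.leaf 918)))) (.node (.node (.node (.node (.leaf 133) (.leaf 592)) (.leaf 809)) (.node (.node (.leaf 102) (.leaf 708)) (.leaf 841))) (.node (.node (.node (.leaf 126) (.leaf 537)) (.leaf 247)) (.node (.leaf 573) (.leaf 630))))) (.node (.node (.node (.node (.node (.leaf 13) (.leaf 621)) (.leaf 182)) (.node (.node (.leaf 91) (.leaf 675)) (.leaf 923))) (.node (.node (.node (.leaf 259) (.leaf 567)) (.leaf 443)) (.node (.leaf 136) (.leaf 844)))) (.node (.node (.node (.node (.leaf 31) (.leaf 476)) (.leaf 283)) (.node (.node (.leaf 485) (.leaf 747)) (.leaf 324))) (.node (.node (.node (.leaf 72) (.leaf 576)) (.leaf 795)) (.node (.leaf 233) (.leaf 525))))))) (.node (.node (.node (.node (.node (.node (.node (.leaf 23) (.leaf 401)) (.leaf 170)) (.node (.node (.leaf 674) (.leaf 754)) (.leaf 811))) (.node (.node (.node (.leaf 58) (.leaf 554)) (.leaf 308)) (.node (.node (.leaf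 515) (.leaf 970)) (.leaf 564)))) (.node (.node (.node (.node (.leaf 22) (.leaf 610)) (.leaf 277)) (.node (.node (.leaf 660) (.leaf 697)) (.leaf 915))) (.node (.node (.node (.leaf 292) (.leaf 532)) (.leaf 260)) (.node (.leaf 149) (.leaf 874))))) (.node (.node (.node (.node (.node (.leaf 199) (.leaf 914)) (.leaf 799)) (.node (.node (.leaf 406) (.leaf 666)) (.leaf 286))) (.node (.node (.node (.leaf 89) (.leaf 633)) (.leaf 741)) (.node (.node (.leaf 152) (.leaf 917)) (.leaf 350)))) (.node (.node (.node (.node (.leaf 164) (.leaf 618)) (.leaf 205)) (.node (.node (.leaf 779) (.leaf 764)) (.leaf 321))) (.node (.node (.node (.leaf 70) (.leaf 655)) (.leaf 329)) (.node (.leaf 157) (.leaf 384)))))) (.node (.node (.node (.node (.node (.node (.leaf 6) (.leaf 417)) (.leaf 646)) (.node (.node (.leaf 103) (.leaf 645)) (.leaf 897))) (.node (.node (.node (.leaf 231) (.leaf 774)) (.leaf 223)) (.node (.node (.leaf 128) (.leaf 867)) (.leaf 862)))) (.node (.node (.node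 (.node (.leaf 367) (.leaf 929)) (.leaf 199)) (.node (.node (.leaf 446) (.leaf 800)) (.leaf 422))) (.node (.node (.node (.leaf 453) (.leaf 620)) (.leaf 249)) (.node (.leaf 153) (.leaf 936))))) (.node (.node (.node (.node (.node (.leaf 15) (.leaf 607)) (.leaf 246)) (.node (.node (.leaf 739) (.leaf 727)) (.leaf 293))) (.node (.node (.node (.leaf 53) (.leaf 682)) (.leaf 910)) (.node (.leaf 555) (.leaf 465)))) (.node (.node (.node (.node (.leaf 477) (.leaf 936)) (.leaf 711)) (.node (.node (.leaf 397) (.leaf 771)) (.leaf 363))) (.node (.node (.node (.leaf 348) (.leaf 764)) (.leaf 262)) (.node (.leaf 166) (.leaf 782))))))))) (.node (.node (.node (.node (.node (.node (.node (.node (.node (.leaf 51) (.leaf 395)) (.leaf 837)) (.node (.node (.leaf 355) (.leaf 642)) (.leaf 264))) (.node (.node (.node (.leaf 52) (.leaf 711)) (.leaf 717)) (.node (.node (.leaf 119) (.leaf 789)) (.leaf 333)))) (.node (.node (.node (.node (.leaf 109) (.leaf 639)) (.leaf 363)) (.node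 (.node (.leaf 109) (.leaf 726)) (.leaf 833))) (.node (.node (.node (.leaf 566) (.leaf 544)) (.leaf 241)) (.node (.leaf 563) (.leaf 483))))) (.node (.node (.node (.node (.node (.leaf 175) (.leaf 970)) (.leaf 176)) (.node (.node (.leaf 696) (.leaf 751)) (.leaf 946))) (.node (.node (.node (.leaf 239) (.leaf 501)) (.leaf 853)) (.node (.node (.leaf 269) (.leaf 912)) (.leaf 345)))) (.node (.node (.node (.node (.leaf 26) (.leaf 461)) (.leaf 203)) (.node (.node (.leaf 465) (.leaf 829)) (.leaf 953))) (.node (.node (.node (.leaf 685) (.leaf 558)) (.leaf 251)) (.node (.leaf 291) (.leaf 408)))))) (.node (.node (.node (.node (.node (.node (.leaf 33) (.leaf 407)) (.leaf 897)) (.node (.node (.leaf 434) (.leaf 814)) (.leaf 270))) (.node (.node (.node (.leaf 458) (.leaf 631)) (.leaf 219)) (.node (.node (.leaf 521) (.leaf 919)) (.leaf 339)))) (.node (.node (.node (.node (.leaf 21) (.leaf 520)) (.leaf 685)) (.node (.node (.leaf 102) (.leaf 720)) (.leaf 469))) (.node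 (.node (.node (.leaf 280) (.leaf 816)) (.leaf 865)) (.node (.leaf 782) (.leaf 382))))) (.node (.node (.node (.node (.node (.leaf 13) (.leaf 918)) (.leaf 182)) (.node (.node (.leaf 413) (.leaf 767)) (.leaf 473))) (.node (.node (.node (.leaf 623) (.leaf 627)) (.leaf 747)) (.node (.leaf 709) (.leaf 354)))) (.node (.node (.node (.node (.leaf 173) (.leaf 638)) (.leaf 237)) (.node (.node (.leaf 785) (.leaf 928)) (.leaf 336))) (.node (.node (.node (.leaf 72) (.leaf 632)) (.leaf 655)) (.node (.leaf 160) (.leaf 655))))))) (.node (.node (.node (.node (.node (.node (.node (.leaf 81) (.leaf 399)) (.leaf 168)) (.node (.node (.leaf 145) (.leaf 728)) (.leaf 948))) (.node (.node (.node (.leaf 37) (.leaf 573)) (.leaf 664)) (.node (.node (.leaf 122) (.leaf 838)) (.leaf 333)))) (.node (.node (.node (.node (.leaf 510) (.leaf 442)) (.leaf 205)) (.node (.node (.leaf 441) (.leaf 808)) (.leaf 300))) (.node (.node (.node (.leaf 57) (.leaf 613)) (.leaf 760)) (.node (.leaf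 276) (.leaf 465))))) (.node (.node (.node (.node (.node (.leaf 10) (.leaf 596)) (.leaf 357)) (.node (.node (.leaf 157) (.leaf 665)) (.leaf 826))) (.node (.node (.node (.leaf 527) (.leaf 942)) (.leaf 922)) (.node (.node (.leaf 539) (.leaf 955)) (.leaf 906)))) (.node (.node (.node (.node (.leaf 43) (.leaf 638)) (.leaf 203)) (.node (.node (.leaf 111) (.leaf 733)) (.leaf 321))) (.node (.node (.node (.leaf 326) (.leaf 640)) (.leaf 328)) (.node (.leaf 158) (.leaf 882)))))) (.node (.node (.node (.node (.node (.node (.leaf 6) (.leaf 411)) (.leaf 921)) (.node (.node (.leaf 83) (.leaf 720)) (.leaf 449))) (.node (.node (.node (.leaf 368) (.leaf 714)) (.leaf 734)) (.node (.node (.leaf 748) (.leaf 895)) (.leaf 478)))) (.node (.node (.node (.node (.leaf 142) (.leaf 570)) (.leaf 301)) (.node (.node (.leaf 722) (.leaf 771)) (.leaf 310))) (.node (.node (.node (.leaf 62) (.leaf 545)) (.leaf 249)) (.node (.leaf 577) (.leaf 427))))) (.node (.node (.node (.node (.node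 (.leaf 374) (.leaf 697)) (.leaf 184)) (.node (.node (.leaf 844) (.leaf 679)) (.leaf 293))) (.node (.node (.node (.leaf 51) (.leaf 812)) (.leaf 282)) (.node (.leaf 784) (.leaf 354)))) (.node (.node (.node (.node (.leaf 668) (.leaf 490)) (.leaf 388)) (.node (.node (.leaf 494) (.leaf 947)) (.leaf 454))) (.node (.node (.node (.leaf 119) (.leaf 581)) (.leaf 800)) (.node (.leaf 250) (.leaf 425)))))))) (.node (.node (.node (.node (.node (.node (.node (.node (.leaf 14) (.leaf 603)) (.leaf 919)) (.node (.node (.leaf 77) (.leaf 817)) (.leaf 807))) (.node (.node (.node (.leaf 571) (.leaf 486)) (.leaf 215)) (.node (.node (.leaf 507) (.leaf 933)) (.leaf 332)))) (.node (.node (.node (.node (.leaf 490) (.leaf 629)) (.leaf 189)) (.node (.node (.leaf 552) (.leaf 692)) (.leaf 522))) (.node (.node (.node (.leaf 55) (.leaf 578)) (.leaf 317)) (.node (.leaf 145) (.leaf 358))))) (.node (.node (.node (.node (.node (.leaf 10) (.leaf 421)) (.leaf 250)) (.node (.node (.leaf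 400) (.leaf 699)) (.leaf 284))) (.node (.node (.node (.leaf 45) (.leaf 503)) (.leaf 740)) (.node (.node (.leaf 226) (.leaf 890)) (.leaf 347)))) (.node (.node (.node (.node (.leaf 26) (.leaf 466)) (.leaf 202)) (.node (.node (.leaf 196) (.leaf 725)) (.leaf 849))) (.node (.node (.node (.leaf 729) (.leaf 950)) (.leaf 305)) (.node (.leaf 591) (.leaf 471)))))) (.node (.node (.node (.node (.node (.node (.leaf 8) (.leaf 687)) (.leaf 640)) (.node (.node (.leaf 82) (.leaf 629)) (.leaf 473))) (.node (.node (.node (.leaf 224) (.leaf 503)) (.leaf 271)) (.node (.node (.leaf 126) (.leaf 850)) (.leaf 340)))) (.node (.node (.node (.node (.leaf 23) (.leaf 452)) (.leaf 953)) (.node (.node (.leaf 453) (.leaf 847)) (.leaf 929))) (.node (.node (.node (.leaf 64) (.leaf 742)) (.leaf 770)) (.node (.leaf 717) (.leaf 369))))) (.node (.node (.node (.node (.node (.leaf 13) (.leaf 432)) (.leaf 831)) (.node (.node (.leaf 91) (.leaf 678)) (.leaf 289))) (.node (.node (.node (.leaf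 50) (.leaf 592)) (.leaf 238)) (.node (.leaf 136) (.leaf 353)))) (.node (.node (.node (.node (.leaf 31) (.leaf 587)) (.leaf 706)) (.node (.node (.leaf 116) (.leaf 834)) (.leaf 911))) (.node (.node (.node (.leaf 72) (.leaf 617)) (.leaf 303)) (.node (.leaf 864) (.leaf 389))))))) (.node (.node (.node (.node (.node (.node (.node (.leaf 3) (.leaf 900)) (.leaf 281)) (.node (.node (.leaf 372) (.leaf 661)) (.leaf 366))) (.node (.node (.node (.leaf 494) (.leaf 561)) (.leaf 727)) (.node (.node (.leaf 398) (.leaf 816)) (.leaf 454)))) (.node (.node (.node (.node (.leaf 125) (.leaf 445)) (.leaf 281)) (.node (.node (.leaf 917) (.leaf 887)) (.leaf 301))) (.node (.node (.node (.leaf 59) (.leaf 534)) (.leaf 543)) (.node (.leaf 570) (.leaf 516))))) (.node (.node (.node (.node (.node (.leaf 365) (.leaf 459)) (.leaf 180)) (.node (.node (.leaf 722) (.leaf 666)) (.leaf 853))) (.node (.node (.node (.leaf 66) (.leaf 672)) (.leaf 234)) (.node (.node (.leaf 134) (.leaf 956))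 (.leaf 350)))) (.node (.node (.node (.node (.leaf 29) (.leaf 473)) (.leaf 291)) (.node (.node (.leaf 479) (.leaf 791)) (.leaf 360))) (.node (.node (.node (.leaf 622) (.leaf 606)) (.leaf 790)) (.node (.leaf 746) (.leaf 605)))))) (.node (.node (.node (.node (.node (.node (.leaf 53) (.leaf 652)) (.leaf 176)) (.node (.node (.leaf 708) (.leaf 893)) (.leaf 757))) (.node (.node (.node (.leaf 513) (.leaf 528)) (.leaf 256)) (.node (.node (.leaf 128) (.leaf 871)) (.leaf 446)))) (.node (.node (.node (.node (.leaf 554) (.leaf 652)) (.leaf 199)) (.node (.node (.leaf 219) (.leaf 719)) (.leaf 535))) (.node (.node (.node (.leaf 63) (.leaf 552)) (.leaf 251)) (.node (.leaf 624) (.leaf 877))))) (.node (.node (.node (.node (.node (.leaf 389) (.leaf 433)) (.leaf 268)) (.node (.node (.leaf 93) (.leaf 687)) (.leaf 308))) (.node (.node (.node (.leaf 53) (.leaf 798)) (.leaf 753)) (.node (.leaf 142) (.leaf 356)))) (.node (.node (.node (.node (.leaf 191) (.leaf 579)) (.leaf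 212)) (.node (.node (.leaf 120) (.leaf 892)) (.leaf 725))) (.node (.node (.node (.leaf 649) (.leaf 590)) (.leaf 262)) (.node (.leaf 612) (.leaf 394))))))))))) (.node (.node (.node (.node (.node (.node (.node (.node (.node (.node (.node (.leaf 15) (.leaf 532)) (.leaf 163)) (.node (.node (.leaf 75) (.leaf 594)) (.leaf 964))) (.node (.node (.node (.leaf 194) (.leaf 589)) (.leaf 288)) (.node (.node (.leaf 118) (.leaf 787)) (.leaf 854)))) (.node (.node (.node (.node (.leaf 17) (.leaf 596)) (.leaf 340)) (.node (.node (.leaf 427) (.leaf 777)) (.leaf 963))) (.node (.node (.node (.leaf 635) (.leaf 681)) (.leaf 754)) (.node (.leaf 863) (.leaf 470))))) (.node (.node (.node (.node (.node (.leaf 7) (.leaf 614)) (.leaf 783)) (.node (.node (.leaf 87) (.leaf 824)) (.leaf 278))) (.node (.node (.node (.leaf 44) (.leaf 940)) (.leaf 225)) (.node (.node (.leaf 392) (.leaf 875)) (.leaf 344)))) (.node (.node (.node (.node (.leaf 25) (.leaf 618)) (.leaf 694)) (.node (.node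 (.leaf 106) (.leaf 968)) (.leaf 418))) (.node (.node (.node (.leaf 311) (.leaf 675)) (.leaf 305)) (.node (.leaf 704) (.leaf 878)))))) (.node (.node (.node (.node (.node (.node (.leaf 168) (.leaf 403)) (.leaf 171)) (.node (.node (.leaf 79) (.leaf 706)) (.leaf 270))) (.node (.node (.node (.leaf 41) (.leaf 492)) (.leaf 659)) (.node (.node (.leaf 124) (.leaf 817)) (.leaf 391)))) (.node (.node (.node (.node (.leaf 20) (.leaf 446)) (.leaf 194)) (.node (.node (.leaf 705) (.leaf 703)) (.leaf 303))) (.node (.node (.node (.leaf 642) (.leaf 535)) (.leaf 246)) (.node (.leaf 147) (.leaf 467))))) (.node (.node (.node (.node (.node (.leaf 12) (.leaf 766)) (.leaf 662)) (.node (.node (.leaf 90) (.leaf 962)) (.leaf 289))) (.node (.node (.node (.leaf 254) (.leaf 644)) (.leaf 279)) (.node (.node (.leaf 723) (.leaf 960)) (.leaf 868)))) (.node (.node (.node (.node (.leaf 55) (.leaf 532)) (.leaf 862)) (.node (.node (.leaf 481) (.leaf 766)) (.leaf 570))) (.node (.node (.node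 (.leaf 108) (.leaf 674)) (.leaf 792)) (.node (.leaf 160) (.leaf 441))))))) (.node (.node (.node (.node (.node (.node (.node (.leaf 17) (.leaf 398)) (.leaf 526)) (.node (.node (.leaf 828) (.leaf 832)) (.leaf 265))) (.node (.node (.node (.leaf 643) (.leaf 937)) (.leaf 257)) (.node (.node (.leaf 509) (.leaf 831)) (.leaf 333)))) (.node (.node (.node (.node (.leaf 471) (.leaf 442)) (.leaf 676)) (.node (.node (.leaf 98) (.leaf 934)) (.leaf 299))) (.node (.node (.node (.leaf 56) (.leaf 549)) (.leaf 243)) (.node (.leaf 746) (.leaf 872))))) (.node (.node (.node (.node (.node (.leaf 327) (.leaf 422)) (.leaf 452)) (.node (.node (.leaf 325) (.leaf 663)) (.leaf 666))) (.node (.node (.node (.leaf 615) (.leaf 651)) (.leaf 228)) (.node (.node (.leaf 132) (.leaf 947)) (.leaf 606)))) (.node (.node (.node (.node (.leaf 122) (.leaf 619)) (.leaf 203)) (.node (.node (.leaf 839) (.leaf 880)) (.leaf 320))) (.node (.node (.node (.leaf 68) (.leaf 639)) (.leaf 483)) (.node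 (.leaf 197) (.leaf 582)))))) (.node (.node (.node (.node (.node (.node (.leaf 5) (.leaf 544)) (.leaf 642)) (.node (.node (.leaf 751) (.leaf 638)) (.leaf 278))) (.node (.node (.node (.leaf 225) (.leaf 707)) (.leaf 435)) (.node (.node (.leaf 754) (.leaf 852)) (.leaf 448)))) (.node (.node (.node (.node (.leaf 358) (.leaf 456)) (.leaf 336)) (.node (.node (.leaf 103) (.leaf 711)) (.leaf 411))) (.node (.node (.node (.leaf 61) (.leaf 683)) (.leaf 248)) (.node (.leaf 292) (.leaf 410))))) (.node (.node (.node (.node (.node (.leaf 92) (.leaf 430)) (.leaf 184)) (.node (.node (.leaf 186) (.leaf 843)) (.leaf 291))) (.node (.node (.node (.leaf 685) (.leaf 514)) (.leaf 236)) (.node (.leaf 552) (.leaf 354)))) (.node (.node (.node (.node (.leaf 35) (.leaf 478)) (.leaf 708)) (.node (.node (.leaf 896) (.leaf 758)) (.leaf 360))) (.node (.node (.node (.leaf 344) (.leaf 696)) (.leaf 522)) (.node (.leaf 165) (.leaf 889)))))))) (.node (.node (.node (.node (.node (.node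 (.node (.node (.leaf 66) (.leaf 396)) (.leaf 265)) (.node (.node (.leaf 76) (.leaf 836)) (.leaf 505))) (.node (.node (.node (.leaf 429) (.leaf 485)) (.leaf 718)) (.node (.node (.leaf 806) (.leaf 791)) (.leaf 331)))) (.node (.node (.node (.node (.leaf 112) (.leaf 944)) (.leaf 189)) (.node (.node (.leaf 95) (.leaf 761)) (.leaf 297))) (.node (.node (.node (.leaf 682) (.leaf 523)) (.leaf 319)) (.node (.leaf 564) (.leaf 415))))) (.node (.node (.node (.node (.node (.leaf 297) (.leaf 421)) (.leaf 637)) (.node (.node (.leaf 86) (.leaf 660)) (.leaf 280))) (.node (.node (.node (.leaf 44) (.leaf 646)) (.leaf 869)) (.node (.node (.leaf 137) (.leaf 902)) (.leaf 402)))) (.node (.node (.node (.node (.leaf 540) (.leaf 463)) (.leaf 201)) (.node (.node (.leaf 107) (.leaf 748)) (.leaf 319))) (.node (.node (.node (.leaf 66) (.leaf 591)) (.leaf 781)) (.node (.leaf 188) (.leaf 377)))))) (.node (.node (.node (.node (.node (.node (.leaf 36) (.leaf 455)) (.leaf 272)) (.node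 (.node (.leaf 97) (.leaf 732)) (.leaf 271))) (.node (.node (.node (.leaf 40) (.leaf 493)) (.leaf 345)) (.node (.node (.leaf 522) (.leaf 926)) (.leaf 340)))) (.node (.node (.node (.node (.leaf 379) (.leaf 590)) (.leaf 687)) (.node (.node (.leaf 568) (.leaf 707)) (.leaf 306))) (.node (.node (.node (.leaf 240) (.leaf 971)) (.leaf 295)) (.node (.leaf 927) (.leaf 875))))) (.node (.node (.node (.node (.node (.leaf 375) (.leaf 428)) (.leaf 275)) (.node (.node (.leaf 90) (.leaf 803)) (.leaf 289))) (.node (.node (.node (.leaf 527) (.leaf 512)) (.leaf 748)) (.node (.leaf 813) (.leaf 352)))) (.node (.node (.node (.node (.leaf 30) (.leaf 594)) (.leaf 209)) (.node (.node (.leaf 204) (.leaf 947)) (.leaf 851))) (.node (.node (.node (.leaf 734) (.leaf 683)) (.leaf 924)) (.node (.leaf 604) (.leaf 388))))))) (.node (.node (.node (.node (.node (.node (.node (.leaf 2) (.leaf 554)) (.leaf 169)) (.node (.node (.leaf 79) (.leaf 615)) (.leaf 840))) (.node (.node (.node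 (.leaf 212) (.leaf 951)) (.leaf 217)) (.node (.node (.leaf 170) (.leaf 816)) (.leaf 857)))) (.node (.node (.node (.node (.leaf 20) (.leaf 924)) (.leaf 191)) (.node (.node (.leaf 443) (.leaf 807)) (.leaf 348))) (.node (.node (.node (.leaf 58) (.leaf 531)) (.leaf 762)) (.node (.leaf 147) (.leaf 362))))) (.node (.node (.node (.node (.node (.leaf 75) (.leaf 467)) (.leaf 180)) (.node (.node (.leaf 88) (.leaf 737)) (.leaf 285))) (.node (.node (.node (.leaf 769) (.leaf 505)) (.leaf 290)) (.node (.node (.leaf 541) (.leaf 925)) (.leaf 930)))) (.node (.node (.node (.node (.leaf 384) (.leaf 594)) (.leaf 204)) (.node (.node (.leaf 845) (.leaf 735)) (.leaf 476))) (.node (.node (.node (.leaf 328) (.leaf 568)) (.leaf 876)) (.node (.leaf 902) (.leaf 383)))))) (.node (.node (.node (.node (.node (.node (.leaf 255) (.leaf 415)) (.leaf 211)) (.node (.node (.leaf 388) (.leaf 781)) (.leaf 277))) (.node (.node (.node (.leaf 42) (.leaf 662)) (.leaf 222)) (.node (.node (.leaf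 730) (.leaf 897)) (.leaf 342)))) (.node (.node (.node (.node (.leaf 145) (.leaf 458)) (.leaf 316)) (.node (.node (.leaf 107) (.leaf 770)) (.leaf 312))) (.node (.node (.node (.leaf 63) (.leaf 550)) (.leaf 938)) (.node (.leaf 152) (.leaf 372))))) (.node (.node (.node (.node (.node (.leaf 181) (.leaf 716)) (.leaf 667)) (.node (.node (.leaf 93) (.leaf 963)) (.leaf 728))) (.node (.node (.node (.leaf 52) (.leaf 966)) (.leaf 921)) (.node (.leaf 140) (.leaf 365)))) (.node (.node (.node (.node (.leaf 33) (.leaf 583)) (.leaf 213)) (.node (.node (.leaf 496) (.leaf 930)) (.leaf 856))) (.node (.node (.node (.leaf 76) (.leaf 870)) (.leaf 261)) (.node (.leaf 163) (.leaf 464))))))))) (.node (.node (.node (.node (.node (.node (.node (.node (.node (.leaf 6) (.leaf 495)) (.leaf 165)) (.node (.node (.leaf 75) (.leaf 598)) (.leaf 263))) (.node (.node (.node (.leaf 35) (.leaf 920)) (.leaf 542)) (.node (.node (.leaf 118) (.leaf 900)) (.leaf 331)))) (.node (.node (.node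 (.node (.leaf 17) (.leaf 950)) (.leaf 671)) (.node (.node (.leaf 95) (.leaf 957)) (.leaf 307))) (.node (.node (.node (.leaf 279) (.leaf 521)) (.leaf 256)) (.node (.leaf 898) (.leaf 870))))) (.node (.node (.node (.node (.node (.leaf 213) (.leaf 419)) (.leaf 916)) (.node (.node (.leaf 394) (.leaf 654)) (.leaf 280))) (.node (.node (.node (.leaf 44) (.leaf 731)) (.leaf 739)) (.node (.node (.leaf 786) (.leaf 886)) (.leaf 353)))) (.node (.node (.node (.node (.leaf 25) (.leaf 620)) (.leaf 201)) (.node (.node (.leaf 693) (.leaf 718)) (.leaf 316))) (.node (.node (.node (.leaf 65) (.leaf 556)) (.leaf 475)) (.node (.leaf 584) (.leaf 547)))))) (.node (.node (.node (.node (.node (.node (.leaf 7) (.leaf 545)) (.leaf 171)) (.node (.node (.leaf 423) (.leaf 714)) (.leaf 872))) (.node (.node (.node (.leaf 218) (.leaf 492)) (.leaf 874)) (.node (.node (.leaf 124) (.leaf 907)) (.leaf 378)))) (.node (.node (.node (.node (.leaf 351) (.leaf 927)) (.leaf 194)) (.node (.node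 (.leaf 101) (.leaf 753)) (.leaf 432))) (.node (.node (.node (.leaf 63) (.leaf 593)) (.leaf 245)) (.node (.leaf 804) (.leaf 367))))) (.node (.node (.node (.node (.node (.leaf 12) (.leaf 427)) (.leaf 197)) (.node (.node (.leaf 90) (.leaf 701)) (.leaf 828))) (.node (.node (.node (.leaf 100) (.leaf 943)) (.leaf 295)) (.node (.leaf 548) (.leaf 352)))) (.node (.node (.node (.node (.leaf 405) (.leaf 589)) (.leaf 703)) (.node (.node (.leaf 855) (.leaf 744)) (.leaf 332))) (.node (.node (.node (.leaf 335) (.leaf 574)) (.leaf 595)) (.node (.leaf 231) (.leaf 887))))))) (.node (.node (.node (.node (.node (.node (.node (.leaf 2) (.leaf 398)) (.leaf 662)) (.node (.node (.leaf 367) (.leaf 653)) (.leaf 365))) (.node (.node (.node (.leaf 581) (.leaf 488)) (.leaf 724)) (.node (.node (.leaf 745) (.leaf 960)) (.leaf 939)))) (.node (.node (.node (.node (.leaf 121) (.leaf 524)) (.leaf 191)) (.node (.node (.leaf 98) (.leaf 782)) (.leaf 299))) (.node (.node (.node (.leaf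 486) (.leaf 949)) (.leaf 243)) (.node (.leaf 567) (.leaf 361))))) (.node (.node (.node (.node (.node (.leaf 339) (.leaf 481)) (.leaf 656)) (.node (.node (.leaf 88) (.leaf 954)) (.leaf 285))) (.node (.node (.node (.leaf 215) (.leaf 505)) (.leaf 396)) (.node (.node (.leaf 132) (.leaf 946)) (.leaf 866)))) (.node (.node (.node (.node (.leaf 599) (.leaf 468)) (.leaf 556)) (.node (.node (.leaf 472) (.leaf 838)) (.leaf 356))) (.node (.node (.node (.leaf 68) (.leaf 567)) (.leaf 787)) (.node (.leaf 157) (.leaf 385)))))) (.node (.node (.node (.node (.node (.node (.leaf 5) (.leaf 610)) (.leaf 878)) (.node (.node (.leaf 759) (.leaf 966)) (.leaf 275))) (.node (.node (.node (.leaf 42) (.leaf 586)) (.leaf 222)) (.node (.node (.leaf 527) (.leaf 931)) (.leaf 342)))) (.node (.node (.node (.node (.leaf 436) (.leaf 625)) (.leaf 657)) (.node (.node (.leaf 797) (.leaf 967)) (.leaf 519))) (.node (.node (.node (.leaf 61) (.leaf 595)) (.leaf 408)) (.node (.leaf 152) (.leaf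 401))))) (.node (.node (.node (.node (.node (.leaf 15) (.leaf 430)) (.leaf 895)) (.node (.node (.leaf 110) (.leaf 775)) (.leaf 302))) (.node (.node (.node (.leaf 315) (.leaf 676)) (.leaf 236)) (.node (.leaf 139) (.leaf 557)))) (.node (.node (.node (.node (.leaf 185) (.leaf 488)) (.leaf 548)) (.node (.node (.leaf 718) (.leaf 917)) (.leaf 339))) (.node (.node (.node (.leaf 221) (.leaf 580)) (.leaf 387)) (.node (.leaf 608) (.leaf 392)))))))) (.node (.node (.node (.node (.node (.node (.node (.node (.leaf 80) (.leaf 680)) (.leaf 620)) (.node (.node (.leaf 136) (.leaf 605)) (.leaf 314))) (.node (.node (.node (.leaf 202) (.leaf 633)) (.leaf 903)) (.node (.node (.leaf 860) (.leaf 908)) (.leaf 331)))) (.node (.node (.node (.node (.leaf 338) (.leaf 438)) (.leaf 859)) (.node (.node (.leaf 96) (.leaf 833)) (.leaf 519))) (.node (.node (.node (.leaf 489) (.leaf 938)) (.leaf 756)) (.node (.leaf 230) (.leaf 563))))) (.node (.node (.node (.node (.node (.leaf 65)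 (.leaf 651)) (.leaf 304)) (.node (.node (.leaf 86) (.leaf 663)) (.leaf 824))) (.node (.node (.node (.leaf 546) (.leaf 502)) (.leaf 228)) (.node (.node (.leaf 454) (.leaf 889)) (.leaf 502)))) (.node (.node (.node (.node (.leaf 585) (.leaf 550)) (.leaf 201)) (.node (.node (.leaf 269) (.leaf 763)) (.leaf 940))) (.node (.node (.node (.leaf 319) (.leaf 559)) (.leaf 253)) (.node (.leaf 207) (.leaf 377)))))) (.node (.node (.node (.node (.node (.node (.leaf 5) (.leaf 904)) (.leaf 818)) (.node (.node (.leaf 81) (.leaf 719)) (.leaf 382))) (.node (.node (.node (.leaf 40) (.leaf 672)) (.leaf 220)) (.node (.node (.leaf 791) (.leaf 970)) (.leaf 416)))) (.node (.node (.node (.node (.leaf 22) (.leaf 952)) (.leaf 904)) (.node (.node (.leaf 103) (.leaf 810)) (.leaf 307))) (.node (.node (.node (.leaf 61) (.leaf 538)) (.leaf 545)) (.node (.leaf 574) (.leaf 891))))) (.node (.node (.node (.node (.node (.leaf 248) (.leaf 430)) (.leaf 665)) (.node (.node (.leaf 138) (.leaf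 677)) (.leaf 396))) (.node (.node (.node (.leaf 49) (.leaf 512)) (.leaf 236)) (.node (.leaf 267) (.leaf 352)))) (.node (.node (.node (.node (.leaf 441) (.leaf 935)) (.leaf 209)) (.node (.node (.leaf 488) (.leaf 755)) (.leaf 472))) (.node (.node (.node (.leaf 189) (.leaf 772)) (.leaf 797)) (.node (.leaf 937) (.leaf 399))))))) (.node (.node (.node (.node (.node (.node (.node (.leaf 2) (.leaf 403)) (.leaf 171)) (.node (.node (.leaf 79) (.leaf 623)) (.leaf 268))) (.node (.node (.node (.leaf 719) (.leaf 922)) (.leaf 217)) (.node (.node (.leaf 517) (.leaf 843)) (.leaf 335)))) (.node (.node (.node (.node (.leaf 20) (.leaf 455)) (.leaf 192)) (.node (.node (.leaf 747) (.leaf 699)) (.leaf 865))) (.node (.node (.node (.leaf 58) (.leaf 756)) (.leaf 524)) (.node (.leaf 147) (.leaf 562))))) (.node (.node (.node (.node (.node (.leaf 362) (.leaf 915)) (.leaf 263)) (.node (.node (.leaf 409) (.leaf 879)) (.leaf 851))) (.node (.node (.node (.leaf 62) (.leaf 507)) (.leaf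 743)) (.node (.node (.leaf 901) (.leaf 930)) (.leaf 538)))) (.node (.node (.node (.node (.leaf 167) (.leaf 950)) (.leaf 206)) (.node (.node (.leaf 112) (.leaf 834)) (.leaf 779))) (.node (.node (.node (.leaf 777) (.leaf 568)) (.leaf 311)) (.node (.leaf 158) (.leaf 603)))))) (.node (.node (.node (.node (.node (.node (.leaf 192) (.leaf 609)) (.leaf 175)) (.node (.node (.leaf 890) (.leaf 647)) (.leaf 886))) (.node (.node (.node (.leaf 234) (.leaf 498)) (.leaf 225)) (.node (.node (.leaf 227) (.leaf 868)) (.leaf 342)))) (.node (.node (.node (.node (.leaf 25) (.leaf 458)) (.leaf 873)) (.node (.node (.leaf 414) (.leaf 717)) (.leaf 476))) (.node (.node (.node (.leaf 773) (.leaf 675)) (.leaf 250)) (.node (.leaf 617) (.leaf 558))))) (.node (.node (.node (.node (.node (.leaf 102) (.leaf 608)) (.leaf 186)) (.node (.node (.leaf 786) (.leaf 826)) (.leaf 295))) (.node (.node (.node (.leaf 347) (.leaf 611)) (.leaf 523)) (.node (.leaf 557) (.leaf 909)))) (.node (.node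 (.node (.node (.leaf 33) (.leaf 482)) (.leaf 211)) (.node (.node (.leaf 118) (.leaf 773)) (.leaf 929))) (.node (.node (.node (.leaf 349) (.leaf 969)) (.leaf 313)) (.node (.leaf 163) (.leaf 838)))))))))) (.node (.node (.node (.node (.node (.node (.node (.node (.node (.node (.leaf 0) (.leaf 845)) (.leaf 164)) (.node (.node (.leaf 353) (.leaf 676)) (.leaf 460))) (.node (.node (.node (.leaf 266) (.leaf 484)) (.leaf 213)) (.node (.node (.leaf 803) (.leaf 832)) (.leaf 420)))) (.node (.node (.node (.node (.leaf 106) (.leaf 562)) (.leaf 187)) (.node (.node (.leaf 200) (.leaf 694)) (.leaf 296))) (.node (.node (.node (.leaf 819) (.leaf 520)) (.leaf 240)) (.node (.leaf 561) (.leaf 933))))) (.node (.node (.node (.node (.node (.leaf 193) (.leaf 588)) (.leaf 607)) (.node (.node (.leaf 101) (.leaf 653)) (.leaf 279))) (.node (.node (.node (.leaf 237) (.leaf 647)) (.leaf 858)) (.node (.node (.leaf 129) (.leaf 910)) (.leaf 435)))) (.node (.node (.node (.node (.leaf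 511) (.leaf 460)) (.leaf 337)) (.node (.node (.leaf 462) (.leaf 771)) (.leaf 345))) (.node (.node (.node (.leaf 100) (.leaf 943)) (.leaf 778)) (.node (.leaf 753) (.leaf 757)))))) (.node (.node (.node (.node (.node (.node (.leaf 31) (.leaf 819)) (.leaf 875)) (.node (.node (.leaf 96) (.leaf 624)) (.leaf 813))) (.node (.node (.node (.leaf 56) (.leaf 585)) (.leaf 218)) (.node (.node (.leaf 519) (.leaf 942)) (.leaf 951)))) (.node (.node (.node (.node (.leaf 528) (.leaf 448)) (.leaf 684)) (.node (.node (.leaf 677) (.leaf 966)) (.leaf 504))) (.node (.node (.node (.leaf 59) (.leaf 536)) (.leaf 915)) (.node (.leaf 148) (.leaf 366))))) (.node (.node (.node (.node (.node (.leaf 164) (.leaf 426)) (.leaf 184)) (.node (.node (.leaf 412) (.leaf 694)) (.leaf 923))) (.node (.node (.node (.leaf 546) (.leaf 509)) (.leaf 746)) (.node (.node (.leaf 879) (.leaf 958)) (.leaf 499)))) (.node (.node (.node (.node (.leaf 29) (.leaf 967)) (.leaf 208)) (.node (.node (.leaf 677)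 (.leaf 762)) (.leaf 322))) (.node (.node (.node (.leaf 671) (.leaf 951)) (.leaf 258)) (.node (.leaf 601) (.leaf 387))))))) (.node (.node (.node (.node (.node (.node (.node (.leaf 113) (.leaf 631)) (.leaf 624)) (.node (.node (.leaf 559) (.leaf 614)) (.leaf 534))) (.node (.node (.node (.leaf 208) (.leaf 587)) (.leaf 311)) (.node (.node (.leaf 928) (.leaf 811)) (.leaf 784)))) (.node (.node (.node (.node (.leaf 381) (.leaf 912)) (.leaf 382)) (.node (.node (.leaf 440) (.leaf 750)) (.leaf 406))) (.node (.node (.node (.leaf 484) (.leaf 530)) (.leaf 759)) (.node (.leaf 159) (.leaf 482))))) (.node (.node (.node (.node (.node (.leaf 71) (.leaf 423)) (.leaf 179)) (.node (.node (.leaf 733) (.leaf 728)) (.leaf 284))) (.node (.node (.node (.leaf 46) (.leaf 504)) (.leaf 288)) (.node (.node (.leaf 143) (.leaf 965)) (.leaf 962)))) (.node (.node (.node (.node (.leaf 27) (.leaf 667)) (.leaf 700)) (.node (.node (.leaf 883) (.leaf 726)) (.leaf 909))) (.node (.node (.node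 (.leaf 323) (.leaf 566)) (.leaf 534)) (.node (.leaf 861) (.leaf 381)))))) (.node (.node (.node (.node (.node (.node (.leaf 232) (.leaf 905)) (.leaf 174)) (.node (.node (.leaf 386) (.leaf 815)) (.leaf 931))) (.node (.node (.node (.leaf 530) (.leaf 574)) (.leaf 221)) (.node (.node (.leaf 127) (.leaf 883)) (.leaf 341)))) (.node (.node (.node (.node (.leaf 139) (.leaf 457)) (.leaf 198)) (.node (.node (.leaf 761) (.leaf 971)) (.leaf 842))) (.node (.node (.node (.leaf 653) (.leaf 542)) (.leaf 547)) (.node (.leaf 151) (.leaf 583))))) (.node (.node (.node (.node (.node (.leaf 14) (.leaf 712)) (.leaf 478)) (.node (.node (.leaf 92) (.leaf 678)) (.leaf 292))) (.node (.node (.node (.leaf 266) (.leaf 515)) (.leaf 862)) (.node (.leaf 809) (.leaf 839)))) (.node (.node (.node (.node (.leaf 52) (.leaf 921)) (.leaf 210)) (.node (.node (.leaf 492) (.leaf 790)) (.leaf 326))) (.node (.node (.node (.leaf 73) (.leaf 740)) (.leaf 260)) (.node (.leaf 837) (.leaf 960))))))))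 (.node (.node (.node (.node (.node (.node (.node (.node (.leaf 0) (.leaf 397)) (.leaf 166)) (.node (.node (.leaf 813) (.leaf 822)) (.leaf 264))) (.node (.node (.node (.leaf 36) (.leaf 936)) (.leaf 959)) (.node (.node (.leaf 120) (.leaf 820)) (.leaf 498)))) (.node (.node (.node (.node (.leaf 18) (.leaf 580)) (.leaf 674)) (.node (.node (.leaf 462) (.leaf 691)) (.leaf 298))) (.node (.node (.node (.leaf 282) (.leaf 548)) (.leaf 242)) (.node (.leaf 780) (.leaf 871))))) (.node (.node (.node (.node (.node (.leaf 307) (.leaf 909)) (.leaf 177)) (.node (.node (.leaf 399) (.leaf 824)) (.leaf 283))) (.node (.node (.node (.leaf 48) (.leaf 636)) (.leaf 227)) (.node (.node (.leaf 131) (.leaf 893)) (.leaf 346)))) (.node (.node (.node (.node (.leaf 154) (.leaf 569)) (.leaf 395)) (.node (.node (.leaf 671) (.leaf 795)) (.leaf 848))) (.node (.node (.node (.leaf 67) (.leaf 558)) (.leaf 433)) (.node (.leaf 155) (.leaf 639)))))) (.node (.node (.node (.node (.node (.node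 (.leaf 206) (.leaf 410)) (.leaf 172)) (.node (.node (.leaf 120) (.leaf 627)) (.leaf 863))) (.node (.node (.node (.leaf 223) (.leaf 789)) (.leaf 369)) (.node (.node (.leaf 125) (.leaf 849)) (.leaf 809)))) (.node (.node (.node (.node (.leaf 310) (.leaf 449)) (.leaf 195)) (.node (.node (.leaf 451) (.leaf 913)) (.leaf 847))) (.node (.node (.node (.leaf 834) (.leaf 607)) (.leaf 768)) (.node (.leaf 151) (.leaf 743))))) (.node (.node (.node (.node (.node (.leaf 88) (.leaf 609)) (.leaf 183)) (.node (.node (.leaf 94) (.leaf 808)) (.leaf 670))) (.node (.node (.node (.leaf 763) (.leaf 599)) (.leaf 726)) (.node (.leaf 549) (.leaf 911)))) (.node (.node (.node (.node (.leaf 386) (.leaf 477)) (.leaf 705)) (.node (.node (.leaf 148) (.leaf 880)) (.leaf 424))) (.node (.node (.node (.leaf 341) (.leaf 751)) (.leaf 925)) (.node (.leaf 161) (.leaf 888))))))) (.node (.node (.node (.node (.node (.node (.node (.leaf 140) (.leaf 899)) (.leaf 752)) (.node (.node (.leaf 370)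 (.leaf 709)) (.leaf 958))) (.node (.node (.node (.leaf 38) (.leaf 491)) (.leaf 619)) (.node (.node (.leaf 752) (.leaf 965)) (.leaf 472)))) (.node (.node (.node (.node (.leaf 124) (.leaf 611)) (.leaf 698)) (.node (.node (.leaf 99) (.leaf 757)) (.leaf 300))) (.node (.node (.node (.leaf 575) (.leaf 855)) (.leaf 244)) (.node (.leaf 569) (.leaf 364))))) (.node (.node (.node (.node (.node (.leaf 11) (.leaf 426)) (.leaf 658)) (.node (.node (.leaf 89) (.leaf 955)) (.leaf 327))) (.node (.node (.node (.leaf 46) (.leaf 601)) (.leaf 945)) (.node (.node (.leaf 133) (.leaf 967)) (.leaf 867)))) (.node (.node (.node (.node (.leaf 440) (.leaf 470)) (.leaf 274)) (.node (.node (.leaf 111) (.leaf 867)) (.leaf 322))) (.node (.node (.node (.leaf 428) (.leaf 800)) (.leaf 256)) (.node (.leaf 793) (.leaf 440)))))) (.node (.node (.node (.node (.node (.node (.leaf 50) (.leaf 738)) (.leaf 290)) (.node (.node (.leaf 84) (.leaf 775)) (.leaf 767))) (.node (.node (.node (.leaf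 43) (.leaf 497)) (.leaf 229)) (.node (.node (.leaf 529) (.leaf 870)) (.leaf 750)))) (.node (.node (.node (.node (.leaf 491) (.leaf 619)) (.leaf 693)) (.node (.node (.leaf 693) (.leaf 713)) (.leaf 461))) (.node (.node (.node (.leaf 309) (.leaf 678)) (.leaf 419)) (.node (.leaf 168) (.leaf 437))))) (.node (.node (.node (.node (.node (.leaf 16) (.leaf 432)) (.leaf 185)) (.node (.node (.leaf 425) (.leaf 729)) (.leaf 445))) (.node (.node (.node (.leaf 502) (.leaf 518)) (.leaf 238)) (.node (.leaf 141) (.leaf 355)))) (.node (.node (.node (.node (.leaf 188) (.leaf 511)) (.leaf 920)) (.node (.node (.leaf 212) (.leaf 825)) (.leaf 327))) (.node (.node (.node (.leaf 429) (.leaf 589)) (.leaf 264)) (.node (.leaf 593) (.leaf 457))))))))) (.node (.node (.node (.node (.node (.node (.node (.node (.node (.leaf 0) (.leaf 514)) (.leaf 618)) (.node (.node (.leaf 657) (.leaf 819)) (.leaf 313))) (.node (.node (.node (.leaf 198) (.leaf 630)) (.leaf 403)) (.node (.node (.leaf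 271) (.leaf 913)) (.leaf 803)))) (.node (.node (.node (.node (.leaf 18) (.leaf 436)) (.leaf 366)) (.node (.node (.leaf 113) (.leaf 691)) (.leaf 841))) (.node (.node (.node (.leaf 796) (.leaf 585)) (.leaf 622)) (.node (.leaf 144) (.leaf 537))))) (.node (.node (.node (.node (.node (.leaf 8) (.leaf 593)) (.leaf 177)) (.node (.node (.leaf 814) (.leaf 768)) (.leaf 821))) (.node (.node (.node (.leaf 720) (.leaf 941)) (.leaf 892)) (.node (.node (.leaf 129) (.leaf 905)) (.leaf 346)))) (.node (.node (.node (.node (.leaf 29) (.leaf 557)) (.leaf 690)) (.node (.node (.leaf 227) (.leaf 822)) (.leaf 958))) (.node (.node (.node (.leaf 315) (.leaf 560)) (.leaf 252)) (.node (.leaf 155) (.leaf 374)))))) (.node (.node (.node (.node (.node (.node (.leaf 192) (.leaf 902)) (.leaf 172)) (.node (.node (.leaf 80) (.leaf 881)) (.leaf 944))) (.node (.node (.node (.leaf 686) (.leaf 690)) (.leaf 730)) (.node (.node (.leaf 125) (.leaf 843)) (.leaf 914)))) (.node (.node (.node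 (.node (.leaf 132) (.leaf 449)) (.leaf 195)) (.node (.node (.leaf 702) (.leaf 882)) (.leaf 305))) (.node (.node (.node (.leaf 453) (.leaf 536)) (.leaf 906)) (.node (.leaf 149) (.leaf 368))))) (.node (.node (.node (.node (.node (.leaf 16) (.leaf 659)) (.leaf 560)) (.node (.node (.leaf 830) (.leaf 673)) (.leaf 447))) (.node (.node (.node (.leaf 48) (.leaf 510)) (.leaf 247)) (.node (.leaf 821) (.leaf 780)))) (.node (.node (.node (.node (.leaf 592) (.leaf 475)) (.leaf 208)) (.node (.node (.leaf 114) (.leaf 745)) (.leaf 533))) (.node (.node (.node (.leaf 485) (.leaf 758)) (.leaf 258)) (.node (.leaf 161) (.leaf 648))))))) (.node (.node (.node (.node (.node (.node (.node (.leaf 21) (.leaf 404)) (.leaf 842)) (.node (.node (.leaf 190) (.leaf 706)) (.leaf 267))) (.node (.node (.node (.leaf 38) (.leaf 511)) (.leaf 413)) (.node (.node (.leaf 513) (.leaf 845)) (.leaf 334)))) (.node (.node (.node (.node (.leaf 344) (.leaf 691)) (.leaf 206)) (.node (.node (.leaf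 99) (.leaf 696)) (.leaf 301))) (.node (.node (.node (.leaf 290) (.leaf 727)) (.leaf 244)) (.node (.leaf 520) (.leaf 873))))) (.node (.node (.node (.node (.node (.leaf 11) (.leaf 424)) (.leaf 908)) (.node (.node (.leaf 404) (.leaf 667)) (.leaf 371))) (.node (.node (.node (.leaf 46) (.leaf 612)) (.leaf 230)) (.node (.node (.leaf 133) (.leaf 913)) (.leaf 349)))) (.node (.node (.node (.node (.leaf 27) (.leaf 656)) (.leaf 437)) (.node (.node (.leaf 114) (.leaf 780)) (.leaf 765))) (.node (.node (.node (.leaf 69) (.leaf 635)) (.leaf 810)) (.node (.leaf 595) (.leaf 632)))))) (.node (.node (.node (.node (.node (.node (.leaf 242) (.leaf 626)) (.leaf 174)) (.node (.node (.leaf 84) (.leaf 643)) (.leaf 276))) (.node (.node (.node (.leaf 229) (.leaf 497)) (.leaf 859)) (.node (.node (.leaf 795) (.leaf 864)) (.leaf 861)))) (.node (.node (.node (.node (.leaf 562) (.leaf 457)) (.leaf 198)) (.node (.node (.leaf 104) (.leaf 801)) (.leaf 404))) (.node (.node (.node (.leaf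 684) (.leaf 622)) (.leaf 774)) (.node (.leaf 905) (.leaf 956))))) (.node (.node (.node (.node (.node (.leaf 98) (.leaf 588)) (.leaf 185)) (.node (.node (.leaf 92) (.leaf 686)) (.leaf 830))) (.node (.node (.node (.leaf 468) (.leaf 516)) (.leaf 237)) (.node (.leaf 553) (.leaf 355)))) (.node (.node (.node (.node (.leaf 417) (.leaf 573)) (.leaf 210)) (.node (.node (.leaf 829) (.leaf 761)) (.leaf 326))) (.node (.node (.node (.leaf 73) (.leaf 628)) (.leaf 451)) (.node (.leaf 252) (.leaf 892)))))))) (.node (.node (.node (.node (.node (.node (.node (.node (.leaf 96) (.leaf 397)) (.leaf 330)) (.node (.node (.leaf 361) (.leaf 885)) (.leaf 470))) (.node (.node (.node (.leaf 36) (.leaf 487)) (.leaf 722)) (.node (.node (.leaf 228) (.leaf 801)) (.leaf 533)))) (.node (.node (.node (.node (.leaf 18) (.leaf 632)) (.leaf 190)) (.node (.node (.leaf 553) (.leaf 699)) (.leaf 298))) (.node (.node (.node (.leaf 428) (.leaf 526)) (.leaf 787)) (.node (.leaf 565) (.leaf 359)))))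 (.node (.node (.node (.node (.node (.leaf 286) (.leaf 647)) (.leaf 177)) (.node (.node (.leaf 87) (.leaf 910)) (.leaf 309))) (.node (.node (.node (.leaf 243) (.leaf 507)) (.leaf 556)) (.node (.node (.leaf 187) (.leaf 959)) (.leaf 864)))) (.node (.node (.node (.node (.leaf 27) (.leaf 876)) (.leaf 272)) (.node (.node (.leaf 108) (.leaf 848)) (.leaf 420))) (.node (.node (.node (.leaf 613) (.leaf 670)) (.leaf 783)) (.node (.leaf 174) (.leaf 381)))))) (.node (.node (.node (.node (.node (.node (.leaf 40) (.leaf 811)) (.leaf 820)) (.node (.node (.leaf 576) (.leaf 801)) (.leaf 273))) (.node (.node (.node (.leaf 41) (.leaf 495)) (.leaf 221)) (.node (.node (.leaf 525) (.leaf 855)) (.leaf 341)))) (.node (.node (.node (.node (.leaf 415) (.leaf 689)) (.leaf 195)) (.node (.node (.leaf 755) (.leaf 710)) (.leaf 876))) (.node (.node (.node (.leaf 283) (.leaf 600)) (.leaf 400)) (.node (.leaf 151) (.leaf 840))))) (.node (.node (.node (.node (.node (.leaf 14) (.leaf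 916)) (.leaf 183)) (.node (.node (.leaf 416) (.leaf 679)) (.leaf 935))) (.node (.node (.node (.leaf 65) (.leaf 565)) (.leaf 749)) (.node (.leaf 137) (.leaf 359)))) (.node (.node (.node (.node (.leaf 181) (.leaf 636)) (.leaf 210)) (.node (.node (.leaf 703) (.leaf 900)) (.leaf 324))) (.node (.node (.node (.leaf 73) (.leaf 576)) (.leaf 260)) (.node (.leaf 161) (.leaf 390))))))) (.node (.node (.node (.node (.node (.node (.node (.leaf 153) (.leaf 605)) (.leaf 630)) (.node (.node (.leaf 222) (.leaf 664)) (.leaf 856))) (.node (.node (.node (.leaf 38) (.leaf 565)) (.leaf 218)) (.node (.node (.leaf 239) (.leaf 835)) (.leaf 363)))) (.node (.node (.node (.node (.leaf 298) (.leaf 925)) (.leaf 741)) (.node (.node (.leaf 99) (.leaf 792)) (.leaf 611))) (.node (.node (.node (.leaf 590) (.leaf 637)) (.leaf 244)) (.node (.leaf 785) (.leaf 364))))) (.node (.node (.node (.node (.node (.leaf 11) (.leaf 426)) (.leaf 181)) (.node (.node (.leaf 768) (.leaf 738)) (.leaf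 286))) (.node (.node (.node (.leaf 684) (.leaf 582)) (.leaf 294)) (.node (.node (.leaf 546) (.leaf 957)) (.leaf 528)))) (.node (.node (.node (.node (.leaf 540) (.leaf 474)) (.leaf 701)) (.node (.node (.leaf 113) (.leaf 737)) (.leaf 322))) (.node (.node (.node (.leaf 70) (.leaf 701)) (.leaf 258)) (.node (.leaf 159) (.leaf 385)))))) (.node (.node (.node (.node (.node (.node (.leaf 172) (.leaf 417)) (.leaf 179)) (.node (.node (.leaf 84) (.leaf 713)) (.leaf 934))) (.node (.node (.node (.leaf 598) (.leaf 965)) (.leaf 650)) (.node (.node (.leaf 129) (.leaf 898)) (.leaf 529)))) (.node (.node (.node (.node (.leaf 148) (.leaf 621)) (.leaf 200)) (.node (.node (.leaf 270) (.leaf 736)) (.leaf 314))) (.node (.node (.node (.leaf 64) (.leaf 626)) (.leaf 253)) (.node (.leaf 153) (.leaf 560))))) (.node (.node (.node (.node (.node (.leaf 261) (.leaf 434)) (.leaf 669)) (.node (.node (.leaf 94) (.leaf 956)) (.leaf 296))) (.node (.node (.node (.leaf 274) (.leaf 835))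 (.leaf 240)) (.node (.leaf 273) (.leaf 837)))) (.node (.node (.node (.node (.leaf 34) (.leaf 531)) (.leaf 439)) (.node (.node (.leaf 498) (.leaf 851)) (.leaf 330))) (.node (.node (.node (.leaf 802) (.leaf 807)) (.leaf 775)) (.node (.leaf 942) (.leaf 531)))))))))))

/-- data -/
def lab4 : Trie (Word) := .node (.node (.node (.node (.node (.node (.node (.node (.node (.node (.node (.node (.leaf ([])) (.leaf ([]))) (.leaf ([]))) (.node (.node (.leaf ([])) (.leaf ([]))) (.leaf ([])))) (.node (.node (.node (.leaf ([])) (.leaf ([]))) (.leaf ([]))) (.node (.node (.leaf ([])) (.leaf ([]))) (.leaf ([]))))) (.node (.node (.node (.node (.leaf ([])) (.leaf ([]))) (.leaf ([]))) (.node (.node (.leaf ([])) (.leaf ([]))) (.leaf ([])))) (.node (.node (.node (.leaf ([])) (.leaf ([]))) (.leaf ([]))) (.node (.leaf ([])) (.leaf ([])))))) (.node (.node (.node (.node (.node (.leaf ([])) (.leaf ([]))) (.leaf ([]))) (.node (.node (.leaf ([])) (.leaf ([]))) (.leaf ([])))) (.node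 (.node (.node (.leaf ([])) (.leaf ([]))) (.leaf ([]))) (.node (.node (.leaf ([])) (.leaf ([]))) (.leaf ([]))))) (.node (.node (.node (.node (.leaf ([])) (.leaf ([]))) (.leaf ([]))) (.node (.node (.leaf ([])) (.leaf ([]))) (.leaf ([])))) (.node (.node (.node (.leaf ([])) (.leaf ([]))) (.leaf ([]))) (.node (.leaf ([])) (.leaf ([]))))))) (.node (.node (.node (.node (.node (.node (.leaf ([])) (.leaf ([]))) (.leaf ([]))) (.node (.node (.leaf ([])) (.leaf ([]))) (.leaf ([])))) (.node (.node (.node (.leaf ([])) (.leaf ([]))) (.leaf ([]))) (.node (.node (.leaf ([])) (.leaf ([]))) (.leaf ([]))))) (.node (.node (.node (.node (.leaf ([])) (.leaf ([]))) (.leaf ([]))) (.node (.node (.leaf ([])) (.leaf ([]))) (.leaf ([])))) (.node (.node (.node (.leaf ([])) (.leaf ([]))) (.leaf ([]))) (.node (.leaf ([])) (.leaf ([])))))) (.node (.node (.node (.node (.node (.leaf ([])) (.leaf ([]))) (.leaf ([]))) (.node (.node (.leaf ([])) (.leaf ([]))) (.leaf ([])))) (.node (.node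 (.node (.leaf ([])) (.leaf ([]))) (.leaf ([]))) (.node (.node (.leaf ([])) (.leaf ([]))) (.leaf ([]))))) (.node (.node (.node (.node (.leaf ([])) (.leaf ([]))) (.leaf ([]))) (.node (.node (.leaf ([])) (.leaf ([]))) (.leaf ([])))) (.node (.node (.node (.leaf ([])) (.leaf ([]))) (.leaf ([]))) (.node (.leaf ([])) (.leaf ([])))))))) (.node (.node (.node (.node (.node (.node (.node (.leaf ([])) (.leaf ([]))) (.leaf ([]))) (.node (.node (.leaf ([])) (.leaf ([]))) (.leaf ([])))) (.node (.node (.node (.leaf ([])) (.leaf ([]))) (.leaf ([]))) (.node (.node (.leaf ([])) (.leaf ([]))) (.leaf ([]))))) (.node (.node (.node (.node (.leaf ([])) (.leaf ([]))) (.leaf ([]))) (.node (.node (.leaf ([])) (.leaf ([]))) (.leaf ([])))) (.node (.node (.node (.leaf ([])) (.leaf ([]))) (.leaf ([]))) (.node (.leaf ([])) (.leaf ([])))))) (.node (.node (.node (.node (.node (.leaf ([])) (.leaf ([]))) (.leaf ([]))) (.node (.node (.leaf ([])) (.leaf ([]))) (.leaf ([])))) (.node (.node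 (.node (.leaf ([])) (.leaf ([]))) (.leaf ([]))) (.node (.node (.leaf ([])) (.leaf ([]))) (.leaf ([]))))) (.node (.node (.node (.node (.leaf ([])) (.leaf ([]))) (.leaf ([]))) (.node (.node (.leaf ([])) (.leaf ([]))) (.leaf ([])))) (.node (.node (.node (.leaf ([])) (.leaf ([]))) (.leaf ([]))) (.node (.leaf ([])) (.leaf ([]))))))) (.node (.node (.node (.node (.node (.node (.leaf ([])) (.leaf ([]))) (.leaf ([]))) (.node (.node (.leaf ([])) (.leaf ([]))) (.leaf ([])))) (.node (.node (.node (.leaf ([])) (.leaf ([]))) (.leaf ([]))) (.node (.node (.leaf ([])) (.leaf ([]))) (.leaf ([]))))) (.node (.node (.node (.node (.leaf ([])) (.leaf ([]))) (.leaf ([]))) (.node (.node (.leaf ([])) (.leaf ([]))) (.leaf ([])))) (.node (.node (.node (.leaf ([])) (.leaf ([]))) (.leaf ([]))) (.node (.leaf ([])) (.leaf ([])))))) (.node (.node (.node (.node (.node (.leaf ([])) (.leaf ([]))) (.leaf ([]))) (.node (.node (.leaf ([])) (.leaf ([]))) (.leaf ([])))) (.node (.node (.node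 (.leaf ([])) (.leaf ([]))) (.leaf ([]))) (.node (.leaf ([])) (.leaf ([]))))) (.node (.node (.node (.node (.leaf ([])) (.leaf ([]))) (.leaf ([]))) (.node (.node (.leaf ([])) (.leaf ([]))) (.leaf ([])))) (.node (.node (.node (.leaf ([])) (.leaf ([]))) (.leaf ([]))) (.node (.leaf ([])) (.leaf ([]))))))))) (.node (.node (.node (.node (.node (.node (.node (.node (.leaf ([])) (.leaf ([]))) (.leaf ([]))) (.node (.node (.leaf ([])) (.leaf ([]))) (.leaf ([])))) (.node (.node (.node (.leaf ([])) (.leaf ([]))) (.leaf ([]))) (.node (.node (.leaf ([])) (.leaf ([]))) (.leaf ([]))))) (.node (.node (.node (.node (.leaf ([])) (.leaf ([]))) (.leaf ([]))) (.node (.node (.leaf ([])) (.leaf ([]))) (.leaf ([])))) (.node (.node (.node (.leaf ([])) (.leaf ([]))) (.leaf ([]))) (.node (.leaf ([])) (.leaf ([])))))) (.node (.node (.node (.node (.node (.leaf ([])) (.leaf ([]))) (.leaf ([]))) (.node (.node (.leaf ([])) (.leaf ([]))) (.leaf ([])))) (.node (.node (.node (.leaf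 ([])) (.leaf ([]))) (.leaf ([]))) (.node (.node (.leaf ([])) (.leaf ([]))) (.leaf ([]))))) (.node (.node (.node (.node (.leaf ([])) (.leaf ([]))) (.leaf ([]))) (.node (.node (.leaf ([])) (.leaf ([]))) (.leaf ([])))) (.node (.node (.node (.leaf ([])) (.leaf ([]))) (.leaf ([]))) (.node (.leaf ([])) (.leaf ([]))))))) (.node (.node (.node (.node (.node (.node (.leaf ([])) (.leaf ([]))) (.leaf ([]))) (.node (.node (.leaf ([])) (.leaf ([]))) (.leaf ([])))) (.node (.node (.node (.leaf ([])) (.leaf ([]))) (.leaf ([]))) (.node (.node (.leaf ([])) (.leaf ([]))) (.leaf ([]))))) (.node (.node (.node (.node (.leaf ([])) (.leaf ([]))) (.leaf ([]))) (.node (.node (.leaf ([])) (.leaf ([]))) (.leaf ([])))) (.node (.node (.node (.leaf ([])) (.leaf ([]))) (.leaf ([]))) (.node (.leaf ([])) (.leaf ([])))))) (.node (.node (.node (.node (.node (.leaf ([])) (.leaf ([]))) (.leaf ([]))) (.node (.node (.leaf ([])) (.leaf ([]))) (.leaf ([])))) (.node (.node (.node (.leaf ([]))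 (.leaf ([]))) (.leaf ([]))) (.node (.leaf ([])) (.leaf ([]))))) (.node (.node (.node (.node (.leaf ([])) (.leaf ([]))) (.leaf ([]))) (.node (.node (.leaf ([])) (.leaf ([]))) (.leaf ([])))) (.node (.node (.node (.leaf ([])) (.leaf ([]))) (.leaf ([]))) (.node (.leaf ([])) (.leaf ([])))))))) (.node (.node (.node (.node (.node (.node (.node (.leaf ([])) (.leaf ([]))) (.leaf ([]))) (.node (.node (.leaf ([])) (.leaf ([]))) (.leaf ([])))) (.node (.node (.node (.leaf ([])) (.leaf ([]))) (.leaf ([]))) (.node (.node (.leaf ([])) (.leaf ([]))) (.leaf ([]))))) (.node (.node (.node (.node (.leaf ([])) (.leaf ([]))) (.leaf ([]))) (.node (.node (.leaf ([])) (.leaf ([]))) (.leaf ([])))) (.node (.node (.node (.leaf ([])) (.leaf ([]))) (.leaf ([]))) (.node (.leaf ([])) (.leaf ([])))))) (.node (.node (.node (.node (.node (.leaf ([])) (.leaf ([]))) (.leaf ([]))) (.node (.node (.leaf ([])) (.leaf ([]))) (.leaf ([])))) (.node (.node (.node (.leaf ([])) (.leaf ([]))) (.leaf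 ([]))) (.node (.node (.leaf ([])) (.leaf ([]))) (.leaf ([]))))) (.node (.node (.node (.node (.leaf ([])) (.leaf ([]))) (.leaf ([]))) (.node (.node (.leaf ([])) (.leaf ([]))) (.leaf ([])))) (.node (.node (.node (.leaf ([])) (.leaf ([]))) (.leaf ([]))) (.node (.leaf ([])) (.leaf ([]))))))) (.node (.node (.node (.node (.node (.node (.leaf ([])) (.leaf ([]))) (.leaf ([]))) (.node (.node (.leaf ([])) (.leaf ([]))) (.leaf ([])))) (.node (.node (.node (.leaf ([])) (.leaf ([]))) (.leaf ([]))) (.node (.node (.leaf ([])) (.leaf ([]))) (.leaf ([]))))) (.node (.node (.node (.node (.leaf ([])) (.leaf ([]))) (.leaf ([]))) (.node (.node (.leaf ([])) (.leaf ([]))) (.leaf ([])))) (.node (.node (.node (.leaf ([])) (.leaf ([]))) (.leaf ([]))) (.node (.leaf ([])) (.leaf ([])))))) (.node (.node (.node (.node (.node (.leaf ([])) (.leaf ([]))) (.leaf ([]))) (.node (.node (.leaf ([])) (.leaf ([]))) (.leaf ([])))) (.node (.node (.node (.leaf ([])) (.leaf ([]))) (.leaf ([])))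 (.node (.leaf ([])) (.leaf ([]))))) (.node (.node (.node (.node (.leaf ([])) (.leaf ([]))) (.leaf ([]))) (.node (.node (.leaf ([])) (.leaf ([]))) (.leaf ([])))) (.node (.node (.node (.leaf ([])) (.leaf ([]))) (.leaf ([]))) (.node (.leaf ([])) (.leaf ([])))))))))) (.node (.node (.node (.node (.node (.node (.node (.node (.node (.leaf ([])) (.leaf ([]))) (.leaf ([]))) (.node (.node (.leaf ([])) (.leaf ([]))) (.leaf ([])))) (.node (.node (.node (.leaf ([])) (.leaf ([]))) (.leaf ([]))) (.node (.node (.leaf ([])) (.leaf ([]))) (.leaf ([]))))) (.node (.node (.node (.node (.leaf ([])) (.leaf ([]))) (.leaf ([]))) (.node (.node (.leaf ([])) (.leaf ([]))) (.leaf ([])))) (.node (.node (.node (.leaf ([])) (.leaf ([]))) (.leaf ([]))) (.node (.leaf ([])) (.leaf ([])))))) (.node (.node (.node (.node (.node (.leaf ([])) (.leaf ([]))) (.leaf ([]))) (.node (.node (.leaf ([])) (.leaf ([]))) (.leaf ([])))) (.node (.node (.node (.leaf ([])) (.leaf ([]))) (.leaf ([])))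 (.node (.node (.leaf ([])) (.leaf ([]))) (.leaf ([]))))) (.node (.node (.node (.node (.leaf ([])) (.leaf ([]))) (.leaf ([]))) (.node (.node (.leaf ([])) (.leaf ([]))) (.leaf ([])))) (.node (.node (.node (.leaf ([])) (.leaf ([]))) (.leaf ([]))) (.node (.leaf ([])) (.leaf ([]))))))) (.node (.node (.node (.node (.node (.node (.leaf ([])) (.leaf ([]))) (.leaf ([]))) (.node (.node (.leaf ([])) (.leaf ([]))) (.leaf ([])))) (.node (.node (.node (.leaf ([])) (.leaf ([]))) (.leaf ([]))) (.node (.node (.leaf ([])) (.leaf ([]))) (.leaf ([]))))) (.node (.node (.node (.node (.leaf ([])) (.leaf ([]))) (.leaf ([]))) (.node (.node (.leaf ([])) (.leaf ([]))) (.leaf ([])))) (.node (.node (.node (.leaf ([])) (.leaf ([]))) (.leaf ([]))) (.node (.leaf ([])) (.leaf ([])))))) (.node (.node (.node (.node (.node (.leaf ([])) (.leaf ([]))) (.leaf ([]))) (.node (.node (.leaf ([])) (.leaf ([]))) (.leaf ([])))) (.node (.node (.node (.leaf ([])) (.leaf ([]))) (.leaf ([]))) (.node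 (.leaf ([])) (.leaf ([]))))) (.node (.node (.node (.node (.leaf ([])) (.leaf ([]))) (.leaf ([]))) (.node (.node (.leaf ([])) (.leaf ([]))) (.leaf ([])))) (.node (.node (.node (.leaf ([])) (.leaf ([]))) (.leaf ([]))) (.node (.leaf ([])) (.leaf ([])))))))) (.node (.node (.node (.node (.node (.node (.node (.leaf ([])) (.leaf ([]))) (.leaf ([]))) (.node (.node (.leaf ([])) (.leaf ([]))) (.leaf ([])))) (.node (.node (.node (.leaf ([])) (.leaf ([]))) (.leaf ([]))) (.node (.node (.leaf ([])) (.leaf ([]))) (.leaf ([]))))) (.node (.node (.node (.node (.leaf ([])) (.leaf ([]))) (.leaf ([]))) (.node (.node (.leaf ([])) (.leaf ([]))) (.leaf ([])))) (.node (.node (.node (.leaf ([])) (.leaf ([]))) (.leaf ([]))) (.node (.leaf ([])) (.leaf ([])))))) (.node (.node (.node (.node (.node (.leaf ([])) (.leaf ([]))) (.leaf ([]))) (.node (.node (.leaf ([])) (.leaf ([]))) (.leaf ([])))) (.node (.node (.node (.leaf ([])) (.leaf ([]))) (.leaf ([]))) (.node (.node (.leaf ([]))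 (.leaf ([]))) (.leaf ([]))))) (.node (.node (.node (.node (.leaf ([])) (.leaf ([]))) (.leaf ([]))) (.node (.node (.leaf ([])) (.leaf ([]))) (.leaf ([])))) (.node (.node (.node (.leaf ([])) (.leaf ([]))) (.leaf ([]))) (.node (.leaf ([])) (.leaf ([]))))))) (.node (.node (.node (.node (.node (.node (.leaf ([])) (.leaf ([]))) (.leaf ([]))) (.node (.node (.leaf ([])) (.leaf ([]))) (.leaf ([])))) (.node (.node (.node (.leaf ([])) (.leaf ([]))) (.leaf ([]))) (.node (.node (.leaf ([])) (.leaf ([]))) (.leaf ([]))))) (.node (.node (.node (.node (.leaf ([])) (.leaf ([]))) (.leaf ([]))) (.node (.node (.leaf ([])) (.leaf ([]))) (.leaf ([])))) (.node (.node (.node (.leaf ([])) (.leaf ([]))) (.leaf ([]))) (.node (.leaf ([])) (.leaf ([])))))) (.node (.node (.node (.node (.node (.leaf ([])) (.leaf ([]))) (.leaf ([]))) (.node (.node (.leaf ([])) (.leaf ([]))) (.leaf ([])))) (.node (.node (.node (.leaf ([])) (.leaf ([]))) (.leaf ([]))) (.node (.leaf ([])) (.leaf ([])))))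 (.node (.node (.node (.node (.leaf ([])) (.leaf ([]))) (.leaf ([]))) (.node (.node (.leaf ([])) (.leaf ([]))) (.leaf ([])))) (.node (.node (.node (.leaf ([])) (.leaf ([]))) (.leaf ([]))) (.node (.leaf ([])) (.leaf ([]))))))))) (.node (.node (.node (.node (.node (.node (.node (.node (.leaf ([])) (.leaf ([]))) (.leaf ([]))) (.node (.node (.leaf ([])) (.leaf ([]))) (.leaf ([])))) (.node (.node (.node (.leaf ([])) (.leaf ([]))) (.leaf ([]))) (.node (.node (.leaf ([])) (.leaf ([]))) (.leaf ([]))))) (.node (.node (.node (.node (.leaf ([])) (.leaf ([]))) (.leaf ([]))) (.node (.node (.leaf ([])) (.leaf ([]))) (.leaf ([])))) (.node (.node (.node (.leaf ([])) (.leaf ([]))) (.leaf ([]))) (.node (.leaf ([])) (.leaf ([])))))) (.node (.node (.node (.node (.node (.leaf ([])) (.leaf ([]))) (.leaf ([]))) (.node (.node (.leaf ([])) (.leaf ([]))) (.leaf ([])))) (.node (.node (.node (.leaf ([])) (.leaf ([]))) (.leaf ([]))) (.node (.node (.leaf ([])) (.leaf ([]))) (.leaf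 ([]))))) (.node (.node (.node (.node (.leaf ([])) (.leaf ([]))) (.leaf ([]))) (.node (.node (.leaf ([])) (.leaf ([]))) (.leaf ([])))) (.node (.node (.node (.leaf ([])) (.leaf ([]))) (.leaf ([]))) (.node (.leaf ([])) (.leaf ([]))))))) (.node (.node (.node (.node (.node (.node (.leaf ([])) (.leaf ([]))) (.leaf ([]))) (.node (.node (.leaf ([])) (.leaf ([]))) (.leaf ([])))) (.node (.node (.node (.leaf ([])) (.leaf ([]))) (.leaf ([]))) (.node (.node (.leaf ([])) (.leaf ([]))) (.leaf ([]))))) (.node (.node (.node (.node (.leaf ([])) (.leaf ([]))) (.leaf ([]))) (.node (.node (.leaf ([])) (.leaf ([]))) (.leaf ([])))) (.node (.node (.node (.leaf ([])) (.leaf ([]))) (.leaf ([]))) (.node (.leaf ([])) (.leaf ([])))))) (.node (.node (.node (.node (.node (.leaf ([])) (.leaf ([]))) (.leaf ([]))) (.node (.node (.leaf ([])) (.leaf ([]))) (.leaf ([])))) (.node (.node (.node (.leaf ([])) (.leaf ([]))) (.leaf ([]))) (.node (.leaf ([])) (.leaf ([]))))) (.node (.node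 (.node (.node (.leaf ([])) (.leaf ([]))) (.leaf ([]))) (.node (.node (.leaf ([])) (.leaf ([]))) (.leaf ([])))) (.node (.node (.node (.leaf ([])) (.leaf ([]))) (.leaf ([]))) (.node (.leaf ([])) (.leaf ([])))))))) (.node (.node (.node (.node (.node (.node (.node (.leaf ([])) (.leaf ([]))) (.leaf ([]))) (.node (.node (.leaf ([])) (.leaf ([]))) (.leaf ([])))) (.node (.node (.node (.leaf ([])) (.leaf ([]))) (.leaf ([]))) (.node (.node (.leaf ([])) (.leaf ([]))) (.leaf ([]))))) (.node (.node (.node (.node (.leaf ([])) (.leaf ([]))) (.leaf ([]))) (.node (.node (.leaf ([])) (.leaf ([]))) (.leaf ([])))) (.node (.node (.node (.leaf ([])) (.leaf ([]))) (.leaf ([]))) (.node (.leaf ([])) (.leaf ([])))))) (.node (.node (.node (.node (.node (.leaf ([])) (.leaf ([]))) (.leaf ([]))) (.node (.node (.leaf ([])) (.leaf ([]))) (.leaf ([])))) (.node (.node (.node (.leaf ([])) (.leaf ([]))) (.leaf ([]))) (.node (.node (.leaf ([])) (.leaf ([]))) (.leaf ([]))))) (.node (.node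 (.node (.node (.leaf ([])) (.leaf ([]))) (.leaf ([]))) (.node (.node (.leaf ([])) (.leaf ([]))) (.leaf ([])))) (.node (.node (.node (.leaf ([])) (.leaf ([]))) (.leaf ([]))) (.node (.leaf ([])) (.leaf ([]))))))) (.node (.node (.node (.node (.node (.node (.leaf ([])) (.leaf ([]))) (.leaf ([]))) (.node (.node (.leaf ([])) (.leaf ([]))) (.leaf ([])))) (.node (.node (.node (.leaf ([])) (.leaf ([]))) (.leaf ([]))) (.node (.node (.leaf ([])) (.leaf ([]))) (.leaf ([]))))) (.node (.node (.node (.node (.leaf ([])) (.leaf ([]))) (.leaf ([]))) (.node (.node (.leaf ([])) (.leaf ([]))) (.leaf ([])))) (.node (.node (.node (.leaf ([])) (.leaf ([]))) (.leaf ([]))) (.node (.leaf ([])) (.leaf ([])))))) (.node (.node (.node (.node (.node (.leaf ([])) (.leaf ([]))) (.leaf ([]))) (.node (.node (.leaf ([])) (.leaf ([]))) (.leaf ([])))) (.node (.node (.node (.leaf ([])) (.leaf ([]))) (.leaf ([]))) (.node (.leaf ([])) (.leaf ([]))))) (.node (.node (.node (.node (.leaf ([]))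 (.leaf ([]))) (.leaf ([]))) (.node (.node (.leaf ([])) (.leaf ([]))) (.leaf ([])))) (.node (.node (.node (.leaf ([])) (.leaf ([]))) (.leaf ([]))) (.node (.leaf ([])) (.leaf ([]))))))))))) (.node (.node (.node (.node (.node (.node (.node (.node (.node (.node (.leaf ([])) (.leaf ([]))) (.leaf ([]))) (.node (.node (.leaf ([])) (.leaf ([]))) (.leaf ([])))) (.node (.node (.node (.leaf ([])) (.leaf ([]))) (.leaf ([]))) (.node (.node (.leaf ([])) (.leaf ([]))) (.leaf ([]))))) (.node (.node (.node (.node (.leaf ([])) (.leaf ([]))) (.leaf ([]))) (.node (.node (.leaf ([])) (.leaf ([]))) (.leaf ([])))) (.node (.node (.node (.leaf ([])) (.leaf ([]))) (.leaf ([]))) (.node (.leaf ([])) (.leaf ([])))))) (.node (.node (.node (.node (.node (.leaf ([])) (.leaf ([]))) (.leaf ([]))) (.node (.node (.leaf ([])) (.leaf ([]))) (.leaf ([])))) (.node (.node (.node (.leaf ([])) (.leaf ([]))) (.leaf ([]))) (.node (.node (.leaf ([])) (.leaf ([]))) (.leaf ([]))))) (.node (.node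 (.node (.node (.leaf ([])) (.leaf ([]))) (.leaf ([]))) (.node (.node (.leaf ([])) (.leaf ([]))) (.leaf ([])))) (.node (.node (.node (.leaf ([])) (.leaf ([]))) (.leaf ([]))) (.node (.leaf ([])) (.leaf ([]))))))) (.node (.node (.node (.node (.node (.node (.leaf ([])) (.leaf ([]))) (.leaf ([]))) (.node (.node (.leaf ([])) (.leaf ([]))) (.leaf ([])))) (.node (.node (.node (.leaf ([])) (.leaf ([]))) (.leaf ([]))) (.node (.node (.leaf ([])) (.leaf ([]))) (.leaf ([]))))) (.node (.node (.node (.node (.leaf ([])) (.leaf ([]))) (.leaf ([]))) (.node (.node (.leaf ([])) (.leaf ([]))) (.leaf ([])))) (.node (.node (.node (.leaf ([])) (.leaf ([]))) (.leaf ([]))) (.node (.leaf ([])) (.leaf ([])))))) (.node (.node (.node (.node (.node (.leaf ([])) (.leaf ([]))) (.leaf ([]))) (.node (.node (.leaf ([])) (.leaf ([]))) (.leaf ([])))) (.node (.node (.node (.leaf ([])) (.leaf ([]))) (.leaf ([]))) (.node (.node (.leaf ([])) (.leaf ([]))) (.leaf ([]))))) (.node (.node (.node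 (.node (.leaf ([])) (.leaf ([]))) (.leaf ([]))) (.node (.node (.leaf ([])) (.leaf ([]))) (.leaf ([])))) (.node (.node (.node (.leaf ([])) (.leaf ([]))) (.leaf ([]))) (.node (.leaf ([])) (.leaf ([])))))))) (.node (.node (.node (.node (.node (.node (.node (.leaf ([])) (.leaf ([]))) (.leaf ([]))) (.node (.node (.leaf ([])) (.leaf ([]))) (.leaf ([])))) (.node (.node (.node (.leaf ([])) (.leaf ([]))) (.leaf ([]))) (.node (.node (.leaf ([])) (.leaf ([]))) (.leaf ([]))))) (.node (.node (.node (.node (.leaf ([])) (.leaf ([]))) (.leaf ([]))) (.node (.node (.leaf ([])) (.leaf ([]))) (.leaf ([])))) (.node (.node (.node (.leaf ([])) (.leaf ([]))) (.leaf ([]))) (.node (.leaf ([])) (.leaf ([])))))) (.node (.node (.node (.node (.node (.leaf ([])) (.leaf ([]))) (.leaf ([]))) (.node (.node (.leaf ([])) (.leaf ([]))) (.leaf ([])))) (.node (.node (.node (.leaf ([])) (.leaf ([]))) (.leaf ([]))) (.node (.node (.leaf ([])) (.leaf ([]))) (.leaf ([]))))) (.node (.node (.node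 (.node (.leaf ([])) (.leaf ([]))) (.leaf ([]))) (.node (.node (.leaf ([])) (.leaf ([]))) (.leaf ([])))) (.node (.node (.node (.leaf ([])) (.leaf ([]))) (.leaf ([]))) (.node (.leaf ([])) (.leaf ([]))))))) (.node (.node (.node (.node (.node (.node (.leaf ([])) (.leaf ([]))) (.leaf ([]))) (.node (.node (.leaf ([])) (.leaf ([]))) (.leaf ([])))) (.node (.node (.node (.leaf ([])) (.leaf ([]))) (.leaf ([]))) (.node (.node (.leaf ([])) (.leaf ([]))) (.leaf ([]))))) (.node (.node (.node (.node (.leaf ([])) (.leaf ([]))) (.leaf ([]))) (.node (.node (.leaf ([])) (.leaf ([]))) (.leaf ([])))) (.node (.node (.node (.leaf ([])) (.leaf ([]))) (.leaf ([]))) (.node (.leaf ([])) (.leaf ([])))))) (.node (.node (.node (.node (.node (.leaf ([])) (.leaf ([]))) (.leaf ([]))) (.node (.node (.leaf ([])) (.leaf ([]))) (.leaf ([])))) (.node (.node (.node (.leaf ([])) (.leaf ([]))) (.leaf ([]))) (.node (.leaf ([])) (.leaf ([]))))) (.node (.node (.node (.node (.leaf ([])) (.leaf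 ([]))) (.leaf ([]))) (.node (.node (.leaf ([])) (.leaf ([]))) (.leaf ([])))) (.node (.node (.node (.leaf ([])) (.leaf ([]))) (.leaf ([]))) (.node (.leaf ([])) (.leaf ([]))))))))) (.node (.node (.node (.node (.node (.node (.node (.node (.leaf ([])) (.leaf ([]))) (.leaf ([]))) (.node (.node (.leaf ([])) (.leaf ([]))) (.leaf ([])))) (.node (.node (.node (.leaf ([])) (.leaf ([]))) (.leaf ([]))) (.node (.node (.leaf ([])) (.leaf ([]))) (.leaf ([]))))) (.node (.node (.node (.node (.leaf ([])) (.leaf ([]))) (.leaf ([]))) (.node (.node (.leaf ([])) (.leaf ([]))) (.leaf ([])))) (.node (.node (.node (.leaf ([])) (.leaf ([]))) (.leaf ([]))) (.node (.leaf ([])) (.leaf ([])))))) (.node (.node (.node (.node (.node (.leaf ([])) (.leaf ([]))) (.leaf ([]))) (.node (.node (.leaf ([])) (.leaf ([]))) (.leaf ([])))) (.node (.node (.node (.leaf ([])) (.leaf ([]))) (.leaf ([]))) (.node (.node (.leaf ([])) (.leaf ([]))) (.leaf ([]))))) (.node (.node (.node (.node (.leaf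 ([])) (.leaf ([]))) (.leaf ([]))) (.node (.node (.leaf ([])) (.leaf ([]))) (.leaf ([])))) (.node (.node (.node (.leaf ([])) (.leaf ([]))) (.leaf ([]))) (.node (.leaf ([])) (.leaf ([]))))))) (.node (.node (.node (.node (.node (.node (.leaf ([])) (.leaf ([]))) (.leaf ([]))) (.node (.node (.leaf ([])) (.leaf ([]))) (.leaf ([])))) (.node (.node (.node (.leaf ([])) (.leaf ([]))) (.leaf ([]))) (.node (.node (.leaf ([])) (.leaf ([]))) (.leaf ([]))))) (.node (.node (.node (.node (.leaf ([])) (.leaf ([]))) (.leaf ([]))) (.node (.node (.leaf ([])) (.leaf ([]))) (.leaf ([])))) (.node (.node (.node (.leaf ([])) (.leaf ([]))) (.leaf ([]))) (.node (.leaf ([])) (.leaf ([])))))) (.node (.node (.node (.node (.node (.leaf ([])) (.leaf ([]))) (.leaf ([]))) (.node (.node (.leaf ([])) (.leaf ([]))) (.leaf ([])))) (.node (.node (.node (.leaf ([])) (.leaf ([]))) (.leaf ([]))) (.node (.leaf ([])) (.leaf ([]))))) (.node (.node (.node (.node (.leaf ([])) (.leaf ([]))) (.leaf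 ([]))) (.node (.node (.leaf ([])) (.leaf ([]))) (.leaf ([])))) (.node (.node (.node (.leaf ([])) (.leaf ([]))) (.leaf ([]))) (.node (.leaf ([])) (.leaf ([])))))))) (.node (.node (.node (.node (.node (.node (.node (.leaf ([])) (.leaf ([]))) (.leaf ([]))) (.node (.node (.leaf ([])) (.leaf ([]))) (.leaf ([])))) (.node (.node (.node (.leaf ([])) (.leaf ([]))) (.leaf ([]))) (.node (.node (.leaf ([])) (.leaf ([]))) (.leaf ([]))))) (.node (.node (.node (.node (.leaf ([])) (.leaf ([]))) (.leaf ([]))) (.node (.node (.leaf ([])) (.leaf ([]))) (.leaf ([])))) (.node (.node (.node (.leaf ([])) (.leaf ([]))) (.leaf ([]))) (.node (.leaf ([])) (.leaf ([])))))) (.node (.node (.node (.node (.node (.leaf ([])) (.leaf ([]))) (.leaf ([]))) (.node (.node (.leaf ([])) (.leaf ([]))) (.leaf ([])))) (.node (.node (.node (.leaf ([])) (.leaf ([]))) (.leaf ([]))) (.node (.node (.leaf ([])) (.leaf ([]))) (.leaf ([]))))) (.node (.node (.node (.node (.leaf ([])) (.leaf ([]))) (.leaf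 ([]))) (.node (.node (.leaf ([])) (.leaf ([]))) (.leaf ([])))) (.node (.node (.node (.leaf ([])) (.leaf ([]))) (.leaf ([]))) (.node (.leaf ([])) (.leaf ([]))))))) (.node (.node (.node (.node (.node (.node (.leaf ([])) (.leaf ([]))) (.leaf ([]))) (.node (.node (.leaf ([])) (.leaf ([]))) (.leaf ([])))) (.node (.node (.node (.leaf ([])) (.leaf ([]))) (.leaf ([]))) (.node (.node (.leaf ([])) (.leaf ([]))) (.leaf ([]))))) (.node (.node (.node (.node (.leaf ([])) (.leaf ([]))) (.leaf ([]))) (.node (.node (.leaf ([])) (.leaf ([]))) (.leaf ([])))) (.node (.node (.node (.leaf ([])) (.leaf ([]))) (.leaf ([]))) (.node (.leaf ([])) (.leaf ([])))))) (.node (.node (.node (.node (.node (.leaf ([])) (.leaf ([]))) (.leaf ([]))) (.node (.node (.leaf ([])) (.leaf ([]))) (.leaf ([])))) (.node (.node (.node (.leaf ([])) (.leaf ([]))) (.leaf ([]))) (.node (.leaf ([])) (.leaf ([]))))) (.node (.node (.node (.node (.leaf ([])) (.leaf ([]))) (.leaf ([]))) (.node (.node (.leaf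 ([])) (.leaf ([]))) (.leaf ([])))) (.node (.node (.node (.leaf ([])) (.leaf ([]))) (.leaf ([]))) (.node (.leaf ([])) (.leaf ([])))))))))) (.node (.node (.node (.node (.node (.node (.node (.node (.node (.leaf ([])) (.leaf ([]))) (.leaf ([]))) (.node (.node (.leaf ([])) (.leaf ([]))) (.leaf ([])))) (.node (.node (.node (.leaf ([])) (.leaf ([]))) (.leaf ([]))) (.node (.node (.leaf ([])) (.leaf ([]))) (.leaf ([]))))) (.node (.node (.node (.node (.leaf ([])) (.leaf ([]))) (.leaf ([]))) (.node (.node (.leaf ([])) (.leaf ([]))) (.leaf ([])))) (.node (.node (.node (.leaf ([])) (.leaf ([]))) (.leaf ([]))) (.node (.leaf ([])) (.leaf ([])))))) (.node (.node (.node (.node (.node (.leaf ([])) (.leaf ([]))) (.leaf ([]))) (.node (.node (.leaf ([])) (.leaf ([]))) (.leaf ([])))) (.node (.node (.node (.leaf ([])) (.leaf ([]))) (.leaf ([]))) (.node (.node (.leaf ([])) (.leaf ([]))) (.leaf ([]))))) (.node (.node (.node (.node (.leaf ([])) (.leaf ([]))) (.leaf ([])))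 (.node (.node (.leaf ([])) (.leaf ([]))) (.leaf ([])))) (.node (.node (.node (.leaf ([])) (.leaf ([]))) (.leaf ([]))) (.node (.leaf ([])) (.leaf ([]))))))) (.node (.node (.node (.node (.node (.node (.leaf ([])) (.leaf ([]))) (.leaf ([]))) (.node (.node (.leaf ([])) (.leaf ([]))) (.leaf ([])))) (.node (.node (.node (.leaf ([])) (.leaf ([]))) (.leaf ([]))) (.node (.node (.leaf ([])) (.leaf ([]))) (.leaf ([]))))) (.node (.node (.node (.node (.leaf ([])) (.leaf ([]))) (.leaf ([]))) (.node (.node (.leaf ([])) (.leaf ([]))) (.leaf ([])))) (.node (.node (.node (.leaf ([])) (.leaf ([]))) (.leaf ([]))) (.node (.leaf ([])) (.leaf ([])))))) (.node (.node (.node (.node (.node (.leaf ([])) (.leaf ([]))) (.leaf ([]))) (.node (.node (.leaf ([])) (.leaf ([]))) (.leaf ([])))) (.node (.node (.node (.leaf ([])) (.leaf ([]))) (.leaf ([]))) (.node (.leaf ([])) (.leaf ([]))))) (.node (.node (.node (.node (.leaf ([])) (.leaf ([]))) (.leaf ([]))) (.node (.node (.leaf ([]))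 (.leaf ([]))) (.leaf ([])))) (.node (.node (.node (.leaf ([])) (.leaf ([]))) (.leaf ([]))) (.node (.leaf ([])) (.leaf ([])))))))) (.node (.node (.node (.node (.node (.node (.node (.leaf ([])) (.leaf ([]))) (.leaf ([]))) (.node (.node (.leaf ([])) (.leaf ([]))) (.leaf ([])))) (.node (.node (.node (.leaf ([])) (.leaf ([]))) (.leaf ([]))) (.node (.node (.leaf ([])) (.leaf ([]))) (.leaf ([]))))) (.node (.node (.node (.node (.leaf ([])) (.leaf ([]))) (.leaf ([]))) (.node (.node (.leaf ([])) (.leaf ([]))) (.leaf ([])))) (.node (.node (.node (.leaf ([])) (.leaf ([]))) (.leaf ([]))) (.node (.leaf ([])) (.leaf ([])))))) (.node (.node (.node (.node (.node (.leaf ([])) (.leaf ([]))) (.leaf ([]))) (.node (.node (.leaf ([])) (.leaf ([]))) (.leaf ([])))) (.node (.node (.node (.leaf ([])) (.leaf ([]))) (.leaf ([]))) (.node (.node (.leaf ([])) (.leaf ([]))) (.leaf ([]))))) (.node (.node (.node (.node (.leaf ([])) (.leaf ([]))) (.leaf ([]))) (.node (.node (.leaf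 ([])) (.leaf ([]))) (.leaf ([])))) (.node (.node (.node (.leaf ([])) (.leaf ([]))) (.leaf ([]))) (.node (.leaf ([])) (.leaf ([]))))))) (.node (.node (.node (.node (.node (.node (.leaf ([])) (.leaf ([]))) (.leaf ([]))) (.node (.node (.leaf ([])) (.leaf ([]))) (.leaf ([])))) (.node (.node (.node (.leaf ([])) (.leaf ([]))) (.leaf ([]))) (.node (.node (.leaf ([])) (.leaf ([]))) (.leaf ([]))))) (.node (.node (.node (.node (.leaf ([])) (.leaf ([]))) (.leaf ([]))) (.node (.node (.leaf ([])) (.leaf ([]))) (.leaf ([])))) (.node (.node (.node (.leaf ([])) (.leaf ([]))) (.leaf ([]))) (.node (.leaf ([])) (.leaf ([])))))) (.node (.node (.node (.node (.node (.leaf ([])) (.leaf ([]))) (.leaf ([]))) (.node (.node (.leaf ([])) (.leaf ([]))) (.leaf ([])))) (.node (.node (.node (.leaf ([])) (.leaf ([]))) (.leaf ([]))) (.node (.leaf ([])) (.leaf ([]))))) (.node (.node (.node (.node (.leaf ([])) (.leaf ([]))) (.leaf ([]))) (.node (.node (.leaf ([])) (.leaf ([]))) (.leaf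 ([])))) (.node (.node (.node (.leaf ([])) (.leaf ([]))) (.leaf ([]))) (.node (.leaf ([])) (.leaf ([]))))))))) (.node (.node (.node (.node (.node (.node (.node (.node (.leaf ([])) (.leaf ([]))) (.leaf ([]))) (.node (.node (.leaf ([])) (.leaf ([]))) (.leaf ([])))) (.node (.node (.node (.leaf ([])) (.leaf ([]))) (.leaf ([]))) (.node (.node (.leaf ([])) (.leaf ([]))) (.leaf ([]))))) (.node (.node (.node (.node (.leaf ([])) (.leaf ([]))) (.leaf ([]))) (.node (.node (.leaf ([])) (.leaf ([]))) (.leaf ([])))) (.node (.node (.node (.leaf ([])) (.leaf ([]))) (.leaf ([]))) (.node (.leaf ([])) (.leaf ([])))))) (.node (.node (.node (.node (.node (.leaf ([])) (.leaf ([]))) (.leaf ([]))) (.node (.node (.leaf ([])) (.leaf ([]))) (.leaf ([])))) (.node (.node (.node (.leaf ([])) (.leaf ([]))) (.leaf ([]))) (.node (.node (.leaf ([])) (.leaf ([]))) (.leaf ([]))))) (.node (.node (.node (.node (.leaf ([])) (.leaf ([]))) (.leaf ([]))) (.node (.node (.leaf ([])) (.leaf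 ([]))) (.leaf ([])))) (.node (.node (.node (.leaf ([])) (.leaf ([]))) (.leaf ([]))) (.node (.leaf ([])) (.leaf ([]))))))) (.node (.node (.node (.node (.node (.node (.leaf ([])) (.leaf ([]))) (.leaf ([]))) (.node (.node (.leaf ([])) (.leaf ([]))) (.leaf ([])))) (.node (.node (.node (.leaf ([])) (.leaf ([]))) (.leaf ([]))) (.node (.node (.leaf ([])) (.leaf ([]))) (.leaf ([]))))) (.node (.node (.node (.node (.leaf ([])) (.leaf ([]))) (.leaf ([]))) (.node (.node (.leaf ([])) (.leaf ([]))) (.leaf ([])))) (.node (.node (.node (.leaf ([])) (.leaf ([]))) (.leaf ([]))) (.node (.leaf ([])) (.leaf ([])))))) (.node (.node (.node (.node (.node (.leaf ([])) (.leaf ([]))) (.leaf ([]))) (.node (.node (.leaf ([])) (.leaf ([]))) (.leaf ([])))) (.node (.node (.node (.leaf ([])) (.leaf ([]))) (.leaf ([]))) (.node (.leaf ([])) (.leaf ([]))))) (.node (.node (.node (.node (.leaf ([])) (.leaf ([]))) (.leaf ([]))) (.node (.node (.leaf ([])) (.leaf ([]))) (.leaf ([])))) (.node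 (.node (.node (.leaf ([])) (.leaf ([]))) (.leaf ([]))) (.node (.leaf ([])) (.leaf ([])))))))) (.node (.node (.node (.node (.node (.node (.node (.leaf ([])) (.leaf ([]))) (.leaf ([]))) (.node (.node (.leaf ([])) (.leaf ([]))) (.leaf ([])))) (.node (.node (.node (.leaf ([])) (.leaf ([]))) (.leaf ([]))) (.node (.node (.leaf ([])) (.leaf ([]))) (.leaf ([]))))) (.node (.node (.node (.node (.leaf ([])) (.leaf ([]))) (.leaf ([]))) (.node (.node (.leaf ([])) (.leaf ([]))) (.leaf ([])))) (.node (.node (.node (.leaf ([])) (.leaf ([]))) (.leaf ([]))) (.node (.leaf ([])) (.leaf ([])))))) (.node (.node (.node (.node (.node (.leaf ([])) (.leaf ([]))) (.leaf ([]))) (.node (.node (.leaf ([])) (.leaf ([]))) (.leaf ([])))) (.node (.node (.node (.leaf ([])) (.leaf ([]))) (.leaf ([]))) (.node (.node (.leaf ([])) (.leaf ([]))) (.leaf ([]))))) (.node (.node (.node (.node (.leaf ([])) (.leaf ([]))) (.leaf ([]))) (.node (.node (.leaf ([])) (.leaf ([]))) (.leaf ([])))) (.node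 (.node (.node (.leaf ([])) (.leaf ([]))) (.leaf ([]))) (.node (.leaf ([])) (.leaf ([]))))))) (.node (.node (.node (.node (.node (.node (.leaf ([])) (.leaf ([]))) (.leaf ([]))) (.node (.node (.leaf ([])) (.leaf ([]))) (.leaf ([])))) (.node (.node (.node (.leaf ([])) (.leaf ([]))) (.leaf ([]))) (.node (.node (.leaf ([])) (.leaf ([]))) (.leaf ([]))))) (.node (.node (.node (.node (.leaf ([])) (.leaf ([]))) (.leaf ([]))) (.node (.node (.leaf ([])) (.leaf ([]))) (.leaf ([])))) (.node (.node (.node (.leaf ([])) (.leaf ([]))) (.leaf ([]))) (.node (.leaf ([])) (.leaf ([])))))) (.node (.node (.node (.node (.node (.leaf ([])) (.leaf ([]))) (.leaf ([]))) (.node (.node (.leaf ([])) (.leaf ([]))) (.leaf ([])))) (.node (.node (.node (.leaf ([])) (.leaf ([]))) (.leaf ([]))) (.node (.leaf ([])) (.leaf ([]))))) (.node (.node (.node (.node (.leaf ([])) (.leaf ([]))) (.leaf ([]))) (.node (.node (.leaf ([])) (.leaf ([]))) (.leaf ([])))) (.node (.node (.node (.leaf ([]))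 (.leaf ([]))) (.leaf ([]))) (.node (.leaf ([])) (.leaf ([])))))))))))) (.node (.node (.node (.node (.node (.node (.node (.node (.node (.node (.node (.leaf ([])) (.leaf ([]))) (.leaf ([]))) (.node (.node (.leaf ([])) (.leaf ([]))) (.leaf ([])))) (.node (.node (.node (.leaf ([])) (.leaf ([]))) (.leaf ([]))) (.node (.node (.leaf ([])) (.leaf ([]))) (.leaf ([]))))) (.node (.node (.node (.node (.leaf ([])) (.leaf ([]))) (.leaf ([]))) (.node (.node (.leaf ([])) (.leaf ([]))) (.leaf ([])))) (.node (.node (.node (.leaf ([])) (.leaf ([]))) (.leaf ([]))) (.node (.leaf ([])) (.leaf ([])))))) (.node (.node (.node (.node (.node (.leaf ([])) (.leaf ([]))) (.leaf ([]))) (.node (.node (.leaf ([])) (.leaf ([]))) (.leaf ([])))) (.node (.node (.node (.leaf ([])) (.leaf ([]))) (.leaf ([]))) (.node (.node (.leaf ([])) (.leaf ([]))) (.leaf ([]))))) (.node (.node (.node (.node (.leaf ([])) (.leaf ([]))) (.leaf ([]))) (.node (.node (.leaf ([])) (.leaf ([]))) (.leaf ([]))))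 (.node (.node (.node (.leaf ([])) (.leaf ([]))) (.leaf ([]))) (.node (.leaf ([])) (.leaf ([]))))))) (.node (.node (.node (.node (.node (.node (.leaf ([])) (.leaf ([]))) (.leaf ([]))) (.node (.node (.leaf ([])) (.leaf ([]))) (.leaf ([])))) (.node (.node (.node (.leaf ([])) (.leaf ([]))) (.leaf ([]))) (.node (.node (.leaf ([])) (.leaf ([]))) (.leaf ([]))))) (.node (.node (.node (.node (.leaf ([])) (.leaf ([]))) (.leaf ([]))) (.node (.node (.leaf ([])) (.leaf ([]))) (.leaf ([])))) (.node (.node (.node (.leaf ([])) (.leaf ([]))) (.leaf ([]))) (.node (.leaf ([])) (.leaf ([])))))) (.node (.node (.node (.node (.node (.leaf ([])) (.leaf ([]))) (.leaf ([]))) (.node (.node (.leaf ([])) (.leaf ([]))) (.leaf ([])))) (.node (.node (.node (.leaf ([])) (.leaf ([]))) (.leaf ([]))) (.node (.node (.leaf ([])) (.leaf ([]))) (.leaf ([]))))) (.node (.node (.node (.node (.leaf ([])) (.leaf ([]))) (.leaf ([]))) (.node (.node (.leaf ([])) (.leaf ([]))) (.leaf ([])))) (.node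 (.node (.node (.leaf ([])) (.leaf ([]))) (.leaf ([]))) (.node (.leaf ([])) (.leaf ([])))))))) (.node (.node (.node (.node (.node (.node (.node (.leaf ([])) (.leaf ([]))) (.leaf ([]))) (.node (.node (.leaf ([])) (.leaf ([]))) (.leaf ([])))) (.node (.node (.node (.leaf ([])) (.leaf ([]))) (.leaf ([]))) (.node (.node (.leaf ([])) (.leaf ([]))) (.leaf ([]))))) (.node (.node (.node (.node (.leaf ([])) (.leaf ([]))) (.leaf ([]))) (.node (.node (.leaf ([])) (.leaf ([]))) (.leaf ([])))) (.node (.node (.node (.leaf ([])) (.leaf ([]))) (.leaf ([]))) (.node (.leaf ([])) (.leaf ([])))))) (.node (.node (.node (.node (.node (.leaf ([])) (.leaf ([]))) (.leaf ([]))) (.node (.node (.leaf ([])) (.leaf ([]))) (.leaf ([])))) (.node (.node (.node (.leaf ([])) (.leaf ([]))) (.leaf ([]))) (.node (.node (.leaf ([])) (.leaf ([]))) (.leaf ([]))))) (.node (.node (.node (.node (.leaf ([])) (.leaf ([]))) (.leaf ([]))) (.node (.node (.leaf ([])) (.leaf ([]))) (.leaf ([])))) (.node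 (.node (.node (.leaf ([])) (.leaf ([]))) (.leaf ([]))) (.node (.leaf ([])) (.leaf ([]))))))) (.node (.node (.node (.node (.node (.node (.leaf ([])) (.leaf ([]))) (.leaf ([]))) (.node (.node (.leaf ([])) (.leaf ([]))) (.leaf ([])))) (.node (.node (.node (.leaf ([])) (.leaf ([]))) (.leaf ([]))) (.node (.node (.leaf ([])) (.leaf ([]))) (.leaf ([]))))) (.node (.node (.node (.node (.leaf ([])) (.leaf ([]))) (.leaf ([]))) (.node (.node (.leaf ([])) (.leaf ([]))) (.leaf ([])))) (.node (.node (.node (.leaf ([])) (.leaf ([]))) (.leaf ([]))) (.node (.leaf ([])) (.leaf ([])))))) (.node (.node (.node (.node (.node (.leaf ([])) (.leaf ([]))) (.leaf ([]))) (.node (.node (.leaf ([])) (.leaf ([]))) (.leaf ([])))) (.node (.node (.node (.leaf ([])) (.leaf ([]))) (.leaf ([]))) (.node (.leaf ([])) (.leaf ([]))))) (.node (.node (.node (.node (.leaf ([])) (.leaf ([]))) (.leaf ([]))) (.node (.node (.leaf ([])) (.leaf ([]))) (.leaf ([])))) (.node (.node (.node (.leaf ([]))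 (.leaf ([]))) (.leaf ([]))) (.node (.leaf ([])) (.leaf ([]))))))))) (.node (.node (.node (.node (.node (.node (.node (.node (.leaf ([])) (.leaf ([]))) (.leaf ([]))) (.node (.node (.leaf ([])) (.leaf ([]))) (.leaf ([])))) (.node (.node (.node (.leaf ([])) (.leaf ([]))) (.leaf ([]))) (.node (.node (.leaf ([])) (.leaf ([]))) (.leaf ([]))))) (.node (.node (.node (.node (.leaf ([])) (.leaf ([]))) (.leaf ([]))) (.node (.node (.leaf ([])) (.leaf ([]))) (.leaf ([])))) (.node (.node (.node (.leaf ([])) (.leaf ([]))) (.leaf ([]))) (.node (.leaf ([])) (.leaf ([])))))) (.node (.node (.node (.node (.node (.leaf ([])) (.leaf ([]))) (.leaf ([]))) (.node (.node (.leaf ([])) (.leaf ([]))) (.leaf ([])))) (.node (.node (.node (.leaf ([])) (.leaf ([]))) (.leaf ([]))) (.node (.node (.leaf ([])) (.leaf ([]))) (.leaf ([]))))) (.node (.node (.node (.node (.leaf ([])) (.leaf ([]))) (.leaf ([]))) (.node (.node (.leaf ([])) (.leaf ([]))) (.leaf ([])))) (.node (.node (.node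 (.leaf ([])) (.leaf ([]))) (.leaf ([]))) (.node (.leaf ([])) (.leaf ([]))))))) (.node (.node (.node (.node (.node (.node (.leaf ([])) (.leaf ([]))) (.leaf ([]))) (.node (.node (.leaf ([])) (.leaf ([]))) (.leaf ([])))) (.node (.node (.node (.leaf ([])) (.leaf ([]))) (.leaf ([]))) (.node (.node (.leaf ([])) (.leaf ([]))) (.leaf ([]))))) (.node (.node (.node (.node (.leaf ([])) (.leaf ([]))) (.leaf ([]))) (.node (.node (.leaf ([])) (.leaf ([]))) (.leaf ([])))) (.node (.node (.node (.leaf ([])) (.leaf ([]))) (.leaf ([]))) (.node (.leaf ([])) (.leaf ([])))))) (.node (.node (.node (.node (.node (.leaf ([])) (.leaf ([]))) (.leaf ([]))) (.node (.node (.leaf ([])) (.leaf ([]))) (.leaf ([])))) (.node (.node (.node (.leaf ([])) (.leaf ([]))) (.leaf ([]))) (.node (.leaf ([])) (.leaf ([]))))) (.node (.node (.node (.node (.leaf ([])) (.leaf ([]))) (.leaf ([]))) (.node (.node (.leaf ([])) (.leaf ([]))) (.leaf ([])))) (.node (.node (.node (.leaf ([])) (.leaf ([])))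 (.leaf ([]))) (.node (.leaf ([])) (.leaf ([])))))))) (.node (.node (.node (.node (.node (.node (.node (.leaf ([])) (.leaf ([]))) (.leaf ([]))) (.node (.node (.leaf ([])) (.leaf ([]))) (.leaf ([])))) (.node (.node (.node (.leaf ([])) (.leaf ([]))) (.leaf ([]))) (.node (.node (.leaf ([])) (.leaf ([]))) (.leaf ([]))))) (.node (.node (.node (.node (.leaf ([])) (.leaf ([]))) (.leaf ([]))) (.node (.node (.leaf ([])) (.leaf ([]))) (.leaf ([])))) (.node (.node (.node (.leaf ([])) (.leaf ([]))) (.leaf ([]))) (.node (.leaf ([])) (.leaf ([])))))) (.node (.node (.node (.node (.node (.leaf ([])) (.leaf ([]))) (.leaf ([]))) (.node (.node (.leaf ([])) (.leaf ([]))) (.leaf ([])))) (.node (.node (.node (.leaf ([])) (.leaf ([]))) (.leaf ([]))) (.node (.node (.leaf ([])) (.leaf ([]))) (.leaf ([]))))) (.node (.node (.node (.node (.leaf ([])) (.leaf ([]))) (.leaf ([]))) (.node (.node (.leaf ([])) (.leaf ([]))) (.leaf ([])))) (.node (.node (.node (.leaf ([])) (.leaf ([])))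 (.leaf ([]))) (.node (.leaf ([])) (.leaf ([]))))))) (.node (.node (.node (.node (.node (.node (.leaf ([])) (.leaf ([]))) (.leaf ([]))) (.node (.node (.leaf ([])) (.leaf ([]))) (.leaf ([])))) (.node (.node (.node (.leaf ([])) (.leaf ([]))) (.leaf ([]))) (.node (.node (.leaf ([])) (.leaf ([]))) (.leaf ([]))))) (.node (.node (.node (.node (.leaf ([])) (.leaf ([]))) (.leaf ([]))) (.node (.node (.leaf ([])) (.leaf ([]))) (.leaf ([])))) (.node (.node (.node (.leaf ([])) (.leaf ([]))) (.leaf ([]))) (.node (.leaf ([])) (.leaf ([])))))) (.node (.node (.node (.node (.node (.leaf ([])) (.leaf ([]))) (.leaf ([]))) (.node (.node (.leaf ([])) (.leaf ([]))) (.leaf ([])))) (.node (.node (.node (.leaf ([])) (.leaf ([]))) (.leaf ([]))) (.node (.leaf ([])) (.leaf ([]))))) (.node (.node (.node (.node (.leaf ([])) (.leaf ([]))) (.leaf ([]))) (.node (.node (.leaf ([])) (.leaf ([]))) (.leaf ([])))) (.node (.node (.node (.leaf ([])) (.leaf ([]))) (.leaf ([]))) (.node (.leaf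 ([])) (.leaf ([])))))))))) (.node (.node (.node (.node (.node (.node (.node (.node (.node (.leaf ([])) (.leaf ([]))) (.leaf ([]))) (.node (.node (.leaf ([])) (.leaf ([]))) (.leaf ([])))) (.node (.node (.node (.leaf ([])) (.leaf ([]))) (.leaf ([]))) (.node (.node (.leaf ([])) (.leaf ([]))) (.leaf ([]))))) (.node (.node (.node (.node (.leaf ([])) (.leaf ([]))) (.leaf ([]))) (.node (.node (.leaf ([])) (.leaf ([]))) (.leaf ([])))) (.node (.node (.node (.leaf ([])) (.leaf ([]))) (.leaf ([]))) (.node (.leaf ([])) (.leaf ([])))))) (.node (.node (.node (.node (.node (.leaf ([])) (.leaf ([]))) (.leaf ([]))) (.node (.node (.leaf ([])) (.leaf ([]))) (.leaf ([])))) (.node (.node (.node (.leaf ([])) (.leaf ([]))) (.leaf ([]))) (.node (.node (.leaf ([])) (.leaf ([]))) (.leaf ([]))))) (.node (.node (.node (.node (.leaf ([])) (.leaf ([]))) (.leaf ([]))) (.node (.node (.leaf ([])) (.leaf ([]))) (.leaf ([])))) (.node (.node (.node (.leaf ([])) (.leaf ([]))) (.leaf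 ([]))) (.node (.leaf ([])) (.leaf ([]))))))) (.node (.node (.node (.node (.node (.node (.leaf ([])) (.leaf ([]))) (.leaf ([]))) (.node (.node (.leaf ([])) (.leaf ([]))) (.leaf ([])))) (.node (.node (.node (.leaf ([])) (.leaf ([]))) (.leaf ([]))) (.node (.node (.leaf ([])) (.leaf ([]))) (.leaf ([]))))) (.node (.node (.node (.node (.leaf ([])) (.leaf ([]))) (.leaf ([]))) (.node (.node (.leaf ([])) (.leaf ([]))) (.leaf ([])))) (.node (.node (.node (.leaf ([])) (.leaf ([]))) (.leaf ([]))) (.node (.leaf ([])) (.leaf ([])))))) (.node (.node (.node (.node (.node (.leaf ([])) (.leaf ([]))) (.leaf ([]))) (.node (.node (.leaf ([])) (.leaf ([]))) (.leaf ([])))) (.node (.node (.node (.leaf ([])) (.leaf ([]))) (.leaf ([]))) (.node (.leaf ([])) (.leaf ([]))))) (.node (.node (.node (.node (.leaf ([])) (.leaf ([]))) (.leaf ([]))) (.node (.node (.leaf ([])) (.leaf ([]))) (.leaf ([])))) (.node (.node (.node (.leaf ([])) (.leaf ([]))) (.leaf ([]))) (.node (.leaf ([]))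 (.leaf ([])))))))) (.node (.node (.node (.node (.node (.node (.node (.leaf ([])) (.leaf ([]))) (.leaf ([]))) (.node (.node (.leaf ([])) (.leaf ([]))) (.leaf ([])))) (.node (.node (.node (.leaf ([])) (.leaf ([]))) (.leaf ([]))) (.node (.node (.leaf ([])) (.leaf ([]))) (.leaf ([]))))) (.node (.node (.node (.node (.leaf ([])) (.leaf ([]))) (.leaf ([]))) (.node (.node (.leaf ([])) (.leaf ([]))) (.leaf ([])))) (.node (.node (.node (.leaf ([])) (.leaf ([]))) (.leaf ([]))) (.node (.leaf ([])) (.leaf ([])))))) (.node (.node (.node (.node (.node (.leaf ([])) (.leaf ([]))) (.leaf ([]))) (.node (.node (.leaf ([])) (.leaf ([]))) (.leaf ([])))) (.node (.node (.node (.leaf ([])) (.leaf ([]))) (.leaf ([]))) (.node (.node (.leaf ([])) (.leaf ([]))) (.leaf ([]))))) (.node (.node (.node (.node (.leaf ([])) (.leaf ([]))) (.leaf ([]))) (.node (.node (.leaf ([])) (.leaf ([]))) (.leaf ([])))) (.node (.node (.node (.leaf ([])) (.leaf ([]))) (.leaf ([]))) (.node (.leaf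 ([])) (.leaf ([]))))))) (.node (.node (.node (.node (.node (.node (.leaf ([])) (.leaf ([]))) (.leaf ([]))) (.node (.node (.leaf ([])) (.leaf ([]))) (.leaf ([])))) (.node (.node (.node (.leaf ([])) (.leaf ([]))) (.leaf ([]))) (.node (.node (.leaf ([])) (.leaf ([]))) (.leaf ([]))))) (.node (.node (.node (.node (.leaf ([])) (.leaf ([]))) (.leaf ([]))) (.node (.node (.leaf ([])) (.leaf ([]))) (.leaf ([])))) (.node (.node (.node (.leaf ([])) (.leaf ([]))) (.leaf ([]))) (.node (.leaf ([])) (.leaf ([])))))) (.node (.node (.node (.node (.node (.leaf ([])) (.leaf ([]))) (.leaf ([]))) (.node (.node (.leaf ([])) (.leaf ([]))) (.leaf ([])))) (.node (.node (.node (.leaf ([])) (.leaf ([]))) (.leaf ([]))) (.node (.leaf ([])) (.leaf ([]))))) (.node (.node (.node (.node (.leaf ([])) (.leaf ([]))) (.leaf ([]))) (.node (.node (.leaf ([])) (.leaf ([]))) (.leaf ([])))) (.node (.node (.node (.leaf ([])) (.leaf ([]))) (.leaf ([]))) (.node (.leaf ([])) (.leaf ([])))))))))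 (.node (.node (.node (.node (.node (.node (.node (.node (.leaf ([])) (.leaf ([]))) (.leaf ([]))) (.node (.node (.leaf ([])) (.leaf ([]))) (.leaf ([])))) (.node (.node (.node (.leaf ([])) (.leaf ([]))) (.leaf ([]))) (.node (.node (.leaf ([])) (.leaf ([]))) (.leaf ([]))))) (.node (.node (.node (.node (.leaf ([])) (.leaf ([]))) (.leaf ([]))) (.node (.node (.leaf ([])) (.leaf ([]))) (.leaf ([])))) (.node (.node (.node (.leaf ([])) (.leaf ([]))) (.leaf ([]))) (.node (.leaf ([])) (.leaf ([])))))) (.node (.node (.node (.node (.node (.leaf ([])) (.leaf ([]))) (.leaf ([]))) (.node (.node (.leaf ([])) (.leaf ([]))) (.leaf ([])))) (.node (.node (.node (.leaf ([])) (.leaf ([]))) (.leaf ([]))) (.node (.node (.leaf ([])) (.leaf ([]))) (.leaf ([]))))) (.node (.node (.node (.node (.leaf ([])) (.leaf ([]))) (.leaf ([]))) (.node (.node (.leaf ([])) (.leaf ([]))) (.leaf ([])))) (.node (.node (.node (.leaf ([])) (.leaf ([]))) (.leaf ([]))) (.node (.leaf ([])) (.leaf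 ([]))))))) (.node (.node (.node (.node (.node (.node (.leaf ([])) (.leaf ([]))) (.leaf ([]))) (.node (.node (.leaf ([])) (.leaf ([]))) (.leaf ([])))) (.node (.node (.node (.leaf ([])) (.leaf ([]))) (.leaf ([]))) (.node (.node (.leaf ([])) (.leaf ([]))) (.leaf ([]))))) (.node (.node (.node (.node (.leaf ([])) (.leaf ([]))) (.leaf ([]))) (.node (.node (.leaf ([])) (.leaf ([]))) (.leaf ([])))) (.node (.node (.node (.leaf ([])) (.leaf ([]))) (.leaf ([]))) (.node (.leaf ([])) (.leaf ([])))))) (.node (.node (.node (.node (.node (.leaf ([])) (.leaf ([]))) (.leaf ([]))) (.node (.node (.leaf ([])) (.leaf ([]))) (.leaf ([])))) (.node (.node (.node (.leaf ([])) (.leaf ([]))) (.leaf ([]))) (.node (.leaf ([])) (.leaf ([]))))) (.node (.node (.node (.node (.leaf ([])) (.leaf ([]))) (.leaf ([]))) (.node (.node (.leaf ([])) (.leaf ([]))) (.leaf ([])))) (.node (.node (.node (.leaf ([])) (.leaf ([]))) (.leaf ([]))) (.node (.leaf ([])) (.leaf ([])))))))) (.node (.node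 (.node (.node (.node (.node (.node (.leaf ([])) (.leaf ([]))) (.leaf ([]))) (.node (.node (.leaf ([])) (.leaf ([]))) (.leaf ([])))) (.node (.node (.node (.leaf ([])) (.leaf ([]))) (.leaf ([]))) (.node (.node (.leaf ([])) (.leaf ([]))) (.leaf ([]))))) (.node (.node (.node (.node (.leaf ([])) (.leaf ([]))) (.leaf ([]))) (.node (.node (.leaf ([])) (.leaf ([]))) (.leaf ([])))) (.node (.node (.node (.leaf ([])) (.leaf ([]))) (.leaf ([]))) (.node (.leaf ([])) (.leaf ([])))))) (.node (.node (.node (.node (.node (.leaf ([])) (.leaf ([]))) (.leaf ([]))) (.node (.node (.leaf ([])) (.leaf ([]))) (.leaf ([])))) (.node (.node (.node (.leaf ([])) (.leaf ([]))) (.leaf ([]))) (.node (.node (.leaf ([])) (.leaf ([]))) (.leaf ([]))))) (.node (.node (.node (.node (.leaf ([])) (.leaf ([]))) (.leaf ([]))) (.node (.node (.leaf ([])) (.leaf ([]))) (.leaf ([])))) (.node (.node (.node (.leaf ([])) (.leaf ([]))) (.leaf ([]))) (.node (.leaf ([])) (.leaf ([]))))))) (.node (.node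 (.node (.node (.node (.node (.leaf ([])) (.leaf ([]))) (.leaf ([]))) (.node (.node (.leaf ([])) (.leaf ([]))) (.leaf ([])))) (.node (.node (.node (.leaf ([])) (.leaf ([]))) (.leaf ([]))) (.node (.node (.leaf ([])) (.leaf ([]))) (.leaf ([]))))) (.node (.node (.node (.node (.leaf ([])) (.leaf ([]))) (.leaf ([]))) (.node (.node (.leaf ([])) (.leaf ([]))) (.leaf ([])))) (.node (.node (.node (.leaf ([])) (.leaf ([]))) (.leaf ([]))) (.node (.leaf ([])) (.leaf ([])))))) (.node (.node (.node (.node (.node (.leaf ([])) (.leaf ([]))) (.leaf ([]))) (.node (.node (.leaf ([])) (.leaf ([]))) (.leaf ([])))) (.node (.node (.node (.leaf ([])) (.leaf ([]))) (.leaf ([]))) (.node (.leaf ([])) (.leaf ([]))))) (.node (.node (.node (.node (.leaf ([])) (.leaf ([]))) (.leaf ([]))) (.node (.node (.leaf ([])) (.leaf ([]))) (.leaf ([])))) (.node (.node (.node (.leaf ([])) (.leaf ([]))) (.leaf ([]))) (.node (.leaf ([])) (.leaf ([]))))))))))) (.node (.node (.node (.node (.node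 (.node (.node (.node (.node (.node (.leaf ([])) (.leaf ([]))) (.leaf ([]))) (.node (.node (.leaf ([])) (.leaf ([]))) (.leaf ([])))) (.node (.node (.node (.leaf ([])) (.leaf ([]))) (.leaf ([]))) (.node (.node (.leaf ([])) (.leaf ([]))) (.leaf ([]))))) (.node (.node (.node (.node (.leaf ([])) (.leaf ([]))) (.leaf ([]))) (.node (.node (.leaf ([])) (.leaf ([]))) (.leaf ([])))) (.node (.node (.node (.leaf ([])) (.leaf ([]))) (.leaf ([]))) (.node (.leaf ([])) (.leaf ([])))))) (.node (.node (.node (.node (.node (.leaf ([])) (.leaf ([]))) (.leaf ([]))) (.node (.node (.leaf ([])) (.leaf ([]))) (.leaf ([])))) (.node (.node (.node (.leaf ([])) (.leaf ([]))) (.leaf ([]))) (.node (.node (.leaf ([])) (.leaf ([]))) (.leaf ([]))))) (.node (.node (.node (.node (.leaf ([])) (.leaf ([]))) (.leaf ([]))) (.node (.node (.leaf ([])) (.leaf ([]))) (.leaf ([])))) (.node (.node (.node (.leaf ([])) (.leaf ([]))) (.leaf ([]))) (.node (.leaf ([])) (.leaf ([]))))))) (.node (.node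 (.node (.node (.node (.node (.leaf ([])) (.leaf ([]))) (.leaf ([]))) (.node (.node (.leaf ([])) (.leaf ([]))) (.leaf ([])))) (.node (.node (.node (.leaf ([])) (.leaf ([]))) (.leaf ([]))) (.node (.node (.leaf ([])) (.leaf ([]))) (.leaf ([]))))) (.node (.node (.node (.node (.leaf ([])) (.leaf ([]))) (.leaf ([]))) (.node (.node (.leaf ([])) (.leaf ([]))) (.leaf ([])))) (.node (.node (.node (.leaf ([])) (.leaf ([]))) (.leaf ([]))) (.node (.leaf ([])) (.leaf ([])))))) (.node (.node (.node (.node (.node (.leaf ([])) (.leaf ([]))) (.leaf ([]))) (.node (.node (.leaf ([])) (.leaf ([]))) (.leaf ([])))) (.node (.node (.node (.leaf ([])) (.leaf ([]))) (.leaf ([]))) (.node (.node (.leaf ([])) (.leaf ([]))) (.leaf ([]))))) (.node (.node (.node (.node (.leaf ([])) (.leaf ([]))) (.leaf ([]))) (.node (.node (.leaf ([])) (.leaf ([]))) (.leaf ([])))) (.node (.node (.node (.leaf ([])) (.leaf ([]))) (.leaf ([]))) (.node (.leaf ([])) (.leaf ([])))))))) (.node (.node (.node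 (.node (.node (.node (.node (.leaf ([])) (.leaf ([]))) (.leaf ([]))) (.node (.node (.leaf ([])) (.leaf ([]))) (.leaf ([])))) (.node (.node (.node (.leaf ([])) (.leaf ([]))) (.leaf ([]))) (.node (.node (.leaf ([])) (.leaf ([]))) (.leaf ([]))))) (.node (.node (.node (.node (.leaf ([])) (.leaf ([]))) (.leaf ([]))) (.node (.node (.leaf ([])) (.leaf ([]))) (.leaf ([])))) (.node (.node (.node (.leaf ([])) (.leaf ([]))) (.leaf ([]))) (.node (.leaf ([])) (.leaf ([])))))) (.node (.node (.node (.node (.node (.leaf ([])) (.leaf ([]))) (.leaf ([]))) (.node (.node (.leaf ([])) (.leaf ([]))) (.leaf ([])))) (.node (.node (.node (.leaf ([])) (.leaf ([]))) (.leaf ([]))) (.node (.node (.leaf ([])) (.leaf ([]))) (.leaf ([]))))) (.node (.node (.node (.node (.leaf ([])) (.leaf ([]))) (.leaf ([]))) (.node (.node (.leaf ([])) (.leaf ([]))) (.leaf ([])))) (.node (.node (.node (.leaf ([])) (.leaf ([]))) (.leaf ([]))) (.node (.leaf ([])) (.leaf ([]))))))) (.node (.node (.node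 (.node (.node (.node (.leaf ([])) (.leaf ([]))) (.leaf ([]))) (.node (.node (.leaf ([])) (.leaf ([]))) (.leaf ([])))) (.node (.node (.node (.leaf ([])) (.leaf ([]))) (.leaf ([]))) (.node (.node (.leaf ([])) (.leaf ([]))) (.leaf ([]))))) (.node (.node (.node (.node (.leaf ([])) (.leaf ([]))) (.leaf ([]))) (.node (.node (.leaf ([])) (.leaf ([]))) (.leaf ([])))) (.node (.node (.node (.leaf ([])) (.leaf ([]))) (.leaf ([]))) (.node (.leaf ([])) (.leaf ([])))))) (.node (.node (.node (.node (.node (.leaf ([])) (.leaf ([]))) (.leaf ([]))) (.node (.node (.leaf ([])) (.leaf ([]))) (.leaf ([])))) (.node (.node (.node (.leaf ([])) (.leaf ([]))) (.leaf ([]))) (.node (.leaf ([])) (.leaf ([]))))) (.node (.node (.node (.node (.leaf ([])) (.leaf ([]))) (.leaf ([]))) (.node (.node (.leaf ([])) (.leaf ([]))) (.leaf ([])))) (.node (.node (.node (.leaf ([])) (.leaf ([]))) (.leaf ([]))) (.node (.leaf ([])) (.leaf ([]))))))))) (.node (.node (.node (.node (.node (.node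 (.node (.node (.leaf ([])) (.leaf ([]))) (.leaf ([]))) (.node (.node (.leaf ([])) (.leaf ([]))) (.leaf ([])))) (.node (.node (.node (.leaf ([])) (.leaf ([]))) (.leaf ([]))) (.node (.node (.leaf ([])) (.leaf ([]))) (.leaf ([]))))) (.node (.node (.node (.node (.leaf ([])) (.leaf ([]))) (.leaf ([]))) (.node (.node (.leaf ([])) (.leaf ([]))) (.leaf ([])))) (.node (.node (.node (.leaf ([])) (.leaf ([]))) (.leaf ([]))) (.node (.leaf ([])) (.leaf ([])))))) (.node (.node (.node (.node (.node (.leaf ([])) (.leaf ([]))) (.leaf ([]))) (.node (.node (.leaf ([])) (.leaf ([]))) (.leaf ([])))) (.node (.node (.node (.leaf ([])) (.leaf ([]))) (.leaf ([]))) (.node (.node (.leaf ([])) (.leaf ([]))) (.leaf ([]))))) (.node (.node (.node (.node (.leaf ([])) (.leaf ([]))) (.leaf ([]))) (.node (.node (.leaf ([])) (.leaf ([]))) (.leaf ([])))) (.node (.node (.node (.leaf ([])) (.leaf ([]))) (.leaf ([]))) (.node (.leaf ([])) (.leaf ([]))))))) (.node (.node (.node (.node (.node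 (.node (.leaf ([])) (.leaf ([]))) (.leaf ([]))) (.node (.node (.leaf ([])) (.leaf ([]))) (.leaf ([])))) (.node (.node (.node (.leaf ([])) (.leaf ([]))) (.leaf ([]))) (.node (.node (.leaf ([])) (.leaf ([]))) (.leaf ([]))))) (.node (.node (.node (.node (.leaf ([])) (.leaf ([]))) (.leaf ([]))) (.node (.node (.leaf ([])) (.leaf ([]))) (.leaf ([])))) (.node (.node (.node (.leaf ([])) (.leaf ([]))) (.leaf ([]))) (.node (.leaf ([])) (.leaf ([])))))) (.node (.node (.node (.node (.node (.leaf ([])) (.leaf ([]))) (.leaf ([]))) (.node (.node (.leaf ([])) (.leaf ([]))) (.leaf ([])))) (.node (.node (.node (.leaf ([])) (.leaf ([]))) (.leaf ([]))) (.node (.leaf ([])) (.leaf ([]))))) (.node (.node (.node (.node (.leaf ([])) (.leaf ([]))) (.leaf ([]))) (.node (.node (.leaf ([])) (.leaf ([]))) (.leaf ([])))) (.node (.node (.node (.leaf ([])) (.leaf ([]))) (.leaf ([]))) (.node (.leaf ([])) (.leaf ([])))))))) (.node (.node (.node (.node (.node (.node (.node (.leaf ([]))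 (.leaf ([]))) (.leaf ([]))) (.node (.node (.leaf ([])) (.leaf ([]))) (.leaf ([])))) (.node (.node (.node (.leaf ([])) (.leaf ([]))) (.leaf ([]))) (.node (.node (.leaf ([])) (.leaf ([]))) (.leaf ([]))))) (.node (.node (.node (.node (.leaf ([])) (.leaf ([]))) (.leaf ([]))) (.node (.node (.leaf ([])) (.leaf ([]))) (.leaf ([])))) (.node (.node (.node (.leaf ([])) (.leaf ([]))) (.leaf ([]))) (.node (.leaf ([])) (.leaf ([])))))) (.node (.node (.node (.node (.node (.leaf ([])) (.leaf ([]))) (.leaf ([]))) (.node (.node (.leaf ([])) (.leaf ([]))) (.leaf ([])))) (.node (.node (.node (.leaf ([])) (.leaf ([]))) (.leaf ([]))) (.node (.node (.leaf ([])) (.leaf ([]))) (.leaf ([]))))) (.node (.node (.node (.node (.leaf ([])) (.leaf ([]))) (.leaf ([]))) (.node (.node (.leaf ([])) (.leaf ([]))) (.leaf ([])))) (.node (.node (.node (.leaf ([])) (.leaf ([]))) (.leaf ([]))) (.node (.leaf ([])) (.leaf ([]))))))) (.node (.node (.node (.node (.node (.node (.leaf ([])) (.leaf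 ([]))) (.leaf ([]))) (.node (.node (.leaf ([])) (.leaf ([]))) (.leaf ([])))) (.node (.node (.node (.leaf ([])) (.leaf ([]))) (.leaf ([]))) (.node (.node (.leaf ([])) (.leaf ([]))) (.leaf ([]))))) (.node (.node (.node (.node (.leaf ([])) (.leaf ([]))) (.leaf ([]))) (.node (.node (.leaf ([])) (.leaf ([]))) (.leaf ([])))) (.node (.node (.node (.leaf ([])) (.leaf ([]))) (.leaf ([]))) (.node (.leaf ([])) (.leaf ([])))))) (.node (.node (.node (.node (.node (.leaf ([])) (.leaf ([]))) (.leaf ([]))) (.node (.node (.leaf ([])) (.leaf ([]))) (.leaf ([])))) (.node (.node (.node (.leaf ([])) (.leaf ([]))) (.leaf ([]))) (.node (.leaf ([])) (.leaf ([]))))) (.node (.node (.node (.node (.leaf ([])) (.leaf ([]))) (.leaf ([]))) (.node (.node (.leaf ([])) (.leaf ([]))) (.leaf ([])))) (.node (.node (.node (.leaf ([])) (.leaf ([]))) (.leaf ([]))) (.node (.leaf ([])) (.leaf ([])))))))))) (.node (.node (.node (.node (.node (.node (.node (.node (.node (.leaf ([])) (.leaf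 ([]))) (.leaf ([]))) (.node (.node (.leaf ([])) (.leaf ([]))) (.leaf ([])))) (.node (.node (.node (.leaf ([])) (.leaf ([]))) (.leaf ([]))) (.node (.node (.leaf ([])) (.leaf ([]))) (.leaf ([]))))) (.node (.node (.node (.node (.leaf ([])) (.leaf ([]))) (.leaf ([]))) (.node (.node (.leaf ([])) (.leaf ([]))) (.leaf ([])))) (.node (.node (.node (.leaf ([])) (.leaf ([]))) (.leaf ([]))) (.node (.leaf ([])) (.leaf ([])))))) (.node (.node (.node (.node (.node (.leaf ([])) (.leaf ([]))) (.leaf ([]))) (.node (.node (.leaf ([])) (.leaf ([]))) (.leaf ([])))) (.node (.node (.node (.leaf ([])) (.leaf ([]))) (.leaf ([]))) (.node (.node (.leaf ([])) (.leaf ([]))) (.leaf ([]))))) (.node (.node (.node (.node (.leaf ([])) (.leaf ([]))) (.leaf ([]))) (.node (.node (.leaf ([])) (.leaf ([]))) (.leaf ([])))) (.node (.node (.node (.leaf ([])) (.leaf ([]))) (.leaf ([]))) (.node (.leaf ([])) (.leaf ([]))))))) (.node (.node (.node (.node (.node (.node (.leaf ([])) (.leaf ([])))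 (.leaf ([]))) (.node (.node (.leaf ([])) (.leaf ([]))) (.leaf ([])))) (.node (.node (.node (.leaf ([])) (.leaf ([]))) (.leaf ([]))) (.node (.node (.leaf ([])) (.leaf ([]))) (.leaf ([]))))) (.node (.node (.node (.node (.leaf ([])) (.leaf ([]))) (.leaf ([]))) (.node (.node (.leaf ([])) (.leaf ([]))) (.leaf ([])))) (.node (.node (.node (.leaf ([])) (.leaf ([]))) (.leaf ([]))) (.node (.leaf ([])) (.leaf ([])))))) (.node (.node (.node (.node (.node (.leaf ([])) (.leaf ([]))) (.leaf ([]))) (.node (.node (.leaf ([])) (.leaf ([]))) (.leaf ([])))) (.node (.node (.node (.leaf ([])) (.leaf ([]))) (.leaf ([]))) (.node (.leaf ([])) (.leaf ([]))))) (.node (.node (.node (.node (.leaf ([])) (.leaf ([]))) (.leaf ([]))) (.node (.node (.leaf ([])) (.leaf ([]))) (.leaf ([])))) (.node (.node (.node (.leaf ([])) (.leaf ([]))) (.leaf ([]))) (.node (.leaf ([])) (.leaf ([])))))))) (.node (.node (.node (.node (.node (.node (.node (.leaf ([])) (.leaf ([]))) (.leaf ([]))) (.node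 (.node (.leaf ([])) (.leaf ([]))) (.leaf ([])))) (.node (.node (.node (.leaf ([])) (.leaf ([]))) (.leaf ([]))) (.node (.node (.leaf ([])) (.leaf ([]))) (.leaf ([]))))) (.node (.node (.node (.node (.leaf ([])) (.leaf ([]))) (.leaf ([]))) (.node (.node (.leaf ([])) (.leaf ([]))) (.leaf ([])))) (.node (.node (.node (.leaf ([])) (.leaf ([]))) (.leaf ([]))) (.node (.leaf ([])) (.leaf ([])))))) (.node (.node (.node (.node (.node (.leaf ([])) (.leaf ([]))) (.leaf ([]))) (.node (.node (.leaf ([])) (.leaf ([]))) (.leaf ([])))) (.node (.node (.node (.leaf ([])) (.leaf ([]))) (.leaf ([]))) (.node (.node (.leaf ([])) (.leaf ([]))) (.leaf ([]))))) (.node (.node (.node (.node (.leaf ([])) (.leaf ([]))) (.leaf ([]))) (.node (.node (.leaf ([])) (.leaf ([]))) (.leaf ([])))) (.node (.node (.node (.leaf ([])) (.leaf ([]))) (.leaf ([]))) (.node (.leaf ([])) (.leaf ([]))))))) (.node (.node (.node (.node (.node (.node (.leaf ([])) (.leaf ([]))) (.leaf ([]))) (.node (.node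 (.leaf ([])) (.leaf ([]))) (.leaf ([])))) (.node (.node (.node (.leaf ([])) (.leaf ([]))) (.leaf ([]))) (.node (.node (.leaf ([])) (.leaf ([]))) (.leaf ([]))))) (.node (.node (.node (.node (.leaf ([])) (.leaf ([]))) (.leaf ([]))) (.node (.node (.leaf ([])) (.leaf ([]))) (.leaf ([])))) (.node (.node (.node (.leaf ([])) (.leaf ([]))) (.leaf ([]))) (.node (.leaf ([])) (.leaf ([])))))) (.node (.node (.node (.node (.node (.leaf ([])) (.leaf ([]))) (.leaf ([]))) (.node (.node (.leaf ([])) (.leaf ([]))) (.leaf ([])))) (.node (.node (.node (.leaf ([])) (.leaf ([]))) (.leaf ([]))) (.node (.leaf ([])) (.leaf ([]))))) (.node (.node (.node (.node (.leaf ([])) (.leaf ([]))) (.leaf ([]))) (.node (.node (.leaf ([])) (.leaf ([]))) (.leaf ([])))) (.node (.node (.node (.leaf ([])) (.leaf ([]))) (.leaf ([]))) (.node (.leaf ([])) (.leaf ([]))))))))) (.node (.node (.node (.node (.node (.node (.node (.node (.leaf ([])) (.leaf ([]))) (.leaf ([]))) (.node (.node (.leaf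 ([])) (.leaf ([]))) (.leaf ([])))) (.node (.node (.node (.leaf ([])) (.leaf ([]))) (.leaf ([]))) (.node (.node (.leaf ([])) (.leaf ([]))) (.leaf ([]))))) (.node (.node (.node (.node (.leaf ([])) (.leaf ([]))) (.leaf ([]))) (.node (.node (.leaf ([])) (.leaf ([]))) (.leaf ([])))) (.node (.node (.node (.leaf ([])) (.leaf ([]))) (.leaf ([]))) (.node (.leaf ([])) (.leaf ([])))))) (.node (.node (.node (.node (.node (.leaf ([])) (.leaf ([]))) (.leaf ([]))) (.node (.node (.leaf ([])) (.leaf ([]))) (.leaf ([])))) (.node (.node (.node (.leaf ([])) (.leaf ([]))) (.leaf ([]))) (.node (.node (.leaf ([])) (.leaf ([]))) (.leaf ([]))))) (.node (.node (.node (.node (.leaf ([])) (.leaf ([]))) (.leaf ([]))) (.node (.node (.leaf ([])) (.leaf ([]))) (.leaf ([])))) (.node (.node (.node (.leaf ([])) (.leaf ([]))) (.leaf ([]))) (.node (.leaf ([])) (.leaf ([]))))))) (.node (.node (.node (.node (.node (.node (.leaf ([])) (.leaf ([]))) (.leaf ([]))) (.node (.node (.leaf ([]))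 (.leaf ([]))) (.leaf ([])))) (.node (.node (.node (.leaf ([])) (.leaf ([]))) (.leaf ([]))) (.node (.node (.leaf ([])) (.leaf ([]))) (.leaf ([]))))) (.node (.node (.node (.node (.leaf ([])) (.leaf ([]))) (.leaf ([]))) (.node (.node (.leaf ([])) (.leaf ([]))) (.leaf ([])))) (.node (.node (.node (.leaf ([])) (.leaf ([]))) (.leaf ([]))) (.node (.leaf ([])) (.leaf ([])))))) (.node (.node (.node (.node (.node (.leaf ([])) (.leaf ([]))) (.leaf ([]))) (.node (.node (.leaf ([])) (.leaf ([]))) (.leaf ([])))) (.node (.node (.node (.leaf ([])) (.leaf ([]))) (.leaf ([]))) (.node (.leaf ([])) (.leaf ([]))))) (.node (.node (.node (.node (.leaf ([])) (.leaf ([]))) (.leaf ([]))) (.node (.node (.leaf ([])) (.leaf ([]))) (.leaf ([])))) (.node (.node (.node (.leaf ([])) (.leaf ([]))) (.leaf ([]))) (.node (.leaf ([])) (.leaf ([])))))))) (.node (.node (.node (.node (.node (.node (.node (.leaf ([])) (.leaf ([]))) (.leaf ([]))) (.node (.node (.leaf ([])) (.leaf ([]))) (.leaf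 ([])))) (.node (.node (.node (.leaf ([])) (.leaf ([]))) (.leaf ([]))) (.node (.node (.leaf ([])) (.leaf ([]))) (.leaf ([]))))) (.node (.node (.node (.node (.leaf ([])) (.leaf ([]))) (.leaf ([]))) (.node (.node (.leaf ([])) (.leaf ([]))) (.leaf ([])))) (.node (.node (.node (.leaf ([])) (.leaf ([]))) (.leaf ([]))) (.node (.leaf ([])) (.leaf ([])))))) (.node (.node (.node (.node (.node (.leaf ([])) (.leaf ([]))) (.leaf ([]))) (.node (.node (.leaf ([])) (.leaf ([]))) (.leaf ([])))) (.node (.node (.node (.leaf ([])) (.leaf ([]))) (.leaf ([]))) (.node (.node (.leaf ([])) (.leaf ([]))) (.leaf ([]))))) (.node (.node (.node (.node (.leaf ([])) (.leaf ([]))) (.leaf ([]))) (.node (.node (.leaf ([])) (.leaf ([]))) (.leaf ([])))) (.node (.node (.node (.leaf ([])) (.leaf ([]))) (.leaf ([]))) (.node (.leaf ([])) (.leaf ([]))))))) (.node (.node (.node (.node (.node (.node (.leaf ([])) (.leaf ([]))) (.leaf ([]))) (.node (.node (.leaf ([])) (.leaf ([]))) (.leaf ([]))))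 (.node (.node (.node (.leaf ([])) (.leaf ([]))) (.leaf ([]))) (.node (.node (.leaf ([])) (.leaf ([]))) (.leaf ([]))))) (.node (.node (.node (.node (.leaf ([])) (.leaf ([]))) (.leaf ([]))) (.node (.node (.leaf ([])) (.leaf ([]))) (.leaf ([])))) (.node (.node (.node (.leaf ([])) (.leaf ([]))) (.leaf ([]))) (.node (.leaf ([])) (.leaf ([])))))) (.node (.node (.node (.node (.node (.leaf ([])) (.leaf ([]))) (.leaf ([]))) (.node (.node (.leaf ([])) (.leaf ([]))) (.leaf ([])))) (.node (.node (.node (.leaf ([])) (.leaf ([]))) (.leaf ([]))) (.node (.leaf ([])) (.leaf ([]))))) (.node (.node (.node (.node (.leaf ([])) (.leaf ([]))) (.leaf ([]))) (.node (.node (.leaf ([])) (.leaf ([]))) (.leaf ([])))) (.node (.node (.node (.leaf ([])) (.leaf ([]))) (.leaf ([]))) (.node (.leaf ([])) (.leaf ([]))))))))))))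

/-- data -/
def val4 : Trie (Vec) := .node (.node (.node (.node (.node (.node (.node (.node (.node (.node (.node (.node (.leaf ([])) (.leaf ([(-2), 6, 0, 1, 3, 5]))) (.leaf ([]))) (.node (.node (.leaf ([0, 1])) (.leaf ([(-2), 5, (-1), 1, 0, 4, (-2)]))) (.leaf ([])))) (.node (.node (.node (.leaf ([])) (.leaf ([(-1), 6, (-2), 3, 3, 5, 1]))) (.leaf ([]))) (.node (.node (.leaf ([(-1), (-1), 2, 0, (-2)])) (.leaf ([0, 1]))) (.leaf ([0, (-4), 4, (-1), (-4), (-2), 1]))))) (.node (.node (.node (.node (.leaf ([0, 1])) (.leaf ([1, 3, 5, (-2), 2, 1, 5]))) (.leaf ([]))) (.node (.node (.leaf ([0, (-1), 1, 0, (-2)])) (.leaf ([1, 1, 1, (-1), 2, 0, 1]))) (.leaf ([0, (-4), 3, 0, (-4), (-2), 1])))) (.node (.node (.node (.leaf ([0, (-4), 1, 0, (-1), (-3)])) (.leaf ([0, 1]))) (.leaf ([(-1), 3, (-7), 4, 1, 3, (-4)]))) (.node (.leaf ([])) (.leaf ([1, (-5), 7, (-10), (-2), (-4), (-3)])))))) (.node (.node (.node (.node (.node (.leaf ([])) (.leaf ([]))) (.leaf ([0, (-3), (-4), (-1), (-2), (-2), (-6)]))) (.node (.node (.leaf ([0, 1, 0, 0, 2])) (.leaf ([0, 1]))) (.leaf ([4, 4, (-6), 0, 7, 1, 1])))) (.node (.node (.node (.leaf ([0, 1])) (.leaf ([0, (-1), 0, 0, (-1), 0, (-1)]))) (.leaf ([]))) (.node (.node (.leaf ([0, 0, 1])) (.leaf ([(-6), 33, (-7), 12, 14, 26, 6]))) (.leaf ([0, 1]))))) (.node (.node (.node (.node (.leaf ([])) (.leaf ([0, 1]))) (.leaf ([0, 0, 2, 0, 0, 0, 1]))) (.node (.node (.leaf ([0, 1])) (.leaf ([2, 1, (-2), (-1), 2, 0, (-1)]))) (.leaf ([])))) (.node (.node (.node (.leaf ([3, (-16), 1, (-3), (-8), (-12), (-3)])) (.leaf ([2, (-3), 0, (-1), 1, (-3), 1]))) (.leaf ([0, 0, 1, (-1)]))) (.node (.leaf ([])) (.leaf ([0, 1, 3, 0, 0, 1, 3]))))))) (.node (.node (.node (.node (.node (.node (.leaf ([])) (.leaf ([5, 5, (-1), (-6), 9, 0, 2]))) (.leaf ([]))) (.node (.node (.leaf ([2, (-1), (-3), 1, 0, (-2)])) (.leaf ([]))) (.leaf ([0, 1])))) (.node (.node (.node (.leaf ([0, 1, 0, 0, 2])) (.leaf ([0, 1]))) (.leaf ([0, (-5), 2, 0, (-3), (-3)]))) (.node (.node (.leaf ([0, 1])) (.leaf ([0, (-1), 1, 0, (-1), (-1)]))) (.leaf ([0, 3, 3, (-1), 2, 2, 3]))))) (.node (.node (.node (.node (.leaf ([])) (.leaf ([(-2), (-1), 3, 1, (-2), 0, 1]))) (.leaf ([0, 1]))) (.node (.node (.leaf ([0, 4, 1, 1, 3, 3, 3])) (.leaf ([0, 1]))) (.leaf ([1, (-6), 0, 1, (-4), (-4)])))) (.node (.node (.node (.leaf ([])) (.leaf ([0, 0, (-8), 5, 1, (-1), (-3)]))) (.leaf ([(-3), (-2), (-6), 6, (-4), 0, (-6)]))) (.node (.leaf ([(-2), (-2), 7, (-1), (-4), 0, 2])) (.leaf ([(-1), 0, (-1), 2, (-3), 0, (-1)])))))) (.node (.node (.node (.node (.node (.leaf ([])) (.leaf ([10, (-5), (-25), (-7), 11, (-10), (-17)]))) (.leaf ([]))) (.node (.node (.leaf ([0, 1])) (.leaf ([0, (-4), 0, 0, (-2), (-2), (-2)]))) (.leaf ([2, 11, (-12), (-3), 10, 6, (-8)])))) (.node (.node (.node (.leaf ([])) (.leaf ([4, (-10), 3, (-4), (-1), (-9), 2]))) (.leaf ([]))) (.node (.node (.leaf ([0, 12, (-10), 1, 8, 8, (-5)])) (.leaf ([0, 1]))) (.leaf ([8, 17, (-8), (-9), 22, 6, 2]))))) (.node (.node (.node (.node (.leaf ([])) (.leaf ([(-11), (-8), 23, (-1), (-18), 2, 1]))) (.leaf ([(-2), 4, 0, 1, 1, 4, (-1)]))) (.node (.node (.leaf ([(-1), (-1), 1, 0, (-2), 0, (-1)])) (.leaf ([(-2), 0, 5, 0, (-3), 2, 1]))) (.leaf ([(-1), (-2), 4, (-2), (-2), (-1)])))) (.node (.node (.node (.leaf ([])) (.leaf ([0, 1]))) (.leaf ([]))) (.node (.leaf ([])) (.leaf ([(-1), (-7), 4, (-1), (-5), (-4), (-1)])))))))) (.node (.node (.node (.node (.node (.node (.node (.leaf ([])) (.leaf ([1, 5, (-2), (-6), 5, 3, (-5)]))) (.leaf ([0, 1]))) (.node (.node (.leaf ([])) (.leaf ([0, 1]))) (.leaf ([1, (-5), 2, (-1), (-3), (-4)])))) (.node (.node (.node (.leaf ([])) (.leaf ([0, 18, (-6), 6, 12, 12, 5]))) (.leaf ([0, 12, (-12), 7, 9, 8, (-1)]))) (.node (.node (.leaf ([2, (-7), 0, 0, (-3), (-6)])) (.leaf ([0, 16, (-13), 9, 11, 10, 1]))) (.leaf ([]))))) (.node (.node (.node (.node (.leaf ([])) (.leaf ([0, 1]))) (.leaf ([3, 2, 1, (-9), 4, 0, (-3)]))) (.node (.node (.leaf ([0, 1])) (.leaf ([1, 1, (-1), 0, 2]))) (.leaf ([1, 4, (-6), 2, 5, 2, (-1)])))) (.node (.node (.node (.leaf ([])) (.leaf ([]))) (.leaf ([0, 1]))) (.node (.leaf ([0, 5, (-3), 1, 5, 3])) (.leaf ([(-5), 5, 0, 7, (-4), 7])))))) (.node (.node (.node (.node (.node (.leaf ([])) (.leaf ([1, (-10), (-2), 1, (-5), (-7), (-3)]))) (.leaf ([]))) (.node (.node (.leaf ([(-2), 2, 3, 0, (-2), 3])) (.leaf ([3, 12, (-9), 3, 13, 6, 3]))) (.leaf ([])))) (.node (.node (.node (.leaf ([0, (-3), 2, (-1), (-1), (-2)])) (.leaf ([0, (-14), 13, (-5), (-10), (-10), 3]))) (.leaf ([2, (-7), 8, (-6), (-3), (-6), 2]))) (.node (.node (.leaf ([0, 1])) (.leaf ([3, 2, 1, (-5), 5, 0, 1]))) (.leaf ([]))))) (.node (.node (.node (.node (.leaf ([0, 0, 1])) (.leaf ([2, 0, (-2), (-1), 3, (-2)]))) (.leaf ([]))) (.node (.node (.leaf ([])) (.leaf ([(-1), (-9), 24, (-11), (-8), (-6), 8]))) (.leaf ([0, 0, 0, 1, (-1)])))) (.node (.node (.node (.leaf ([0, 1])) (.leaf ([2, (-12), 1, (-4), (-7), (-9), (-5)]))) (.leaf ([]))) (.node (.leaf ([1, 0, (-1)])) (.leaf ([]))))))) (.node (.node (.node (.node (.node (.node (.leaf ([])) (.leaf ([0, 1]))) (.leaf ([]))) (.node (.node (.leaf ([])) (.leaf ([1, (-2), (-1), 1, (-2), (-2)]))) (.leaf ([3, (-6), (-12), 3, 1, (-6), (-6)])))) (.node (.node (.node (.leaf ([1, 5, 0, 0, 4, 3, 3])) (.leaf ([3, 3, 2, (-1), 7, (-1), 7]))) (.leaf ([]))) (.node (.node (.leaf ([0, (-1), 2, (-2), 1, (-1)])) (.leaf ([(-1), 1, (-14), 5, (-1), 0, (-10)]))) (.leaf ([0, 5, (-4), 3, 3, 3]))))) (.node (.node (.node (.node (.leaf ([])) (.leaf ([1, 1, (-2), 1]))) (.leaf ([0, (-5), 4, (-2), (-3), (-3)]))) (.node (.node (.leaf ([0, (-13), 8, (-6), (-10), (-8), (-3)])) (.leaf ([3, 3, (-1), 0, 6, 0, 5]))) (.leaf ([0, 1])))) (.node (.node (.node (.leaf ([])) (.leaf ([0, 1]))) (.leaf ([0, 3, (-2), 2, 1, 2]))) (.node (.leaf ([])) (.leaf ([1, (-15), 8, (-6), (-8), (-11), (-1)])))))) (.node (.node (.node (.node (.node (.leaf ([])) (.leaf ([4, (-10), 3, (-3), 0, (-10), 3]))) (.leaf ([0, 1, (-1), 1, 1, 1]))) (.node (.node (.leaf ([])) (.leaf ([0, (-3), (-1), (-1), (-2), (-2), (-3)]))) (.leaf ([2, (-7), 6, (-3), (-4), (-5), 3])))) (.node (.node (.node (.leaf ([0, 1, (-1), 1])) (.leaf ([(-2), (-6), 1, 1, (-7), (-3), (-4)]))) (.leaf ([(-1), (-1), 2, 0, (-2)]))) (.node (.leaf ([])) (.leaf ([0, 4, 4, 1, 2, 2, 6]))))) (.node (.node (.node (.node (.leaf ([])) (.leaf ([0, 1]))) (.leaf ([0, (-7), (-1), 1, (-5), (-4), (-3)]))) (.node (.node (.leaf ([])) (.leaf ([(-5), 0, (-2), 11, (-5), 3, 1]))) (.leaf ([0, 1, (-1), 0, 2, 0, (-1)])))) (.node (.node (.node (.leaf ([0, 8, (-5), 3, 4, 6])) (.leaf ([1, 6, (-3), 0, 6, 2, 1]))) (.leaf ([]))) (.node (.leaf ([0, 1, 0, 0, 2])) (.leaf ([(-1), (-5), 5, (-3), (-5), (-3), (-2)]))))))))) (.node (.node (.node (.node (.node (.node (.node (.node (.leaf ([])) (.leaf ([2, 4, (-4), 0, 6, 1]))) (.leaf ([]))) (.node (.node (.leaf ([])) (.leaf ([0, (-14), 10, (-5), (-10), (-10)]))) (.leaf ([])))) (.node (.node (.node (.leaf ([])) (.leaf ([0, 1]))) (.leaf ([2, (-7), 6, (-3), (-3), (-6), 3]))) (.node (.node (.leaf ([])) (.leaf ([(-3), 18, (-9), 7, 7, 14, (-2)]))) (.leaf ([(-1), (-4), 0, 0, (-3), (-3), (-3)]))))) (.node (.node (.node (.node (.leaf ([])) (.leaf ([(-2), (-2), (-13), 6, (-4), 0, (-11)]))) (.leaf ([0, 1]))) (.node (.node (.leaf ([])) (.leaf ([(-2), 0, 6, (-1), (-3), 2, 1]))) (.leaf ([0, 3, 2, 0, 3, 2, 3])))) (.node (.node (.node (.leaf ([0, 1])) (.leaf ([(-2), (-2), 3, 0, (-4), 0, (-2)]))) (.leaf ([0, 6, 1, 0, 5, 4, 3]))) (.node (.leaf ([0, (-1), 1, 0, (-2)])) (.leaf ([0, 1])))))) (.node (.node (.node (.node (.node (.leaf ([])) (.leaf ([0, 1]))) (.leaf ([0, 0, 1]))) (.node (.node (.leaf ([0, 1])) (.leaf ([1, 11, (-12), 8, 8, 6, 1]))) (.leaf ([(-2), (-1), 3, 1, (-2), 0, 1])))) (.node (.node (.node (.leaf ([(-4), 10, (-2), 3, 0, 10, (-3)])) (.leaf ([0, (-2), 1, 0, (-1), (-2)]))) (.leaf ([0, 1]))) (.node (.node (.leaf ([])) (.leaf ([0, 1]))) (.leaf ([3, 4, (-3), 0, 6, 1, 3]))))) (.node (.node (.node (.node (.leaf ([0, (-3), 2, (-1), (-2), (-2)])) (.leaf ([1, (-2), (-3), 0, 0, (-2), (-2)]))) (.leaf ([(-1), (-5), (-3), 3, (-3), (-3), (-3)]))) (.node (.node (.leaf ([])) (.leaf ([0, 1, 0, 0, 1]))) (.leaf ([0, 1])))) (.node (.node (.node (.leaf ([(-1), 0, 2, 0, 0, 0, 1])) (.leaf ([2, (-3), 0, (-2), 2, (-4), 1]))) (.leaf ([(-1), 2, (-1), 1, 1, 2, (-1)]))) (.node (.leaf ([])) (.leaf ([1, 4, (-11), 5, 6, 2, (-3)]))))))) (.node (.node (.node (.node (.node (.node (.leaf ([])) (.leaf ([0, 1, 0, 0, 1]))) (.leaf ([]))) (.node (.node (.leaf ([])) (.leaf ([0, 1]))) (.leaf ([0, 8, 0, (-3), 4, 6, (-1)])))) (.node (.node (.node (.leaf ([0, 1])) (.leaf ([(-6), (-6), 13, (-3), (-11), 0, (-2)]))) (.leaf ([0, 4, 2, 0, 4, 2, 3]))) (.node (.node (.leaf ([0, (-5), 2, 0, (-3), (-3)])) (.leaf ([(-3), (-14), 0, (-4), (-13), (-8), (-14)]))) (.leaf ([]))))) (.node (.node (.node (.node (.leaf ([1, 1, (-2), 0, 2])) (.leaf ([]))) (.leaf ([]))) (.node (.node (.leaf ([])) (.leaf ([1, 2, (-5), 5, 3, 0, 2]))) (.leaf ([1, 1, (-2), 1, 2, (-1), 1])))) (.node (.node (.node (.leaf ([1, 0, 0, 0, 0, 0, 1])) (.leaf ([0, 7, (-9), 7, 5, 5]))) (.leaf ([0, 1]))) (.node (.leaf ([0, 0, 1, 0, 0, 0, 1])) (.leaf ([0, 1, 3, 0, 0, 1, 3])))))) (.node (.node (.node (.node (.node (.leaf ([])) (.leaf ([3, 8, (-1), 0, 8, 4, 6]))) (.leaf ([(-1), (-9), (-3), (-3), (-5), (-6), (-10)]))) (.node (.node (.leaf ([(-1), 4, 1, 0, 0, 4])) (.leaf ([]))) (.leaf ([0, 1])))) (.node (.node (.node (.leaf ([0, 0, (-1), 0, 0, 0, (-1)])) (.leaf ([]))) (.leaf ([(-1), 6, 0, 1, 3, 5, 1]))) (.node (.leaf ([0, 1])) (.leaf ([4, (-6), (-3), 0, 0, (-6), 1]))))) (.node (.node (.node (.node (.leaf ([])) (.leaf ([(-1), (-9), 8, 4, (-7), (-6), 7]))) (.leaf ([]))) (.node (.node (.leaf ([])) (.leaf ([]))) (.leaf ([(-1), (-2), 1, (-2), (-2), (-1), (-3)])))) (.node (.node (.node (.leaf ([])) (.leaf ([(-2), (-5), 0, 3, (-8), (-1), (-3)]))) (.leaf ([4, 1, (-7), (-2), 7, (-2), (-2)]))) (.node (.leaf ([3, (-7), (-2), (-6), (-2), (-6), (-6)])) (.leaf ([0, 1])))))))) (.node (.node (.node (.node (.node (.node (.node (.leaf ([])) (.leaf ([0, 4, 1, 1, 2, 2, 3]))) (.leaf ([]))) (.node (.node (.leaf ([0, 1])) (.leaf ([0, 5, 0, 2, 3, 3, 3]))) (.leaf ([2, 3, (-1), 3, 6, 0, 7])))) (.node (.node (.node (.leaf ([0, (-1), 1, 0, (-1)])) (.leaf ([(-1), 0, (-1), 1, 0, 0, (-1)]))) (.leaf ([0, 1]))) (.node (.node (.leaf ([])) (.leaf ([0, 1]))) (.leaf ([0, 8, 0, 0, 4, 6, 2]))))) (.node (.node (.node (.node (.leaf ([0, 1])) (.leaf ([2, 7, 2, 0, 7, 3, 7]))) (.leaf ([]))) (.node (.node (.leaf ([])) (.leaf ([(-6), (-17), 8, 8, (-19), (-8)]))) (.leaf ([0, 1, (-1), 1, 1, 1])))) (.node (.node (.node (.leaf ([1, 1, 1, 0, 3, 0, 3])) (.leaf ([0, 1]))) (.leaf ([0, 0, 1, 0, (-1)]))) (.node (.leaf ([0, 1])) (.leaf ([2, (-3), (-2), (-2), 2, (-4), (-1)])))))) (.node (.node (.node (.node (.node (.leaf ([0, (-1), 1, 0, (-2)])) (.leaf ([0, 0, 0, 0, 1]))) (.leaf ([0, 1]))) (.node (.node (.leaf ([])) (.leaf ([0, (-5), (-2), 1, (-4), (-4), (-3)]))) (.leaf ([(-1), (-6), 4, (-2), (-5), (-3), (-2)])))) (.node (.node (.node (.leaf ([])) (.leaf ([2, (-8), 7, (-9), (-3), (-6), (-2)]))) (.leaf ([1, 11, (-11), 2, 9, 7, (-4)]))) (.node (.node (.leaf ([])) (.leaf ([5, (-12), 7, (-8), (-2), (-11), 2]))) (.leaf ([1, 10, (-15), 8, 8, 6, (-2)]))))) (.node (.node (.node (.node (.leaf ([])) (.leaf ([0, 1]))) (.leaf ([(-2), 9, (-7), 5, 3, 8, (-3)]))) (.node (.node (.leaf ([])) (.leaf ([0, (-12), 12, 5, (-8), (-8), 13]))) (.leaf ([(-4), 4, 5, (-1), (-2), 5, (-1)])))) (.node (.node (.node (.leaf ([(-1), (-1), 1, 0, (-2), 0, (-1)])) (.leaf ([1, 4, (-19), 7, 3, 2, (-10)]))) (.leaf ([0, 1]))) (.node (.leaf ([0, (-6), (-1), 0, (-4), (-4), (-3)])) (.leaf ([4, 0, (-2), (-4), 7, (-3), 1]))))))) (.node (.node (.node (.node (.node (.node (.leaf ([])) (.leaf ([(-1), 3, (-1), 0, 3, 2, (-1)]))) (.leaf ([(-2), (-7), 10, (-3), (-8), (-3), 1]))) (.node (.node (.leaf ([0, (-4), 0, (-1), (-2), (-2), (-3)])) (.leaf ([(-3), 10, (-6), 4, 2, 8, (-4)]))) (.leaf ([])))) (.node (.node (.node (.leaf ([])) (.leaf ([]))) (.leaf ([]))) (.node (.node (.leaf ([0, 1])) (.leaf ([(-1), 8, 9, (-6), 2, 7, 3]))) (.leaf ([1, 10, (-4), 4, 8, 5, 5]))))) (.node (.node (.node (.node (.leaf ([])) (.leaf ([4, 1, 0, (-3), 7, (-3), 4]))) (.leaf ([(-4), 0, 5, 1, (-5), 3, (-1)]))) (.node (.node (.leaf ([0, 1, 0, 0, 2])) (.leaf ([0, 1]))) (.leaf ([0, (-49), 24, (-15), (-34), (-32), (-8)])))) (.node (.node (.node (.leaf ([])) (.leaf ([2, (-2), (-1), 0, 0, (-2), 1]))) (.leaf ([]))) (.node (.leaf ([2, (-1), (-3), 0, 2, (-2)])) (.leaf ([0, 1])))))) (.node (.node (.node (.node (.node (.leaf ([])) (.leaf ([0, 1]))) (.leaf ([]))) (.node (.node (.leaf ([])) (.leaf ([0, 0, 1]))) (.leaf ([1, (-4), 8, (-5), (-2), (-4), 3])))) (.node (.node (.node (.leaf ([])) (.leaf ([7, (-7), (-14), (-6), 4, (-9), (-11)]))) (.leaf ([]))) (.node (.leaf ([0, 0, 1, 0, 0, 0, 1])) (.leaf ([0, 6, 2, (-3), 2, 5]))))) (.node (.node (.node (.node (.leaf ([0, 1])) (.leaf ([2, (-6), 4, (-2), (-1), (-5), 3]))) (.leaf ([0, 1, 0, 0, 2]))) (.node (.node (.leaf ([1, 0, (-1)])) (.leaf ([0, (-5), 4, 1, (-4), (-4), 3]))) (.leaf ([])))) (.node (.node (.node (.leaf ([0, 1, 0, 0, 2])) (.leaf ([0, (-4), (-4), 1, (-3), (-4), (-4)]))) (.leaf ([5, (-12), 4, (-4), (-3), (-11), 3]))) (.node (.leaf ([0, 1])) (.leaf ([0, 0, 0, 0, 1])))))))))) (.node (.node (.node (.node (.node (.node (.node (.node (.node (.leaf ([])) (.leaf ([0, 4, (-1), 0, 4, 2]))) (.leaf ([]))) (.node (.node (.leaf ([0, (-4), (-1), 0, (-3), (-3), (-3)])) (.leaf ([0, 1]))) (.leaf ([(-1), 6, (-5), 2, 3, 4, (-3)])))) (.node (.node (.node (.leaf ([0, 1])) (.leaf ([3, (-15), (-17), 9, (-6), (-12), (-8)]))) (.leaf ([0, 1, 2, 0, 1, 0, 2]))) (.node (.node (.leaf ([1, 1, (-2), (-1), 2, 0, (-1)])) (.leaf ([0, (-6), 2, (-1), (-3), (-4), (-1)]))) (.leaf ([0, 1]))))) (.node (.node (.node (.node (.leaf ([])) (.leaf ([]))) (.leaf ([0, (-1), 1, 0, (-2)]))) (.node (.node (.leaf ([0, 1])) (.leaf ([2, 2, 4, (-3), 3, 0, 4]))) (.leaf ([(-2), 3, (-3), 3, 1, 3, (-2)])))) (.node (.node (.node (.leaf ([])) (.leaf ([(-2), 9, (-9), 3, 5, 7, (-6)]))) (.leaf ([]))) (.node (.leaf ([])) (.leaf ([2, 0, (-2), (-1), 0, 0, (-1)])))))) (.node (.node (.node (.node (.node (.leaf ([])) (.leaf ([0, (-9), (-2), 2, (-5), (-7), (-3)]))) (.leaf ([]))) (.node (.node (.leaf ([(-2), 3, 3, 0, 0, 3])) (.leaf ([1, (-7), 1, (-2), (-4), (-6), (-2)]))) (.leaf ([])))) (.node (.node (.node (.leaf ([])) (.leaf ([0, 1]))) (.leaf ([]))) (.node (.node (.leaf ([])) (.leaf ([(-8), 61, (-24), 15, 28, 47, (-3)]))) (.leaf ([2, 10, (-9), 5, 10, 5, 3]))))) (.node (.node (.node (.node (.leaf ([2, 7, (-8), 3, 6, 4])) (.leaf ([(-1), (-6), 3, 2, (-5), (-4), 1]))) (.leaf ([0, 1]))) (.node (.node (.leaf ([])) (.leaf ([0, 1]))) (.leaf ([1, (-5), 2, (-2), (-1), (-4)])))) (.node (.node (.node (.leaf ([0, 1])) (.leaf ([(-7), 1, 3, 7, (-8), 5, (-1)]))) (.leaf ([]))) (.node (.leaf ([])) (.leaf ([0, 1]))))))) (.node (.node (.node (.node (.node (.node (.leaf ([0, 1, 0, 0, 2])) (.leaf ([0, 1]))) (.leaf ([(-1), (-1), 2, 1, (-2), 0, 1]))) (.node (.node (.leaf ([])) (.leaf ([(-2), (-1), 5, (-2), (-4), 0, (-1)]))) (.leaf ([(-1), (-2), 1, 1, (-3), 0, (-1)])))) (.node (.node (.node (.leaf ([(-2), (-7), 6, (-3), (-8), (-3), (-3)])) (.leaf ([1, (-6), (-12), 3, (-2), (-5), (-9)]))) (.leaf ([]))) (.node (.node (.leaf ([])) (.leaf ([0, 1]))) (.leaf ([(-1), 4, (-3), 3, 2, 3]))))) (.node (.node (.node (.node (.leaf ([])) (.leaf ([0, (-1), 2, 0, (-1), 0, 1]))) (.leaf ([(-1), (-5), (-3), 0, (-3), (-3), (-6)]))) (.node (.node (.leaf ([])) (.leaf ([(-8), (-3), 12, 1, (-11), 3, (-1)]))) (.leaf ([0, 1])))) (.node (.node (.node (.leaf ([0, 1, 0, 0, 2])) (.leaf ([1, 4, (-7), 2, 4, 2, (-2)]))) (.leaf ([1, 4, (-3), 3, 4, 2, 3]))) (.node (.leaf ([])) (.leaf ([1, (-7), 6, (-3), (-4), (-5), 2])))))) (.node (.node (.node (.node (.node (.leaf ([])) (.leaf ([3, 7, (-7), (-3), 9, 3, (-3)]))) (.leaf ([]))) (.node (.node (.leaf ([(-2), 7, 0, 0, 3, 6, (-1)])) (.leaf ([(-4), 14, (-2), 4, 7, 11, 1]))) (.leaf ([4, (-7), (-2), (-3), (-1), (-6), (-2)])))) (.node (.node (.node (.leaf ([])) (.leaf ([7, 1, (-3), (-5), 8, (-3), 3]))) (.leaf ([0, (-4), 3, 1, (-1), (-3), 3]))) (.node (.leaf ([1, 0, (-1)])) (.leaf ([0, 1]))))) (.node (.node (.node (.node (.leaf ([0, 0, (-1), 0, 0, 0, (-1)])) (.leaf ([]))) (.leaf ([0, 5, 2, 0, 3, 3, 3]))) (.node (.node (.leaf ([])) (.leaf ([0, 5, (-20), 18, 3, 3, (-1)]))) (.leaf ([])))) (.node (.node (.node (.leaf ([])) (.leaf ([(-1), (-7), 11, (-7), (-7), (-4), (-1)]))) (.leaf ([]))) (.node (.leaf ([])) (.leaf ([(-6), (-11), 2, 0, (-15), (-3), (-12)])))))))) (.node (.node (.node (.node (.node (.node (.node (.leaf ([0, 1])) (.leaf ([]))) (.leaf ([0, 2, (-1), 0, 2, 1]))) (.node (.node (.leaf ([])) (.leaf ([(-2), (-1), (-2), 1, (-2), (-1), (-4)]))) (.leaf ([])))) (.node (.node (.node (.leaf ([])) (.leaf ([0, 1]))) (.leaf ([(-2), (-35), 12, (-2), (-27), (-21), (-6)]))) (.node (.node (.leaf ([])) (.leaf ([3, 12, (-9), 0, 12, 6, (-1)]))) (.leaf ([(-5), 6, (-2), 0, (-2), 7, (-8)]))))) (.node (.node (.node (.node (.leaf ([1, 0, (-1)])) (.leaf ([(-3), 3, 6, 2, (-1), 4, 4]))) (.leaf ([0, 1]))) (.node (.node (.leaf ([(-1), 4, (-6), 0, 3, 3, (-6)])) (.leaf ([0, 1]))) (.leaf ([])))) (.node (.node (.node (.leaf ([])) (.leaf ([0, 0, 1, 0, (-1)]))) (.leaf ([(-1), 7, 3, 0, 5, 5, 4]))) (.node (.leaf ([(-2), (-1), 4, 0, (-4), 1])) (.leaf ([0, 1])))))) (.node (.node (.node (.node (.node (.leaf ([])) (.leaf ([]))) (.leaf ([]))) (.node (.node (.leaf ([0, 1])) (.leaf ([4, (-3), 8, (-6), 4, (-4), 7]))) (.leaf ([0, 0, 0, 0, 0, 0, (-1)])))) (.node (.node (.node (.leaf ([0, 0, 1])) (.leaf ([5, 2, (-8), (-1), 7, (-1), (-1)]))) (.leaf ([1, 1, (-2), 1, 2, (-1), 1]))) (.node (.node (.leaf ([])) (.leaf ([0, 1]))) (.leaf ([12, 8, (-23), 0, 20, (-2), (-1)]))))) (.node (.node (.node (.node (.leaf ([])) (.leaf ([6, (-7), (-6), (-6), 2, (-8), (-5)]))) (.leaf ([(-3), 3, 2, 0, (-1), 3, (-2)]))) (.node (.node (.leaf ([])) (.leaf ([(-2), (-1), 2, 2, (-2), 0, 1]))) (.leaf ([(-1), (-1), 3, (-2), (-2), 0, (-1)])))) (.node (.node (.node (.leaf ([])) (.leaf ([3, 7, (-12), 5, 7, 2]))) (.leaf ([]))) (.node (.leaf ([0, 1])) (.leaf ([0, 1, 0, 0, 2]))))))) (.node (.node (.node (.node (.node (.node (.leaf ([])) (.leaf ([(-1), 3, 1, 2, 2, 2, 2]))) (.leaf ([]))) (.node (.node (.leaf ([0, 3, 1, 1, 3, 2, 3])) (.leaf ([0, 1]))) (.leaf ([3, (-4), 0, (-2), 1, (-4), 1])))) (.node (.node (.node (.leaf ([0, 1])) (.leaf ([2, 2, (-6), 3, 3]))) (.leaf ([(-2), 2, 4, 0, (-1), 3, 1]))) (.node (.node (.leaf ([0, (-1), 1, 0, (-1)])) (.leaf ([0, (-3), (-2), 0, (-2), (-2), (-3)]))) (.leaf ([]))))) (.node (.node (.node (.node (.leaf ([])) (.leaf ([0, 5, 4, (-1), 3, 4, 4]))) (.leaf ([]))) (.node (.node (.leaf ([])) (.leaf ([0, 26, 3, 0, 17, 18, 11]))) (.leaf ([(-1), (-3), 4, (-1), (-3), (-2)])))) (.node (.node (.node (.leaf ([])) (.leaf ([(-2), 0, 2, 3, (-3), 2, 1]))) (.leaf ([]))) (.node (.leaf ([(-5), 0, 1, 6, (-6), 3, (-1)])) (.leaf ([6, 16, (-18), 6, 18, 7, 3])))))) (.node (.node (.node (.node (.node (.leaf ([])) (.leaf ([]))) (.leaf ([3, 12, (-5), 3, 13, 6, 7]))) (.node (.node (.leaf ([])) (.leaf ([1, (-3), 11, (-5), 1, (-3), 7]))) (.leaf ([])))) (.node (.node (.node (.leaf ([])) (.leaf ([0, 2, 4, 2, 0, 1, 6]))) (.leaf ([0, (-3), (-6), 3, (-1), (-2), (-4)]))) (.node (.leaf ([0, 1])) (.leaf ([(-4), (-3), 1, 3, (-8), 1, (-4)]))))) (.node (.node (.node (.node (.leaf ([1, 1, (-1), 0, 2])) (.leaf ([0, (-7), 8, (-12), (-4), (-5), (-6)]))) (.leaf ([]))) (.node (.node (.leaf ([])) (.leaf ([0, 5, (-1), 1, 3, 2, 2]))) (.leaf ([0, 4, (-7), 6, 2, 3])))) (.node (.node (.node (.leaf ([])) (.leaf ([(-2), 3, 1, (-1), 1, 3, (-2)]))) (.leaf ([1, (-16), 3, (-4), (-9), (-11), (-5)]))) (.node (.leaf ([(-1), 4, 3, 0, 2, 3, 3])) (.leaf ([]))))))))) (.node (.node (.node (.node (.node (.node (.node (.node (.leaf ([])) (.leaf ([]))) (.leaf ([0, (-4), (-1), 0, (-4), (-2), (-3)]))) (.node (.node (.leaf ([])) (.leaf ([(-1), 8, (-3), 3, 2, 7]))) (.leaf ([2, 6, (-5), 1, 7, 3, 1])))) (.node (.node (.node (.leaf ([0, (-5), (-4), 3, (-3), (-3), (-3)])) (.leaf ([(-3), 3, 7, (-1), (-1), 4, 2]))) (.leaf ([]))) (.node (.node (.leaf ([0, 0, (-2), 0, 0, 0, (-2)])) (.leaf ([0, 1]))) (.leaf ([(-3), 5, 0, 6, 0, 5, 3]))))) (.node (.node (.node (.node (.leaf ([])) (.leaf ([(-7), (-20), 8, 7, (-24), (-8), (-4)]))) (.leaf ([]))) (.node (.node (.leaf ([])) (.leaf ([(-1), 5, 0, 5, 1, 5, 4]))) (.leaf ([])))) (.node (.node (.node (.leaf ([])) (.leaf ([]))) (.leaf ([(-1), 8, (-2), 3, 5, 6, 2]))) (.node (.leaf ([0, 1])) (.leaf ([(-3), (-8), 12, (-1), (-9), (-3), 3])))))) (.node (.node (.node (.node (.node (.leaf ([])) (.leaf ([]))) (.leaf ([]))) (.node (.node (.leaf ([0, 4, (-1), 0, 3, 3])) (.leaf ([0, 1]))) (.leaf ([0, 3, (-3), 2, 3, 2])))) (.node (.node (.node (.leaf ([0, 6, 2, (-1), 4, 4, 3])) (.leaf ([1, (-4), 2, (-1), (-1), (-3), 1]))) (.leaf ([2, (-7), (-7), 5, (-2), (-5), (-2)]))) (.node (.node (.leaf ([0, (-6), 6, (-3), (-5), (-3)])) (.leaf ([0, 0, (-4), 1, 1, 0, (-3)]))) (.leaf ([1, 3, (-4), 2, 1, 1]))))) (.node (.node (.node (.node (.leaf ([])) (.leaf ([0, 1]))) (.leaf ([(-2), 3, 4, (-1), 1, 3, 1]))) (.node (.node (.leaf ([])) (.leaf ([1, (-3), 0, 3, 0, (-3), 3]))) (.leaf ([1, 2, (-1), (-1), 4, 0, 1])))) (.node (.node (.node (.leaf ([0, 0, 1])) (.leaf ([0, (-3), 3, (-2), (-2), (-2)]))) (.leaf ([0, 1]))) (.node (.leaf ([])) (.leaf ([(-1), 0, 2, 1, 0, 0, 1]))))))) (.node (.node (.node (.node (.node (.node (.leaf ([0, 1])) (.leaf ([0, (-8), (-4), (-2), (-5), (-5), (-9)]))) (.leaf ([2, (-2), (-2), 0, 2, (-3), 1]))) (.node (.node (.leaf ([])) (.leaf ([]))) (.leaf ([])))) (.node (.node (.node (.leaf ([0, 4, (-1), 0, 3, 3])) (.leaf ([0, (-5), 3, (-1), (-5), (-4)]))) (.leaf ([(-1), (-9), 5, (-3), (-8), (-5), (-3)]))) (.node (.node (.leaf ([])) (.leaf ([0, 2, 0, 0, 1, 1]))) (.leaf ([(-5), 3, 2, 6, (-4), 5, 1]))))) (.node (.node (.node (.node (.leaf ([])) (.leaf ([2, (-1), 0, (-1), 1, (-1), 1]))) (.leaf ([]))) (.node (.node (.leaf ([(-2), 7, 1, 0, 3, 6])) (.leaf ([0, (-5), 0, 2, (-5), (-4)]))) (.leaf ([1, 7, (-3), 3, 6, 4, 4])))) (.node (.node (.node (.leaf ([0, 1])) (.leaf ([(-1), 5, (-5), 5, 1, 4, (-1)]))) (.leaf ([]))) (.node (.leaf ([2, (-24), 11, (-6), (-14), (-17)])) (.leaf ([0, 1])))))) (.node (.node (.node (.node (.node (.leaf ([])) (.leaf ([0, 1]))) (.leaf ([]))) (.node (.node (.leaf ([0, 0, 1, (-1)])) (.leaf ([0, (-4), (-1), 0, (-4), (-2), (-3)]))) (.leaf ([(-1), 2, 5, (-1), (-1), 3, 2])))) (.node (.node (.node (.leaf ([])) (.leaf ([(-2), 7, 4, 0, 3, 5, 3]))) (.leaf ([0, 1]))) (.node (.leaf ([0, (-5), 9, (-4), (-3), (-3), 3])) (.leaf ([(-1), 6, 0, 6, 2, 5, 6]))))) (.node (.node (.node (.node (.leaf ([])) (.leaf ([1, 7, (-2), (-3), 7, 3, (-1)]))) (.leaf ([0, 0, 1, (-1), 1]))) (.node (.node (.leaf ([])) (.leaf ([1, 2, (-2), 0, 2, 1, (-1)]))) (.leaf ([])))) (.node (.node (.node (.leaf ([0, 4, 1, 1, 2, 2, 3])) (.leaf ([]))) (.leaf ([]))) (.node (.leaf ([])) (.leaf ([2, 1, 0, (-2), 5, (-1), 2])))))))) (.node (.node (.node (.node (.node (.node (.node (.leaf ([])) (.leaf ([5, 0, 0, (-6), 6, (-3), 1]))) (.leaf ([]))) (.node (.node (.leaf ([])) (.leaf ([0, 1]))) (.leaf ([])))) (.node (.node (.node (.leaf ([])) (.leaf ([(-1), (-1), 0, 1, (-2), 0, (-1)]))) (.leaf ([]))) (.node (.node (.leaf ([1, (-5), 3, (-2), (-3), (-3)])) (.leaf ([(-3), 4, 0, 4, (-1), 4]))) (.leaf ([0, 1]))))) (.node (.node (.node (.node (.leaf ([(-1), (-1), 2, 0, (-2)])) (.leaf ([0, 1]))) (.leaf ([]))) (.node (.node (.leaf ([])) (.leaf ([(-4), (-2), 6, 0, (-8), 2, (-2)]))) (.leaf ([(-2), (-5), 6, 0, (-5), (-2), 1])))) (.node (.node (.node (.leaf ([0, (-4), 8, (-3), (-4), (-2), 3])) (.leaf ([(-4), 9, 0, 3, 1, 8, (-1)]))) (.leaf ([0, 1, 1, 0, (-1), 0, 1]))) (.node (.leaf ([(-1), (-1), 2, 0, (-2)])) (.leaf ([3, 4, (-6), 0, 6, 1])))))) (.node (.node (.node (.node (.node (.leaf ([])) (.leaf ([(-3), (-9), 8, 0, (-9), (-4)]))) (.leaf ([]))) (.node (.node (.leaf ([])) (.leaf ([(-1), 4, (-3), 3, 1, 3, (-1)]))) (.leaf ([])))) (.node (.node (.node (.leaf ([])) (.leaf ([0, 1]))) (.leaf ([]))) (.node (.node (.leaf ([])) (.leaf ([0, (-3), 8, (-2), (-3), (-2), 4]))) (.leaf ([0, 0, 2, (-2), 1, (-1)]))))) (.node (.node (.node (.node (.leaf ([])) (.leaf ([1, (-5), 0, (-5), 0, (-5), (-4)]))) (.leaf ([(-1), 0, 0, 1, (-2), 0, (-1)]))) (.node (.node (.leaf ([])) (.leaf ([0, 1]))) (.leaf ([0, 0, 1])))) (.node (.node (.node (.leaf ([])) (.leaf ([2, 0, (-6), 0, 2, (-1), (-3)]))) (.leaf ([0, 0, 0, 0, 1]))) (.node (.leaf ([0, 1, 0, 0, 0, 1])) (.leaf ([1, 2, (-6), 1, 4, (-1), (-2)]))))))) (.node (.node (.node (.node (.node (.node (.leaf ([])) (.leaf ([]))) (.leaf ([(-1), (-5), 7, (-3), (-6), (-2)]))) (.node (.node (.leaf ([])) (.leaf ([0, 0, (-1), 1, (-2), 0, (-1)]))) (.leaf ([2, 2, (-11), 3, 4, 0, (-4)])))) (.node (.node (.node (.leaf ([])) (.leaf ([0, 0, (-4), 3, 0, 0, (-1)]))) (.leaf ([0, 4, (-5), 1, 2, 2, (-3)]))) (.node (.node (.leaf ([0, (-3), 2, (-1), (-1), (-2)])) (.leaf ([]))) (.leaf ([(-3), 6, 1, 3, 0, 6, 1]))))) (.node (.node (.node (.node (.leaf ([0, 1])) (.leaf ([]))) (.leaf ([(-1), (-2), 5, (-2), (-1), (-1), 1]))) (.node (.node (.leaf ([1, 0, 0, 0, 0, 0, 1])) (.leaf ([(-3), (-3), (-1), (-2), (-5), 0, (-9)]))) (.leaf ([0, 1])))) (.node (.node (.node (.leaf ([0, (-18), 7, (-6), (-12), (-12), (-5)])) (.leaf ([0, 1]))) (.leaf ([0, 9, 1, (-1), 7, 5, 3]))) (.node (.leaf ([])) (.leaf ([2, 0, (-4), 1, 2, (-2)])))))) (.node (.node (.node (.node (.node (.leaf ([0, (-1), 1, 0, (-2)])) (.leaf ([(-2), (-20), 10, (-2), (-15), (-12), (-2)]))) (.leaf ([1, 4, (-4), 1, 5, 2]))) (.node (.node (.leaf ([])) (.leaf ([0, 1]))) (.leaf ([1, 1, (-2), 1])))) (.node (.node (.node (.leaf ([])) (.leaf ([(-3), 13, (-11), 4, 5, 10, (-8)]))) (.leaf ([(-1), (-5), 3, (-3), (-5), (-3), (-4)]))) (.node (.leaf ([0, 0, 1])) (.leaf ([]))))) (.node (.node (.node (.node (.leaf ([])) (.leaf ([0, 1]))) (.leaf ([(-2), (-2), (-8), 5, (-4), 0, (-7)]))) (.node (.node (.leaf ([0, 1])) (.leaf ([0, 13, (-6), 7, 9, 8, 5]))) (.leaf ([1, 6, 12, (-3), 7, 3, 13])))) (.node (.node (.node (.leaf ([1, 5, (-5), 3, 4, 3, 1])) (.leaf ([]))) (.leaf ([0, 15, (-13), 5, 10, 10, (-3)]))) (.node (.leaf ([])) (.leaf ([0, 0, 0, 0, 0, 0, (-1)]))))))))))) (.node (.node (.node (.node (.node (.node (.node (.node (.node (.node (.leaf ([])) (.leaf ([(-4), (-10), 10, (-3), (-13), (-3), (-4)]))) (.leaf ([]))) (.node (.node (.leaf ([])) (.leaf ([(-1), 0, (-7), 1, (-2), 1, (-8)]))) (.leaf ([0, 1])))) (.node (.node (.node (.leaf ([])) (.leaf ([0, 1]))) (.leaf ([]))) (.node (.node (.leaf ([])) (.leaf ([(-2), (-6), 7, 1, (-7), (-3), 2]))) (.leaf ([]))))) (.node (.node (.node (.node (.leaf ([0, 4, 2, 0, 3, 3, 3])) (.leaf ([(-1), 0, 5, 0, 0, 0, 4]))) (.leaf ([0, 1]))) (.node (.node (.leaf ([])) (.leaf ([0, 1]))) (.leaf ([3, 8, 3, (-3), 8, 4, 7])))) (.node (.node (.node (.leaf ([])) (.leaf ([3, 8, (-6), (-1), 9, 4]))) (.leaf ([2, 8, (-4), (-2), 9, 4]))) (.node (.leaf ([])) (.leaf ([0, 1])))))) (.node (.node (.node (.node (.node (.leaf ([])) (.leaf ([0, 1]))) (.leaf ([1, 0, 0, 0, 0, 0, 1]))) (.node (.node (.leaf ([])) (.leaf ([]))) (.leaf ([(-1), 12, (-6), 2, 7, 9, (-2)])))) (.node (.node (.node (.leaf ([0, (-1), 1, 0, (-2)])) (.leaf ([0, (-9), 2, 1, (-5), (-7)]))) (.leaf ([1, (-3), 1, (-2), (-1), (-2), (-1)]))) (.node (.node (.leaf ([])) (.leaf ([(-3), (-8), 9, (-1), (-11), (-4)]))) (.leaf ([(-3), 5, 0, 3, 0, 5]))))) (.node (.node (.node (.node (.leaf ([])) (.leaf ([]))) (.leaf ([2, (-3), (-1), (-2), 1, (-3), (-1)]))) (.node (.node (.leaf ([])) (.leaf ([1, 2, (-3), 1, 3]))) (.leaf ([])))) (.node (.node (.node (.leaf ([])) (.leaf ([2, 0, (-4), 0, 2, (-1), (-1)]))) (.leaf ([1, 4, (-2), 0, 4, 2]))) (.node (.leaf ([])) (.leaf ([3, 3, (-7), 0, 6, 0, (-1)]))))))) (.node (.node (.node (.node (.node (.node (.leaf ([])) (.leaf ([0, (-9), 1, 0, (-6), (-6), (-2)]))) (.leaf ([]))) (.node (.node (.leaf ([])) (.leaf ([0, 1]))) (.leaf ([1, 5, (-2), 3, 5, 3, 4])))) (.node (.node (.node (.leaf ([])) (.leaf ([0, 5, (-4), 3, 3, 3]))) (.leaf ([]))) (.node (.node (.leaf ([0, 5, (-8), 3, 5, 3, (-3)])) (.leaf ([0, 1, 0, 1, 0, 0, 1]))) (.leaf ([0, 1]))))) (.node (.node (.node (.node (.leaf ([])) (.leaf ([]))) (.leaf ([(-3), (-3), 6, 0, (-5)]))) (.node (.node (.leaf ([0, 1])) (.leaf ([(-2), 10, 8, (-3), 5, 7, 5]))) (.leaf ([0, 7, (-7), 5, 5, 4])))) (.node (.node (.node (.leaf ([2, 7, 4, (-3), 6, 4, 6])) (.leaf ([4, (-8), (-1), (-3), 1, (-8)]))) (.leaf ([]))) (.node (.leaf ([0, (-4), 2, 0, (-3), (-3)])) (.leaf ([(-1), 2, 3, (-1), (-2), 3])))))) (.node (.node (.node (.node (.node (.leaf ([])) (.leaf ([0, 7, (-2), 2, 5, 4, 2]))) (.leaf ([0, 1, 0, 0, 2]))) (.node (.node (.leaf ([0, (-1), 1, 0, (-2)])) (.leaf ([0, 1, 0, 0, 1]))) (.leaf ([(-2), 1, 7, (-1), (-2), 2, 3])))) (.node (.node (.node (.leaf ([])) (.leaf ([0, 1]))) (.leaf ([(-1), (-5), 2, (-3), (-5), (-3), (-5)]))) (.node (.node (.leaf ([0, 1])) (.leaf ([0, (-1), 2, (-1), (-1), (-1)]))) (.leaf ([0, 6, (-4), 2, 5, 4]))))) (.node (.node (.node (.node (.leaf ([])) (.leaf ([(-1), (-1), 2, 0, 1, (-1), 1]))) (.leaf ([0, 1]))) (.node (.node (.leaf ([(-1), 4, (-1), 0, 2, 3, (-1)])) (.leaf ([0, 1]))) (.leaf ([4, (-3), (-9), 0, 4, (-5), (-3)])))) (.node (.node (.node (.leaf ([])) (.leaf ([1, (-5), 3, (-2), (-4), (-3)]))) (.leaf ([(-1), (-5), 4, (-1), (-3), (-3)]))) (.node (.leaf ([])) (.leaf ([(-1), 0, 0, 1, (-2), 0, (-1)])))))))) (.node (.node (.node (.node (.node (.node (.node (.leaf ([])) (.leaf ([]))) (.leaf ([]))) (.node (.node (.leaf ([])) (.leaf ([(-1), (-1), 4, (-1), (-4)]))) (.leaf ([])))) (.node (.node (.node (.leaf ([])) (.leaf ([(-2), 2, 2, 2, (-1), 3, 1]))) (.leaf ([]))) (.node (.node (.leaf ([])) (.leaf ([0, 1]))) (.leaf ([(-1), (-29), 28, (-18), (-22), (-18), (-2)]))))) (.node (.node (.node (.node (.leaf ([])) (.leaf ([0, 0, 1]))) (.leaf ([]))) (.node (.node (.leaf ([])) (.leaf ([0, 9, (-5), 0, 6, 6, (-2)]))) (.leaf ([5, 1, (-4), 0, 5, (-3), 4])))) (.node (.node (.node (.leaf ([2, 7, (-11), 0, 8, 3, (-5)])) (.leaf ([]))) (.leaf ([0, (-5), 5, (-3), (-3), (-3)]))) (.node (.leaf ([])) (.leaf ([2, (-9), 1, (-3), (-4), (-7), (-2)])))))) (.node (.node (.node (.node (.node (.leaf ([])) (.leaf ([(-1), 0, 2, 1, (-2), 0, 1]))) (.leaf ([]))) (.node (.node (.leaf ([])) (.leaf ([3, 18, (-12), 1, 17, 10]))) (.leaf ([(-2), 4, (-1), 1, (-2), 4, (-3)])))) (.node (.node (.node (.leaf ([0, 1])) (.leaf ([1, (-3), (-2), 1, (-1), (-3), (-1)]))) (.leaf ([4, 1, (-6), 1, 7, (-2), 2]))) (.node (.node (.leaf ([0, 6, 2, 0, 2, 5, 3])) (.leaf ([(-8), 2, 13, 1, (-7), 5, 2]))) (.leaf ([0, 1]))))) (.node (.node (.node (.node (.leaf ([])) (.leaf ([0, 1]))) (.leaf ([]))) (.node (.node (.leaf ([(-1), 0, 0, 1, (-2), 0, (-1)])) (.leaf ([1, (-11), 6, (-3), (-5), (-9), 1]))) (.leaf ([(-1), (-7), 6, (-4), (-6), (-4), (-2)])))) (.node (.node (.node (.leaf ([])) (.leaf ([0, 3, (-7), 6, 2, 2]))) (.leaf ([0, 1]))) (.node (.leaf ([])) (.leaf ([0, 5, (-1), 3, 2, 4, 3]))))))) (.node (.node (.node (.node (.node (.node (.leaf ([])) (.leaf ([2, 5, 6, 0, 4, 3, 10]))) (.leaf ([(-2), (-1), 1, 0, (-3), 0, (-3)]))) (.node (.node (.leaf ([2, 2, 2, (-3), 5, 0, 3])) (.leaf ([2, (-4), 2, (-4), (-1), (-3), (-1)]))) (.leaf ([6, 0, (-6), 0, 8, (-4), 4])))) (.node (.node (.node (.leaf ([])) (.leaf ([1, 20, (-14), 17, 14, 12, 11]))) (.leaf ([]))) (.node (.node (.leaf ([0, 1])) (.leaf ([0, 0, (-3), 3]))) (.leaf ([4, (-3), (-6), 0, 4, (-5)]))))) (.node (.node (.node (.node (.leaf ([2, 1, 0, 0, 3, 0, 3])) (.leaf ([0, 9, (-1), 3, 7, 6, 5]))) (.leaf ([0, 1]))) (.node (.node (.leaf ([4, 4, 2, (-9), 9, 0, 1])) (.leaf ([3, 1, (-3), 0, 4, (-2), 2]))) (.leaf ([1, (-18), 6, (-6), (-12), (-12), (-5)])))) (.node (.node (.node (.leaf ([])) (.leaf ([(-1), (-5), 5, 0, (-5), (-3), 1]))) (.leaf ([(-3), 3, 3, 0, (-1), 3, (-1)]))) (.node (.leaf ([0, 0, 0, 1, (-2)])) (.leaf ([0, 1])))))) (.node (.node (.node (.node (.node (.leaf ([])) (.leaf ([10, (-17), (-3), (-10), 2, (-18), (-2)]))) (.leaf ([1, (-3), (-3), 0, 0, (-3), (-3)]))) (.node (.node (.leaf ([0, 1])) (.leaf ([(-1), 0, 2, 2, (-1), 0, 2]))) (.leaf ([0, (-27), 13, (-9), (-18), (-18), (-5)])))) (.node (.node (.node (.leaf ([])) (.leaf ([0, (-4), 2, 3, (-3), (-3), 3]))) (.leaf ([]))) (.node (.leaf ([3, (-6), (-2), 0, 0, (-6), 1])) (.leaf ([0, 4, 0, 0, 1, 3]))))) (.node (.node (.node (.node (.leaf ([])) (.leaf ([5, 5, (-24), 9, 10, 0, (-5)]))) (.leaf ([1, 7, (-10), 7, 7, 4, 1]))) (.node (.node (.leaf ([])) (.leaf ([(-1), 1, (-2), 2, 1, 0, (-1)]))) (.leaf ([1, 1, (-1), (-2), 2, 0, (-1)])))) (.node (.node (.node (.leaf ([])) (.leaf ([0, 1]))) (.leaf ([3, 26, (-22), 9, 20, 16]))) (.node (.leaf ([0, (-3), 2, (-1), (-2), (-2)])) (.leaf ([]))))))))) (.node (.node (.node (.node (.node (.node (.node (.node (.leaf ([])) (.leaf ([]))) (.leaf ([0, 1]))) (.node (.node (.leaf ([0, 0, (-2), 0, 0, 0, (-2)])) (.leaf ([0, 1]))) (.leaf ([])))) (.node (.node (.node (.leaf ([0, 1])) (.leaf ([(-3), (-13), 8, 7, (-12), (-7), 6]))) (.leaf ([]))) (.node (.node (.leaf ([])) (.leaf ([5, (-3), (-2), (-5), 4, (-5), (-1)]))) (.leaf ([0, (-10), 5, (-2), (-6), (-7)]))))) (.node (.node (.node (.node (.leaf ([])) (.leaf ([(-1), (-5), 4, (-1), (-5), (-2), (-1)]))) (.leaf ([(-5), 0, 1, 0, (-5), 3, (-7)]))) (.node (.node (.leaf ([])) (.leaf ([1, 5, (-3), 0, 3, 3, (-1)]))) (.leaf ([])))) (.node (.node (.node (.leaf ([1, 0, (-1)])) (.leaf ([3, 6, (-1), (-3), 9, 2, 3]))) (.leaf ([0, 1]))) (.node (.leaf ([1, 1, 0, (-1), 2, 0, 1])) (.leaf ([3, 2, (-3), 0, 4, 0, 2])))))) (.node (.node (.node (.node (.node (.leaf ([])) (.leaf ([(-1), (-7), (-1), 1, (-5), (-4), (-4)]))) (.leaf ([0, 1, 0, 0, 0, 1]))) (.node (.node (.leaf ([])) (.leaf ([3, (-10), 6, (-4), (-3), (-9), 3]))) (.leaf ([])))) (.node (.node (.node (.leaf ([0, 1, 0, 0, 2])) (.leaf ([0, 1]))) (.leaf ([(-1), 4, (-1), 1, 1, 4, (-1)]))) (.node (.node (.leaf ([0, 4, (-8), 4, 2, 2, (-3)])) (.leaf ([3, 0, (-2), (-3), 4, (-2), (-1)]))) (.leaf ([(-3), 14, (-12), 9, 6, 11, (-3)]))))) (.node (.node (.node (.node (.leaf ([0, 0, 1, 0, 0, 0, 1])) (.leaf ([(-1), (-2), 5, (-1), (-2), 0, 1]))) (.leaf ([1, 1, 0, (-1), 2, 0, 1]))) (.node (.node (.leaf ([(-2), (-7), 5, (-3), (-8), (-3), (-4)])) (.leaf ([0, 4, 12, (-10), 2, 2, 3]))) (.leaf ([0, (-15), 1, 0, (-10), (-10), (-4)])))) (.node (.node (.node (.leaf ([])) (.leaf ([4, (-10), 2, (-4), (-1), (-9), 1]))) (.leaf ([]))) (.node (.leaf ([])) (.leaf ([(-1), (-14), 2, 2, (-9), (-9), (-2)]))))))) (.node (.node (.node (.node (.node (.node (.leaf ([])) (.leaf ([]))) (.leaf ([]))) (.node (.node (.leaf ([])) (.leaf ([0, (-11), (-1), 1, (-8), (-7), (-4)]))) (.leaf ([(-2), (-2), 7, (-1), (-2), 0, 2])))) (.node (.node (.node (.leaf ([])) (.leaf ([0, (-3), 1, 0, (-2), (-2)]))) (.leaf ([0, 1]))) (.node (.node (.leaf ([])) (.leaf ([0, 1]))) (.leaf ([(-1), (-1), 0, 1, (-2), 0, (-1)]))))) (.node (.node (.node (.node (.leaf ([])) (.leaf ([1, 5, (-3), 0, 3, 3, (-1)]))) (.leaf ([(-2), 1, 4, (-1), 0, 2]))) (.node (.node (.leaf ([(-1), 2, 1, 0, (-1), 3, (-1)])) (.leaf ([(-7), (-19), 8, (-2), (-19), (-9), (-11)]))) (.leaf ([])))) (.node (.node (.node (.leaf ([])) (.leaf ([0, 1]))) (.leaf ([(-1), (-2), 6, (-3), (-3)]))) (.node (.leaf ([])) (.leaf ([0, (-5), 4, (-2), (-4), (-4)])))))) (.node (.node (.node (.node (.node (.leaf ([1, 0, (-1)])) (.leaf ([]))) (.leaf ([0, 1]))) (.node (.node (.leaf ([])) (.leaf ([0, 1]))) (.leaf ([3, (-3), (-2), 0, 1, (-3), 1])))) (.node (.node (.node (.leaf ([])) (.leaf ([0, (-8), 12, (-6), (-6), (-5), 3]))) (.leaf ([0, (-5), 4, 1, (-4), (-4), 3]))) (.node (.leaf ([2, 0, (-1), 0, 0, 0, 1])) (.leaf ([2, 29, (-9), 7, 22, 18, 11]))))) (.node (.node (.node (.node (.leaf ([])) (.leaf ([0, 1]))) (.leaf ([0, (-1), (-4), 1, 1, (-1), (-3)]))) (.node (.node (.leaf ([])) (.leaf ([0, (-4), 15, (-5), (-3), (-2), 8]))) (.leaf ([(-1), 0, (-1), 3, 0, 0, 1])))) (.node (.node (.node (.leaf ([])) (.leaf ([(-3), (-6), 0, 1, (-7), (-3), (-6)]))) (.leaf ([]))) (.node (.leaf ([])) (.leaf ([(-1), 4, (-3), 2, 3, 3, (-1)])))))))) (.node (.node (.node (.node (.node (.node (.node (.leaf ([])) (.leaf ([]))) (.leaf ([0, 0, 0, 0, 1]))) (.node (.node (.leaf ([0, (-1), 1, 0, (-2)])) (.leaf ([1, 11, (-2), 2, 8, 6, 5]))) (.leaf ([])))) (.node (.node (.node (.leaf ([])) (.leaf ([0, 5, (-3), 0, 4, 2, (-1)]))) (.leaf ([(-3), 2, (-2), 3, (-1), 3, (-3)]))) (.node (.node (.leaf ([])) (.leaf ([(-6), 8, (-8), 8, (-3), 10, (-8)]))) (.leaf ([0, (-1), (-3), (-3), 0, (-1), (-6)]))))) (.node (.node (.node (.node (.leaf ([3, (-2), (-4), 0, 2, (-3)])) (.leaf ([1, 1, 1, (-1), 2, 0, 1]))) (.leaf ([2, 0, (-4), 1, 2, (-2)]))) (.node (.node (.leaf ([(-2), 1, 4, (-1), 0, 2])) (.leaf ([0, 1]))) (.leaf ([3, 6, (-10), 0, 9, 2, (-3)])))) (.node (.node (.node (.leaf ([])) (.leaf ([(-2), 7, (-4), 3, 3, 6, (-2)]))) (.leaf ([]))) (.node (.leaf ([0, 4, (-4), 3, 2, 3])) (.leaf ([])))))) (.node (.node (.node (.node (.node (.leaf ([])) (.leaf ([]))) (.leaf ([2, 7, (-8), 3, 6, 4]))) (.node (.node (.leaf ([])) (.leaf ([2, 1, (-1), 0, 2, 0, 1]))) (.leaf ([(-1), (-5), 1, 0, (-4), (-3), (-2)])))) (.node (.node (.node (.leaf ([])) (.leaf ([6, (-17), 9, (-13), (-3), (-15)]))) (.leaf ([]))) (.node (.node (.leaf ([])) (.leaf ([0, 1]))) (.leaf ([3, (-7), (-3), (-3), (-1), (-6), (-4)]))))) (.node (.node (.node (.node (.leaf ([])) (.leaf ([]))) (.leaf ([(-1), 2, 1, 2, 1, 2, 2]))) (.node (.node (.leaf ([])) (.leaf ([(-2), 7, 0, 2, 3, 5, 1]))) (.leaf ([0, 1])))) (.node (.node (.node (.leaf ([(-1), 4, 2, 0, 2, 3, 2])) (.leaf ([(-1), 9, (-19), 7, 4, 6, (-11)]))) (.leaf ([(-1), 1, 4, 0, (-1), 2, 2]))) (.node (.leaf ([0, 1])) (.leaf ([(-5), 2, 2, 1, (-3), 4, (-4)]))))))) (.node (.node (.node (.node (.node (.node (.leaf ([])) (.leaf ([(-1), 6, 1, (-4), 5, 4, (-2)]))) (.leaf ([]))) (.node (.node (.leaf ([])) (.leaf ([0, 1]))) (.leaf ([2, (-3), (-3), 0, 0, (-3), (-1)])))) (.node (.node (.node (.leaf ([])) (.leaf ([(-4), (-7), 9, 1, (-12), (-2)]))) (.leaf ([0, 0, 1, (-1), 1]))) (.node (.node (.leaf ([0, (-1), 2, 0, (-2), 0, 1])) (.leaf ([0, (-14), 5, (-3), (-9), (-10), (-3)]))) (.leaf ([]))))) (.node (.node (.node (.node (.leaf ([])) (.leaf ([]))) (.leaf ([]))) (.node (.node (.leaf ([0, (-12), 5, (-4), (-8), (-8), (-3)])) (.leaf ([(-3), (-5), 7, 0, (-7), (-2)]))) (.leaf ([(-2), (-9), 7, (-3), (-8), (-5), (-2)])))) (.node (.node (.node (.leaf ([])) (.leaf ([2, (-8), 8, (-4), (-3), (-7), 4]))) (.leaf ([0, 1]))) (.node (.leaf ([0, 1, 0, 0, 2, 0, 1])) (.leaf ([2, 2, (-6), 3, 2, 1])))))) (.node (.node (.node (.node (.node (.leaf ([0, 1])) (.leaf ([(-3), (-19), 18, 2, (-17), (-11), 8]))) (.leaf ([1, 5, (-6), 3, 5, 3]))) (.node (.node (.leaf ([1, 6, (-8), 3, 7, 3, (-1)])) (.leaf ([(-6), 18, 6, 2, 5, 16, 4]))) (.leaf ([0, 1])))) (.node (.node (.node (.leaf ([0, 0, 0, 0, 1])) (.leaf ([2, (-5), 0, (-1), (-3), (-5)]))) (.leaf ([(-4), (-4), 0, 3, (-10), 1, (-6)]))) (.node (.leaf ([])) (.leaf ([1, 2, (-1), 0, 2, 1, 1]))))) (.node (.node (.node (.node (.leaf ([0, 5, (-2), 0, 5, 3])) (.leaf ([3, 9, 0, (-2), 11, 4, 6]))) (.leaf ([]))) (.node (.node (.leaf ([0, 1, (-1), 1])) (.leaf ([0, 1]))) (.leaf ([(-4), (-9), 12, 1, (-10), (-4), 4])))) (.node (.node (.node (.leaf ([])) (.leaf ([(-5), 6, 6, 0, (-2), 7]))) (.leaf ([0, 1, 0, 0, 2]))) (.node (.leaf ([0, 0, 1])) (.leaf ([(-6), 18, 6, 1, 5, 16, 3])))))))))) (.node (.node (.node (.node (.node (.node (.node (.node (.node (.leaf ([])) (.leaf ([0, 1]))) (.leaf ([(-3), 5, 0, 3, 0, 5]))) (.node (.node (.leaf ([])) (.leaf ([1, (-2), 0, 0, (-2), (-1)]))) (.leaf ([(-1), (-4), 9, 0, (-4), (-2), 6])))) (.node (.node (.node (.leaf ([0, (-1), 1, 0, (-2)])) (.leaf ([0, 3, (-1), 3, 2, 2, 3]))) (.leaf ([]))) (.node (.node (.leaf ([])) (.leaf ([0, 1]))) (.leaf ([(-3), (-12), 10, 0, (-12), (-6), 1]))))) (.node (.node (.node (.node (.leaf ([])) (.leaf ([0, 1, (-2), 1, 1, 1, (-1)]))) (.leaf ([]))) (.node (.node (.leaf ([])) (.leaf ([(-5), (-14), 0, 0, (-16), (-6), (-14)]))) (.leaf ([])))) (.node (.node (.node (.leaf ([])) (.leaf ([(-1), (-3), 2, 7, (-4), (-2), 6]))) (.leaf ([1, 1, (-1), 0, 2]))) (.node (.leaf ([])) (.leaf ([(-2), (-1), 0, 1, (-3), 0, (-3)])))))) (.node (.node (.node (.node (.node (.leaf ([])) (.leaf ([0, (-9), (-1), 1, (-5), (-6), (-3)]))) (.leaf ([0, 1]))) (.node (.node (.leaf ([])) (.leaf ([2, (-2), (-5), (-2), 1, (-4), (-4)]))) (.leaf ([0, (-1), 2, (-2), 1, (-1)])))) (.node (.node (.node (.leaf ([])) (.leaf ([(-1), 8, (-5), 3, 4, 6, (-1)]))) (.leaf ([(-3), 0, (-1), 4, (-4), 2, (-2)]))) (.node (.node (.leaf ([])) (.leaf ([3, (-32), 28, (-12), (-16), (-24), 10]))) (.leaf ([0, 1]))))) (.node (.node (.node (.node (.leaf ([0, 1, 0, 0, 2])) (.leaf ([0, 1]))) (.leaf ([]))) (.node (.node (.leaf ([])) (.leaf ([0, (-6), 9, (-5), (-3), (-4), 2]))) (.leaf ([(-2), 1, 0, 1, 0, 1, (-1)])))) (.node (.node (.node (.leaf ([])) (.leaf ([2, (-2), (-2), 0, 2, (-3), 1]))) (.leaf ([0, 1]))) (.node (.leaf ([])) (.leaf ([]))))))) (.node (.node (.node (.node (.node (.node (.leaf ([])) (.leaf ([]))) (.leaf ([]))) (.node (.node (.leaf ([])) (.leaf ([0, 0, (-1), 0, 0, 0, (-1)]))) (.leaf ([0, 1])))) (.node (.node (.node (.leaf ([])) (.leaf ([(-1), 0, 0, (-1), (-2), 0, (-3)]))) (.leaf ([0, 8, 3, 0, 5, 6, 5]))) (.node (.node (.leaf ([])) (.leaf ([1, (-6), 2, 1, (-6), (-4), 1]))) (.leaf ([(-1), 0, (-1), 1, 0, 0, (-1)]))))) (.node (.node (.node (.node (.leaf ([])) (.leaf ([1, 0, 3, (-3), 0, 0, 1]))) (.leaf ([]))) (.node (.node (.leaf ([(-2), 3, 3, 0, 1, 3, 1])) (.leaf ([(-7), 12, 12, 1, (-2), 12, 5]))) (.leaf ([(-1), (-14), 15, (-6), (-12), (-8), 2])))) (.node (.node (.node (.leaf ([0, (-3), 8, (-4), (-2), (-2), 3])) (.leaf ([2, (-7), 1, (-4), (-2), (-6), (-2)]))) (.leaf ([]))) (.node (.leaf ([(-1), (-19), 3, 0, (-16), (-11), (-6)])) (.leaf ([(-1), (-3), 4, (-1), (-5), (-2)])))))) (.node (.node (.node (.node (.node (.leaf ([])) (.leaf ([]))) (.leaf ([(-2), (-6), 3, 0, (-6), (-3), (-3)]))) (.node (.node (.leaf ([])) (.leaf ([]))) (.leaf ([1, 10, (-11), 0, 7, 6, (-7)])))) (.node (.node (.node (.leaf ([0, (-5), 3, (-1), (-3), (-3)])) (.leaf ([(-1), (-15), 1, 1, (-10), (-10), (-4)]))) (.leaf ([]))) (.node (.leaf ([1, 1, 0, 1, 3, 0, 3])) (.leaf ([0, 0, 1]))))) (.node (.node (.node (.node (.leaf ([])) (.leaf ([0, 0, 0, 1, (-1)]))) (.leaf ([(-1), (-4), 20, (-7), (-3), (-2), 10]))) (.node (.node (.leaf ([])) (.leaf ([0, 4, 3, 0, 3, 2, 4]))) (.leaf ([0, (-5), 7, (-5), (-4), (-4)])))) (.node (.node (.node (.leaf ([])) (.leaf ([(-2), (-28), 9, (-7), (-22), (-18), (-11)]))) (.leaf ([(-1), (-1), 2, 1, (-2), 0, 1]))) (.node (.leaf ([0, 1])) (.leaf ([(-1), (-1), 3, 0, 1, (-1), 2])))))))) (.node (.node (.node (.node (.node (.node (.node (.leaf ([0, (-1), 1, 0, (-2)])) (.leaf ([0, 0, 1, (-1), 1]))) (.leaf ([0, 1]))) (.node (.node (.leaf ([])) (.leaf ([1, 6, (-4), 1, 5, 2, 1]))) (.leaf ([0, 5, (-3), 1, 5, 3])))) (.node (.node (.node (.leaf ([0, 1])) (.leaf ([(-2), 8, (-6), 9, 2, 7, 2]))) (.leaf ([]))) (.node (.node (.leaf ([(-2), (-2), 6, (-2), (-3)])) (.leaf ([0, 24, (-13), 2, 16, 16, (-3)]))) (.leaf ([0, 1]))))) (.node (.node (.node (.node (.leaf ([])) (.leaf ([0, 1]))) (.leaf ([0, 1, (-2), 2, 1, 1]))) (.node (.node (.leaf ([])) (.leaf ([]))) (.leaf ([0, 1, 0, 0, 2])))) (.node (.node (.node (.leaf ([])) (.leaf ([(-2), (-1), 2, 2, (-2), 0, 1]))) (.leaf ([]))) (.node (.leaf ([0, 4, (-2), 1, 2, 2])) (.leaf ([1, 4, (-3), 1, 2, 3])))))) (.node (.node (.node (.node (.node (.leaf ([0, 1])) (.leaf ([]))) (.leaf ([3, (-6), (-2), 0, 0, (-6), 1]))) (.node (.node (.leaf ([])) (.leaf ([0, 0, 1, (-1), 1]))) (.leaf ([])))) (.node (.node (.node (.leaf ([])) (.leaf ([]))) (.leaf ([1, 4, 1, 0, 2, 3, 3]))) (.node (.node (.leaf ([])) (.leaf ([0, (-3), 6, (-2), (-3), (-2), 2]))) (.leaf ([2, 1, (-1), 0, 2, 0, 2]))))) (.node (.node (.node (.node (.leaf ([])) (.leaf ([(-1), (-10), 2, (-2), (-7), (-6), (-5)]))) (.leaf ([0, 1]))) (.node (.node (.leaf ([])) (.leaf ([0, 1]))) (.leaf ([1, (-5), 4, (-3), (-3), (-3)])))) (.node (.node (.node (.leaf ([])) (.leaf ([1, 6, (-10), 5, 5, 3, (-2)]))) (.leaf ([0, 6, 1, 0, 5, 4, 3]))) (.node (.leaf ([(-1), (-5), 4, (-3), (-4), (-3), (-2)])) (.leaf ([0, 6, (-1), 2, 4, 4, 3]))))))) (.node (.node (.node (.node (.node (.node (.leaf ([])) (.leaf ([0, 1]))) (.leaf ([(-3), 2, (-1), 0, (-4), 4, (-6)]))) (.node (.node (.leaf ([0, 1])) (.leaf ([2, 2, (-6), 3, 2, 1]))) (.leaf ([])))) (.node (.node (.node (.leaf ([])) (.leaf ([4, 0, (-8), 1, 5, (-3), (-1)]))) (.leaf ([]))) (.node (.node (.leaf ([1, (-5), 3, 0, (-2), (-4), 3])) (.leaf ([0, 0, (-2), (-1), (-1), (-1), (-3)]))) (.leaf ([0, 3, (-1), 1, 1, 2]))))) (.node (.node (.node (.node (.leaf ([])) (.leaf ([0, 5, 10, (-7), 4, 4, 4]))) (.leaf ([(-6), (-11), 11, 0, (-15), (-3), (-3)]))) (.node (.node (.leaf ([(-1), 8, 2, 1, 3, 7, 3])) (.leaf ([0, 9, (-1), 1, 7, 5, 3]))) (.leaf ([0, 1])))) (.node (.node (.node (.leaf ([])) (.leaf ([0, 1]))) (.leaf ([1, 5, 4, (-3), 3, 3, 3]))) (.node (.leaf ([])) (.leaf ([2, 0, (-7), 0, 2, (-1), (-4)])))))) (.node (.node (.node (.node (.node (.leaf ([])) (.leaf ([0, 5, 3, (-1), 3, 3, 3]))) (.leaf ([0, 1]))) (.node (.node (.leaf ([])) (.leaf ([0, 1]))) (.leaf ([0, (-4), 8, (-5), (-3), (-2), 1])))) (.node (.node (.node (.leaf ([0, 1])) (.leaf ([(-1), 2, (-6), 5, (-2), 3, (-3)]))) (.leaf ([(-3), 2, (-4), 9, (-3), 3]))) (.node (.leaf ([1, 7, (-6), 0, 4, 5, (-3)])) (.leaf ([0, 1]))))) (.node (.node (.node (.node (.leaf ([])) (.leaf ([0, 1, (-1), 1]))) (.leaf ([]))) (.node (.node (.leaf ([])) (.leaf ([5, (-2), 7, (-7), 7, (-5), 8]))) (.leaf ([(-1), (-2), 0, (-3), (-2), (-1), (-5)])))) (.node (.node (.node (.leaf ([])) (.leaf ([]))) (.leaf ([]))) (.node (.leaf ([0, (-2), 2, (-1), (-1), (-2)])) (.leaf ([3, 11, (-8), 3, 10, 6, 3]))))))))) (.node (.node (.node (.node (.node (.node (.node (.node (.leaf ([])) (.leaf ([]))) (.leaf ([]))) (.node (.node (.leaf ([(-1), (-1), 0, 0, (-3), 0, (-3)])) (.leaf ([(-1), 4, (-2), 3, 2, 2, 1]))) (.leaf ([])))) (.node (.node (.node (.leaf ([])) (.leaf ([0, 1]))) (.leaf ([4, (-5), 0, (-2), 3, (-6), 3]))) (.node (.node (.leaf ([])) (.leaf ([0, 0, 2, 1, (-2), 0, 2]))) (.leaf ([(-3), 3, 0, 4, (-2), 4]))))) (.node (.node (.node (.node (.leaf ([])) (.leaf ([0, 1, (-1), 0, 1, 0, (-1)]))) (.leaf ([0, 1]))) (.node (.node (.leaf ([])) (.leaf ([0, 1]))) (.leaf ([])))) (.node (.node (.node (.leaf ([0, 1])) (.leaf ([2, 4, (-8), 2, 7, 1, (-1)]))) (.leaf ([]))) (.node (.leaf ([1, (-5), 1, 0, (-4), (-3)])) (.leaf ([0, 1])))))) (.node (.node (.node (.node (.node (.leaf ([])) (.leaf ([0, 1]))) (.leaf ([]))) (.node (.node (.leaf ([])) (.leaf ([0, (-4), 4, (-3), (-1), (-3)]))) (.leaf ([0, (-8), (-2), 1, (-5), (-5), (-4)])))) (.node (.node (.node (.leaf ([0, 0, 1, 0, 0, 0, 1])) (.leaf ([0, 0, 2, 1, 1, 0, 3]))) (.leaf ([]))) (.node (.node (.leaf ([(-1), (-10), 4, (-6), (-8), (-6), (-7)])) (.leaf ([0, 4, 1, 1, 2, 2, 3]))) (.leaf ([1, 5, (-3), 1, 3, 3]))))) (.node (.node (.node (.node (.leaf ([0, 1])) (.leaf ([3, 33, (-12), 8, 25, 21, 11]))) (.leaf ([]))) (.node (.node (.leaf ([(-2), (-9), 5, (-4), (-9), (-4), (-6)])) (.leaf ([(-1), 6, 23, (-14), 2, 4, 9]))) (.leaf ([])))) (.node (.node (.node (.leaf ([])) (.leaf ([]))) (.leaf ([6, 2, (-10), 0, 8, (-2)]))) (.node (.leaf ([])) (.leaf ([2, (-4), 2, (-1), 2, (-4), 3]))))))) (.node (.node (.node (.node (.node (.node (.leaf ([0, 0, 1])) (.leaf ([0, (-5), 1, 1, (-4), (-4)]))) (.leaf ([]))) (.node (.node (.leaf ([])) (.leaf ([0, 1]))) (.leaf ([(-1), 4, 2, 0, 1, 3, 1])))) (.node (.node (.node (.leaf ([])) (.leaf ([0, 17, (-5), 4, 11, 11, 4]))) (.leaf ([]))) (.node (.node (.leaf ([0, (-1), 0, (-3), (-1), 0, (-4)])) (.leaf ([0, 1, (-1), 1, 1]))) (.leaf ([0, 1]))))) (.node (.node (.node (.node (.leaf ([0, 0, 1, 0, 0, 0, 1])) (.leaf ([0, 1]))) (.leaf ([(-1), (-1), 2, 1, (-2), 0, 1]))) (.node (.node (.leaf ([])) (.leaf ([(-1), (-4), 6, (-2), (-5), (-2)]))) (.leaf ([(-1), (-8), 6, 0, (-7), (-4), 1])))) (.node (.node (.node (.leaf ([0, 0, 1])) (.leaf ([0, (-5), 1, 0, (-4), (-3), (-1)]))) (.leaf ([]))) (.node (.leaf ([(-1), (-4), 5, (-2), (-3), (-2)])) (.leaf ([2, (-7), 15, (-8), (-3), (-5), 7])))))) (.node (.node (.node (.node (.node (.leaf ([0, 1])) (.leaf ([0, (-3), 13, (-6), (-1), (-2), 6]))) (.leaf ([0, (-5), 2, 0, (-3), (-3)]))) (.node (.node (.leaf ([1, 0, (-1), 0, 1])) (.leaf ([0, 1, 0, 0, 2]))) (.leaf ([0, 1])))) (.node (.node (.node (.leaf ([])) (.leaf ([(-1), 0, 1, 2, (-2), 0, 1]))) (.leaf ([2, (-16), 8, (-6), (-7), (-12)]))) (.node (.leaf ([0, 1])) (.leaf ([0, 5, 4, (-3), 4, 3, 3]))))) (.node (.node (.node (.node (.leaf ([])) (.leaf ([(-3), 5, (-6), 3, 0, 5, (-6)]))) (.leaf ([]))) (.node (.node (.leaf ([0, 3, (-2), 1, 3, 2])) (.leaf ([(-2), 4, 0, 2, (-2), 4, (-1)]))) (.leaf ([0, (-5), 0, (-1), (-3), (-3), (-3)])))) (.node (.node (.node (.leaf ([0, 1])) (.leaf ([(-1), (-3), 2, 0, (-4), (-1), (-1)]))) (.leaf ([1, (-7), 1, 0, (-3), (-6)]))) (.node (.leaf ([2, (-2), (-2), 0, 0, (-2)])) (.leaf ([0, 1])))))))) (.node (.node (.node (.node (.node (.node (.node (.leaf ([])) (.leaf ([]))) (.leaf ([]))) (.node (.node (.leaf ([])) (.leaf ([2, 2, (-6), 1, 2, 0, (-2)]))) (.leaf ([(-1), 2, (-2), 1, 1, 2, (-2)])))) (.node (.node (.node (.leaf ([])) (.leaf ([(-2), 6, 2, 0, 2, 5, 1]))) (.leaf ([]))) (.node (.node (.leaf ([])) (.leaf ([0, 1]))) (.leaf ([1, 2, (-3), (-3), 2, 1, (-4)]))))) (.node (.node (.node (.node (.leaf ([])) (.leaf ([0, 2, (-7), 2, 1, 2, (-5)]))) (.leaf ([]))) (.node (.node (.leaf ([(-1), (-1), 2, 1, (-2), 0, 1])) (.leaf ([(-2), 9, 4, 3, 5, 6, 7]))) (.leaf ([0, 1])))) (.node (.node (.node (.leaf ([1, (-4), 7, (-3), (-2), (-3), 4])) (.leaf ([0, 1]))) (.leaf ([]))) (.node (.leaf ([])) (.leaf ([(-1), (-2), (-2), 0, (-2), (-1), (-4)])))))) (.node (.node (.node (.node (.node (.leaf ([])) (.leaf ([(-1), (-5), 4, (-1), (-3), (-3)]))) (.leaf ([0, 1]))) (.node (.node (.leaf ([])) (.leaf ([0, 1]))) (.leaf ([1, 1, (-3), 1, 1, 1, (-1)])))) (.node (.node (.node (.leaf ([0, 4, (-2), 1, 2, 2])) (.leaf ([0, 1, 3, (-1), 1, 0, 2]))) (.leaf ([0, 1, 0, 0, 1]))) (.node (.node (.leaf ([])) (.leaf ([0, 4, (-6), 5, 3, 2]))) (.leaf ([0, 1]))))) (.node (.node (.node (.node (.leaf ([])) (.leaf ([0, 1]))) (.leaf ([(-1), 0, 1, 0, 0, 0, (-1)]))) (.node (.node (.leaf ([])) (.leaf ([(-3), 2, 3, 0, (-2), 3, (-2)]))) (.leaf ([(-2), (-5), 4, (-3), (-5), (-3), (-4)])))) (.node (.node (.node (.leaf ([])) (.leaf ([(-1), (-4), 3, 0, (-5), (-2), (-1)]))) (.leaf ([]))) (.node (.leaf ([])) (.leaf ([2, 12, (-3), 0, 11, 6, 4]))))))) (.node (.node (.node (.node (.node (.node (.leaf ([])) (.leaf ([0, 3, 4, (-1), 1, 2, 3]))) (.leaf ([0, 1, 0, 0, 2]))) (.node (.node (.leaf ([])) (.leaf ([(-3), (-14), (-1), 6, (-14), (-8), (-5)]))) (.leaf ([1, (-3), 1, 0, (-2), (-2), 1])))) (.node (.node (.node (.leaf ([])) (.leaf ([(-3), 4, 6, 0, (-2), 4, 2]))) (.leaf ([(-1), (-10), 11, 0, (-7), (-6), 6]))) (.node (.node (.leaf ([0, 1])) (.leaf ([0, (-6), (-6), 6, (-5), (-4), (-3)]))) (.leaf ([0, 3, (-9), 8, 2, 2]))))) (.node (.node (.node (.node (.leaf ([0, (-1), 1, 0, (-2)])) (.leaf ([(-2), 7, 4, 0, 3, 5, 3]))) (.leaf ([0, 1]))) (.node (.node (.leaf ([])) (.leaf ([(-3), (-8), 1, 1, (-10), (-4), (-6)]))) (.leaf ([])))) (.node (.node (.node (.leaf ([0, 1])) (.leaf ([1, (-12), 9, (-8), (-8), (-8), (-2)]))) (.leaf ([]))) (.node (.leaf ([0, (-2), 1, 0, (-2), (-1)])) (.leaf ([])))))) (.node (.node (.node (.node (.node (.leaf ([])) (.leaf ([0, 1]))) (.leaf ([1, 1, 0, (-1), 4, 0, 1]))) (.node (.node (.leaf ([0, 1])) (.leaf ([(-1), 4, 5, 3, 1, 3, 7]))) (.leaf ([2, 2, (-11), 6, 4, 0, (-1)])))) (.node (.node (.node (.leaf ([1, 0, (-2), 0, 0, 0, (-1)])) (.leaf ([0, 9, (-4), 3, 6, 6, 2]))) (.leaf ([]))) (.node (.leaf ([0, 1, 0, 0, 1])) (.leaf ([4, 9, (-9), 2, 10, 4, 2]))))) (.node (.node (.node (.node (.leaf ([])) (.leaf ([(-2), 15, 1, 3, 6, 12, 5]))) (.leaf ([]))) (.node (.node (.leaf ([0, 4, (-4), 3, 2, 3])) (.leaf ([(-2), 0, 4, 2, (-4), 1, 2]))) (.leaf ([1, 1, (-2), (-1), 2, 0, (-1)])))) (.node (.node (.node (.leaf ([])) (.leaf ([0, 1]))) (.leaf ([(-2), (-21), 33, (-18), (-18), (-12), 4]))) (.node (.leaf ([])) (.leaf ([(-3), 3, 5, 0, 0, 3, 1])))))))))))) (.node (.node (.node (.node (.node (.node (.node (.node (.node (.node (.node (.leaf ([])) (.leaf ([(-2), (-2), 10, (-3), (-3), 0, 3]))) (.leaf ([0, 1]))) (.node (.node (.leaf ([])) (.leaf ([0, 1]))) (.leaf ([])))) (.node (.node (.node (.leaf ([])) (.leaf ([2, 3, (-1), 1, 3, 1, 3]))) (.leaf ([(-1), (-11), 12, (-2), (-7), (-7), 5]))) (.node (.node (.leaf ([1, 5, (-5), 3, 4, 3, 1])) (.leaf ([0, 6, (-5), 1, 5, 3, (-2)]))) (.leaf ([]))))) (.node (.node (.node (.node (.leaf ([])) (.leaf ([(-1), 0, 2, 1, (-2), 0, 1]))) (.leaf ([0, (-3), (-1), 0, (-2), (-2), (-3)]))) (.node (.node (.leaf ([])) (.leaf ([7, (-2), (-9), (-3), 7, (-5), (-2)]))) (.leaf ([3, (-6), 1, (-3), 0, (-6), 1])))) (.node (.node (.node (.leaf ([])) (.leaf ([]))) (.leaf ([]))) (.node (.leaf ([(-1), (-1), 1, 0, (-2), 0, (-1)])) (.leaf ([(-1), (-18), 19, (-13), (-14), (-11), (-2)])))))) (.node (.node (.node (.node (.node (.leaf ([0, 1])) (.leaf ([(-1), 5, 7, (-3), 1, 4, 3]))) (.leaf ([(-2), 1, 3, 0, (-2), 2]))) (.node (.node (.leaf ([(-3), 2, 5, 0, (-2), 3])) (.leaf ([0, (-2), 5, (-1), (-1), (-2), 3]))) (.leaf ([0, 1])))) (.node (.node (.node (.leaf ([])) (.leaf ([]))) (.leaf ([1, 0, (-1), 0, 0, 0, (-1)]))) (.node (.node (.leaf ([(-2), 1, 4, (-1), (-2), 2])) (.leaf ([0, (-9), 5, (-2), (-8), (-6), (-1)]))) (.leaf ([(-3), 3, 1, 3, (-2), 4]))))) (.node (.node (.node (.node (.leaf ([1, 0, (-1)])) (.leaf ([0, (-11), 5, 2, (-7), (-8), 3]))) (.leaf ([]))) (.node (.node (.leaf ([])) (.leaf ([]))) (.leaf ([(-1), (-1), 1, 1, (-4), 0, (-1)])))) (.node (.node (.node (.leaf ([])) (.leaf ([2, (-3), (-3), 1, (-2), (-3), (-1)]))) (.leaf ([]))) (.node (.leaf ([0, (-5), 5, (-3), (-3), (-3)])) (.leaf ([]))))))) (.node (.node (.node (.node (.node (.node (.leaf ([])) (.leaf ([0, 1]))) (.leaf ([]))) (.node (.node (.leaf ([0, 1])) (.leaf ([1, 4, (-1), 2, 3, 2, 3]))) (.leaf ([(-2), (-2), (-1), 3, (-4), 0, (-2)])))) (.node (.node (.node (.leaf ([(-3), (-8), 8, (-3), (-10), (-3), (-3)])) (.leaf ([0, (-1), (-15), 6, 0, (-1), (-9)]))) (.leaf ([(-2), (-3), 6, (-2), (-3), (-1)]))) (.node (.node (.leaf ([0, 0, 0, 0, 1])) (.leaf ([0, 1]))) (.leaf ([(-5), 21, 2, (-1), 8, 17]))))) (.node (.node (.node (.node (.leaf ([0, 1])) (.leaf ([2, 8, (-3), 1, 9, 4, 4]))) (.leaf ([0, 0, 0, 0, 1]))) (.node (.node (.leaf ([(-1), (-4), 8, (-2), (-3), (-2), 3])) (.leaf ([(-1), 14, 0, 1, 11, 9, 5]))) (.leaf ([0, 1])))) (.node (.node (.node (.leaf ([])) (.leaf ([0, 1]))) (.leaf ([(-1), 4, (-2), 3, 2, 3, 1]))) (.node (.leaf ([0, 1])) (.leaf ([(-1), 0, (-3), 6, (-2), 1, 1])))))) (.node (.node (.node (.node (.node (.leaf ([])) (.leaf ([]))) (.leaf ([]))) (.node (.node (.leaf ([])) (.leaf ([]))) (.leaf ([0, 0, 1])))) (.node (.node (.node (.leaf ([])) (.leaf ([1, 25, (-6), 6, 16, 17, 9]))) (.leaf ([2, 11, (-5), (-3), 10, 6, (-1)]))) (.node (.node (.leaf ([1, 11, (-11), 0, 8, 7, (-6)])) (.leaf ([3, (-17), 5, (-10), (-8), (-14), (-6)]))) (.leaf ([]))))) (.node (.node (.node (.node (.leaf ([])) (.leaf ([(-1), 4, (-1), 0, 2, 2, (-1)]))) (.leaf ([1, (-1), (-2), 1, 1, (-1)]))) (.node (.node (.leaf ([])) (.leaf ([(-2), 21, 9, (-1), 10, 16, 10]))) (.leaf ([0, 6, (-2), 0, 4, 4])))) (.node (.node (.node (.leaf ([0, (-4), (-1), 0, (-3), (-3), (-3)])) (.leaf ([1, 1, (-3), 0, 0, 1, (-2)]))) (.leaf ([]))) (.node (.leaf ([])) (.leaf ([0, 1, 0, 1, 1, 1, 1])))))))) (.node (.node (.node (.node (.node (.node (.node (.leaf ([])) (.leaf ([1, 0, (-1)]))) (.leaf ([(-1), 0, 2, 1, (-2), 0, 1]))) (.node (.node (.leaf ([])) (.leaf ([(-1), 0, (-1), 2, (-2), 0, (-1)]))) (.leaf ([0, 1])))) (.node (.node (.node (.leaf ([])) (.leaf ([]))) (.leaf ([0, (-1), 1, 0, (-2)]))) (.node (.node (.leaf ([])) (.leaf ([1, 8, (-2), 3, 6, 4, 5]))) (.leaf ([0, 9, (-1), 0, 6, 6, 2]))))) (.node (.node (.node (.node (.leaf ([0, (-1), 1, 0, (-2)])) (.leaf ([0, (-18), 12, (-6), (-11), (-12)]))) (.leaf ([]))) (.node (.node (.leaf ([0, 0, 0, 0, 1])) (.leaf ([0, (-4), 1, (-1), (-3), (-2), (-2)]))) (.leaf ([1, 0, (-1)])))) (.node (.node (.node (.leaf ([0, 1])) (.leaf ([0, 4, (-7), 6, 3, 3]))) (.leaf ([]))) (.node (.leaf ([0, 1, (-3), 3, 0, 1])) (.leaf ([])))))) (.node (.node (.node (.node (.node (.leaf ([])) (.leaf ([0, 1]))) (.leaf ([(-1), 0, 0, 1, (-2), 0, (-1)]))) (.node (.node (.leaf ([0, 0, (-1), 0, 1, 0, (-1)])) (.leaf ([0, 0, 0, 0, 0, 0, (-1)]))) (.leaf ([(-2), 0, (-2), 1, (-4), 1, (-5)])))) (.node (.node (.node (.leaf ([])) (.leaf ([1, 4, 1, (-7), 4, 2, (-3)]))) (.leaf ([0, 1]))) (.node (.node (.leaf ([])) (.leaf ([3, 13, 4, (-7), 12, 6, 6]))) (.leaf ([(-1), 5, 0, 1, 0, 4]))))) (.node (.node (.node (.node (.leaf ([0, 0, 1, (-1)])) (.leaf ([1, 2, 3, 0, 1, 1, 4]))) (.leaf ([(-2), 8, (-1), 0, 5, 6, (-1)]))) (.node (.node (.leaf ([])) (.leaf ([(-1), 1, 5, 0, 1, 0, 4]))) (.leaf ([0, 1])))) (.node (.node (.node (.leaf ([0, 1, 0, 0, 1])) (.leaf ([1, 2, (-5), 2, 2, 0, (-1)]))) (.leaf ([]))) (.node (.leaf ([0, 1, 1, 0, (-1), 0, 1])) (.leaf ([2, 10, (-7), 4, 11, 5, 4]))))))) (.node (.node (.node (.node (.node (.node (.leaf ([1, 0, (-1)])) (.leaf ([(-1), (-1), 2, 0, (-2)]))) (.leaf ([]))) (.node (.node (.leaf ([])) (.leaf ([0, 1]))) (.leaf ([0, 0, 1])))) (.node (.node (.node (.leaf ([])) (.leaf ([(-2), (-4), 10, (-1), (-5), (-2), 4]))) (.leaf ([0, 6, (-1), (-1), 5, 4]))) (.node (.node (.leaf ([3, 4, (-6), 0, 6, 1])) (.leaf ([(-3), 9, (-7), 9, 3, 7]))) (.leaf ([(-1), 4, (-1), 2, 1, 2, 1]))))) (.node (.node (.node (.node (.leaf ([])) (.leaf ([0, 1]))) (.leaf ([(-4), 2, 2, 1, (-3), 4, (-3)]))) (.node (.node (.leaf ([0, 1])) (.leaf ([3, (-2), (-2), 0, 3, (-3), 2]))) (.leaf ([2, (-7), 1, 0, (-3), (-6), 1])))) (.node (.node (.node (.leaf ([1, 0, (-1)])) (.leaf ([0, 1, (-2), 0, 1, 0, (-2)]))) (.leaf ([0, 1]))) (.node (.leaf ([])) (.leaf ([2, (-6), 3, (-4), (-2), (-5)])))))) (.node (.node (.node (.node (.node (.leaf ([])) (.leaf ([8, (-14), (-12), 0, 3, (-15), (-3)]))) (.leaf ([1, 2, (-2), 0, 4]))) (.node (.node (.leaf ([])) (.leaf ([(-5), 6, (-12), 8, (-1), 6, (-10)]))) (.leaf ([0, 1])))) (.node (.node (.node (.leaf ([])) (.leaf ([0, 1]))) (.leaf ([2, (-4), (-6), 3, (-2), (-3), (-2)]))) (.node (.leaf ([])) (.leaf ([(-2), 7, (-1), 3, 2, 6, 1]))))) (.node (.node (.node (.node (.leaf ([0, 0, 1])) (.leaf ([0, 1, (-1), 0, 2, 0, (-1)]))) (.leaf ([]))) (.node (.node (.leaf ([])) (.leaf ([0, 1]))) (.leaf ([(-1), (-1), 3, 0, (-2), 0, 1])))) (.node (.node (.node (.leaf ([])) (.leaf ([0, 6, (-20), 11, 4, 4, (-7)]))) (.leaf ([]))) (.node (.leaf ([0, 2, (-1), 0, 2, 1])) (.leaf ([]))))))))) (.node (.node (.node (.node (.node (.node (.node (.node (.leaf ([])) (.leaf ([0, 1]))) (.leaf ([0, 5, (-3), 2, 3, 3]))) (.node (.node (.leaf ([0, 1])) (.leaf ([(-2), (-1), 2, 1, (-4), 0, (-1)]))) (.leaf ([0, (-9), 4, 0, (-6), (-6), 1])))) (.node (.node (.node (.leaf ([])) (.leaf ([0, 6, (-3), 7, 4, 4, 6]))) (.leaf ([]))) (.node (.node (.leaf ([])) (.leaf ([0, 1]))) (.leaf ([4, (-5), (-9), 0, 2, (-6), (-4)]))))) (.node (.node (.node (.node (.leaf ([])) (.leaf ([(-1), 4, (-7), 5, 2, 4, (-3)]))) (.leaf ([]))) (.node (.node (.leaf ([])) (.leaf ([(-2), (-2), 13, (-6), (-4), 0, 2]))) (.leaf ([0, 1])))) (.node (.node (.node (.leaf ([])) (.leaf ([0, 1]))) (.leaf ([(-2), 9, 3, 0, 5, 7, 3]))) (.node (.leaf ([])) (.leaf ([(-1), 3, 0, 0, (-1), 3, (-2)])))))) (.node (.node (.node (.node (.node (.leaf ([])) (.leaf ([(-5), 2, 4, 1, (-3), 4, (-2)]))) (.leaf ([0, 0, 1, (-1)]))) (.node (.node (.leaf ([])) (.leaf ([0, 1]))) (.leaf ([])))) (.node (.node (.node (.leaf ([0, 1])) (.leaf ([3, (-14), (-6), (-3), (-6), (-11), (-9)]))) (.leaf ([(-2), 7, 0, 1, 3, 6]))) (.node (.node (.leaf ([])) (.leaf ([(-3), (-11), 2, 3, (-10), (-6), (-4)]))) (.leaf ([4, 1, (-5), (-1), 5, (-3), 1]))))) (.node (.node (.node (.node (.leaf ([])) (.leaf ([0, 1]))) (.leaf ([1, 0, 0, 0, 0, 0, 1]))) (.node (.node (.leaf ([0, 1])) (.leaf ([0, (-7), 6, 0, (-4), (-5), 3]))) (.leaf ([1, (-16), (-1), 3, (-8), (-12), (-1)])))) (.node (.node (.node (.leaf ([])) (.leaf ([0, (-3), 1, 0, (-2), (-2)]))) (.leaf ([]))) (.node (.leaf ([])) (.leaf ([]))))))) (.node (.node (.node (.node (.node (.node (.leaf ([])) (.leaf ([3, 4, 0, (-6), 7, 1]))) (.leaf ([]))) (.node (.node (.leaf ([0, (-1), 1, 0, (-2)])) (.leaf ([]))) (.leaf ([0, 1])))) (.node (.node (.node (.leaf ([])) (.leaf ([0, 1]))) (.leaf ([3, 4, 9, (-3), 6, 1, 12]))) (.node (.node (.leaf ([])) (.leaf ([1, 1, 6, (-7), 2, (-1), 1]))) (.leaf ([0, (-1), 4, (-2), 1, (-1), 2]))))) (.node (.node (.node (.node (.leaf ([1, (-4), 0, 0, (-2), (-3)])) (.leaf ([1, 1, (-2), 0, 2, 0, (-1)]))) (.leaf ([]))) (.node (.node (.leaf ([0, 4, (-7), 3, 3, 3, (-3)])) (.leaf ([0, 1]))) (.leaf ([])))) (.node (.node (.node (.leaf ([1, 1, 0, (-1), 2, 0, 1])) (.leaf ([0, 3, (-5), 4, 3, 2]))) (.leaf ([2, 8, (-3), (-2), 9, 4, 1]))) (.node (.leaf ([5, (-10), 2, (-3), (-2), (-9), 3])) (.leaf ([])))))) (.node (.node (.node (.node (.node (.leaf ([])) (.leaf ([0, 1]))) (.leaf ([1, 6, (-2), 0, 7, 3, 2]))) (.node (.node (.leaf ([0, 1])) (.leaf ([0, 7, (-2), 2, 5, 4, 2]))) (.leaf ([(-1), 2, 4, 0, (-2), 3, 2])))) (.node (.node (.node (.leaf ([0, (-1), 1, 0, (-2)])) (.leaf ([0, 1, 0, 0, 1]))) (.leaf ([]))) (.node (.leaf ([5, (-10), 6, (-6), (-1), (-9), 4])) (.leaf ([(-2), (-12), 3, 6, (-12), (-6), 1]))))) (.node (.node (.node (.node (.leaf ([0, 1])) (.leaf ([2, (-5), (-10), 9, (-1), (-4)]))) (.leaf ([0, (-6), (-2), 1, (-3), (-4), (-3)]))) (.node (.node (.leaf ([0, 5, (-1), 3, 3, 3, 3])) (.leaf ([(-3), 1, 10, (-6), (-3), 2, (-1)]))) (.leaf ([])))) (.node (.node (.node (.leaf ([])) (.leaf ([2, 4, (-12), 5, 3, 1, (-3)]))) (.leaf ([1, (-6), 6, (-6), (-3), (-4), (-1)]))) (.node (.leaf ([])) (.leaf ([(-1), 15, (-13), 11, 11, 10, 2])))))))) (.node (.node (.node (.node (.node (.node (.node (.leaf ([1, 0, (-1)])) (.leaf ([(-2), (-7), (-1), 0, (-7), (-3), (-7)]))) (.leaf ([0, 1]))) (.node (.node (.leaf ([])) (.leaf ([0, 1]))) (.leaf ([0, (-4), 3, (-1), (-2), (-2)])))) (.node (.node (.node (.leaf ([])) (.leaf ([1, 8, (-13), 4, 9, 4, (-4)]))) (.leaf ([0, 0, 0, 0, 1]))) (.node (.node (.leaf ([0, (-1), 1, 0, (-2)])) (.leaf ([0, 6, (-16), 9, 5, 4, (-5)]))) (.leaf ([]))))) (.node (.node (.node (.node (.leaf ([0, 1, 0, 0, 2])) (.leaf ([]))) (.leaf ([2, 2, (-3), 2, 5, 0, 3]))) (.node (.node (.leaf ([])) (.leaf ([(-3), (-8), 6, 2, (-9), (-4)]))) (.leaf ([0, (-2), 1, 0, (-1), (-1)])))) (.node (.node (.node (.leaf ([])) (.leaf ([3, 4, (-3), 0, 8, 0, 3]))) (.leaf ([]))) (.node (.leaf ([(-3), 16, (-12), 9, 8, 12, (-3)])) (.leaf ([3, 2, (-5), (-2), 4, 0, (-2)])))))) (.node (.node (.node (.node (.node (.leaf ([])) (.leaf ([]))) (.leaf ([1, 5, (-6), 3, 4, 3]))) (.node (.node (.leaf ([(-1), (-2), 3, 0, (-3)])) (.leaf ([2, (-3), 0, 0, 0, (-3), 1]))) (.leaf ([0, 1])))) (.node (.node (.node (.leaf ([])) (.leaf ([0, 1]))) (.leaf ([1, 7, (-3), 0, 4, 5]))) (.node (.node (.leaf ([])) (.leaf ([2, 8, (-5), (-1), 7, 5, (-1)]))) (.leaf ([0, 0, 0, (-1), 0, 0, (-1)]))))) (.node (.node (.node (.node (.leaf ([])) (.leaf ([(-3), 2, (-3), 5, (-3), 3, (-3)]))) (.leaf ([0, 1]))) (.node (.node (.leaf ([])) (.leaf ([0, 1]))) (.leaf ([(-1), 1, 0, (-1), (-2), 2, (-3)])))) (.node (.node (.node (.leaf ([])) (.leaf ([1, 4, (-3), 1, 2, 2]))) (.leaf ([3, (-3), (-1), 0, 3, (-4), 3]))) (.node (.leaf ([4, 16, (-6), 3, 16, 8, 9])) (.leaf ([0, 1]))))))) (.node (.node (.node (.node (.node (.node (.leaf ([])) (.leaf ([0, 1]))) (.leaf ([0, (-1), 2, 0, (-2), 0, 1]))) (.node (.node (.leaf ([])) (.leaf ([2, 3, (-3), 1, 4, 0, 2]))) (.leaf ([])))) (.node (.node (.node (.leaf ([(-1), 7, 0, 0, 3, 6])) (.leaf ([]))) (.leaf ([0, 1]))) (.node (.node (.leaf ([])) (.leaf ([0, (-2), 2, 2, (-3), (-2), 3]))) (.leaf ([1, 4, 0, 1, 2, 2, 3]))))) (.node (.node (.node (.node (.leaf ([])) (.leaf ([3, (-8), 7, (-4), (-1), (-7), 5]))) (.leaf ([(-2), 7, (-5), 3, 3, 6, (-3)]))) (.node (.node (.leaf ([])) (.leaf ([0, (-2), 1, (-3), (-1), (-2), (-3)]))) (.leaf ([0, 1])))) (.node (.node (.node (.leaf ([])) (.leaf ([0, 1]))) (.leaf ([(-1), 13, (-2), 6, 6, 10, 6]))) (.node (.leaf ([0, 1])) (.leaf ([1, 5, (-8), 3, 4, 3, (-2)])))))) (.node (.node (.node (.node (.node (.leaf ([])) (.leaf ([(-2), (-6), 5, 1, (-5), (-3), 1]))) (.leaf ([]))) (.node (.node (.leaf ([])) (.leaf ([0, 12, (-3), 0, 8, 8, 1]))) (.leaf ([])))) (.node (.node (.node (.leaf ([0, 1])) (.leaf ([(-4), 5, 0, 3, (-4), 7, (-3)]))) (.leaf ([2, (-10), 10, (-5), (-3), (-8), 5]))) (.node (.leaf ([])) (.leaf ([0, 1, (-1), 1]))))) (.node (.node (.node (.node (.leaf ([0, 0, 0, 0, 1])) (.leaf ([1, 1, (-1), 2, 2, (-1), 3]))) (.leaf ([3, (-2), 2, (-3), 3, (-3), 3]))) (.node (.node (.leaf ([])) (.leaf ([(-4), 5, 8, 2, (-1), 5, 5]))) (.leaf ([(-3), (-6), 6, (-2), (-7), (-2), (-3)])))) (.node (.node (.node (.leaf ([0, 4, (-4), 3, 2, 3])) (.leaf ([(-1), 1, 1, 1, 0, 0, 1]))) (.leaf ([0, 1]))) (.node (.leaf ([])) (.leaf ([3, 8, (-8), 3, 11, 3, 3])))))))))) (.node (.node (.node (.node (.node (.node (.node (.node (.node (.leaf ([])) (.leaf ([(-3), (-1), 6, 0, (-4), 1]))) (.leaf ([(-3), 3, 1, 3, (-2), 4]))) (.node (.node (.leaf ([])) (.leaf ([1, (-6), (-5), 2, (-3), (-5), (-4)]))) (.leaf ([0, 1])))) (.node (.node (.node (.leaf ([])) (.leaf ([0, 6, (-3), 7, 4, 4, 6]))) (.leaf ([(-1), (-5), 5, 0, (-5), (-3), 1]))) (.node (.node (.leaf ([0, 1])) (.leaf ([3, 9, 0, (-2), 9, 4, 5]))) (.leaf ([(-3), (-11), 9, (-3), (-10), (-6), (-3)]))))) (.node (.node (.node (.node (.leaf ([])) (.leaf ([0, 0, (-2), 1, 0, 0, (-1)]))) (.leaf ([]))) (.node (.node (.leaf ([])) (.leaf ([0, 3, (-2), (-2), 3, 2, (-3)]))) (.leaf ([2, (-3), 0, 0, 1, (-3), 2])))) (.node (.node (.node (.leaf ([])) (.leaf ([2, (-6), (-3), (-1), (-1), (-5), (-3)]))) (.leaf ([(-2), 3, (-2), 0, 0, 3, (-4)]))) (.node (.leaf ([3, (-2), (-5), 0, 2, (-3), (-1)])) (.leaf ([])))))) (.node (.node (.node (.node (.node (.leaf ([])) (.leaf ([0, 1]))) (.leaf ([]))) (.node (.node (.leaf ([])) (.leaf ([2, (-6), (-1), (-2), (-2), (-6), (-2)]))) (.leaf ([0, 3, (-8), 4, 3, 2, (-3)])))) (.node (.node (.node (.leaf ([1, 4, 1, 0, 3, 3, 3])) (.leaf ([0, 1, 1, 3, 1, 0, 4]))) (.leaf ([]))) (.node (.node (.leaf ([1, 10, (-3), 3, 8, 6, 5])) (.leaf ([4, (-13), 2, (-4), (-7), (-11), (-1)]))) (.leaf ([3, (-5), (-11), 5, 0, (-5), (-3)]))))) (.node (.node (.node (.node (.leaf ([0, 1])) (.leaf ([(-1), 13, 3, (-6), 6, 10, (-1)]))) (.leaf ([0, 1, 0, 0, 2]))) (.node (.node (.leaf ([])) (.leaf ([1, (-12), 14, (-9), (-6), (-9), 2]))) (.leaf ([0, 1])))) (.node (.node (.node (.leaf ([])) (.leaf ([0, 1]))) (.leaf ([]))) (.node (.leaf ([])) (.leaf ([]))))))) (.node (.node (.node (.node (.node (.node (.leaf ([])) (.leaf ([0, 0, 1, 0, 0, 0, 1]))) (.leaf ([0, 1]))) (.node (.node (.leaf ([])) (.leaf ([8, 24, (-14), (-2), 25, 10, 5]))) (.leaf ([(-1), 13, (-7), 4, 6, 10, (-1)])))) (.node (.node (.node (.leaf ([])) (.leaf ([(-4), 0, (-5), 6, (-5), 2, (-6)]))) (.leaf ([0, 0, (-1), 0, 0, 0, (-1)]))) (.node (.node (.leaf ([0, (-1), 0, 0, (-2), 0, (-1)])) (.leaf ([1, (-7), 1, (-1), (-5), (-5), (-2)]))) (.leaf ([0, 0, 1, (-1), (-1), (-1)]))))) (.node (.node (.node (.node (.leaf ([0, (-5), (-4), 3, (-3), (-3), (-3)])) (.leaf ([]))) (.leaf ([2, (-2), (-6), 0, 3, (-3), (-3)]))) (.node (.node (.leaf ([0, 1])) (.leaf ([(-8), 12, 9, 6, (-2), 13, 5]))) (.leaf ([])))) (.node (.node (.node (.leaf ([])) (.leaf ([2, (-9), 9, (-9), (-2), (-8), 1]))) (.leaf ([0, 1]))) (.node (.leaf ([0, 15, (-8), 2, 10, 10, (-1)])) (.leaf ([1, (-11), (-3), 0, (-8), (-7), (-6)])))))) (.node (.node (.node (.node (.node (.leaf ([0, 1])) (.leaf ([]))) (.leaf ([(-1), 0, 2]))) (.node (.node (.leaf ([1, (-5), (-2), (-3), (-3), (-3), (-6)])) (.leaf ([0, (-3), (-2), 0, (-1), (-2), (-3)]))) (.leaf ([])))) (.node (.node (.node (.leaf ([])) (.leaf ([]))) (.leaf ([3, 4, (-3), 0, 6, 1, 3]))) (.node (.leaf ([])) (.leaf ([(-3), (-12), 2, 6, (-12), (-6), (-1)]))))) (.node (.node (.node (.node (.leaf ([0, (-1), 1, 0, (-2)])) (.leaf ([]))) (.leaf ([]))) (.node (.node (.leaf ([1, 1, 0, (-1), 2, 0, 1])) (.leaf ([0, 1]))) (.leaf ([0, (-4), (-2), 0, (-2), (-3), (-3)])))) (.node (.node (.node (.leaf ([])) (.leaf ([2, (-6), 0, (-1), (-3), (-5), (-1)]))) (.leaf ([]))) (.node (.leaf ([0, (-4), 2, 0, (-4), (-2)])) (.leaf ([])))))))) (.node (.node (.node (.node (.node (.node (.node (.leaf ([])) (.leaf ([0, 1]))) (.leaf ([]))) (.node (.node (.leaf ([])) (.leaf ([(-1), 3, (-1), 1, 1, 2, (-1)]))) (.leaf ([0, 3, (-2), 1, 3, 2])))) (.node (.node (.node (.leaf ([])) (.leaf ([1, 15, (-6), 7, 13, 9, 8]))) (.leaf ([]))) (.node (.node (.leaf ([0, (-5), 4, (-2), (-3), (-3)])) (.leaf ([3, 9, (-9), 1, 11, 4]))) (.leaf ([0, 1, (-3), 0, 0, 1, (-3)]))))) (.node (.node (.node (.node (.leaf ([])) (.leaf ([6, (-10), (-3), (-2), 1, (-10), 1]))) (.leaf ([]))) (.node (.node (.leaf ([1, 0, (-2), 0, 0, 0, (-1)])) (.leaf ([0, 0, 1, (-1), 1, (-1)]))) (.leaf ([0, 1])))) (.node (.node (.node (.leaf ([0, 4, (-1), 0, 3, 3])) (.leaf ([]))) (.leaf ([2, (-6), 4, (-2), (-1), (-5), 3]))) (.node (.leaf ([])) (.leaf ([1, 14, (-7), 0, 10, 9, (-1)])))))) (.node (.node (.node (.node (.node (.leaf ([])) (.leaf ([0, (-3), 1, (-3), (-1), (-2), (-3)]))) (.leaf ([]))) (.node (.node (.leaf ([0, 1, 1, 0, 2, 0, 1])) (.leaf ([(-2), (-3), 5, 1, (-5), 0, 1]))) (.leaf ([0, (-5), 5, (-3), (-4), (-3), (-1)])))) (.node (.node (.node (.leaf ([0, 0, 1, (-1)])) (.leaf ([2, 1, (-2), (-1), 2, 0, (-1)]))) (.leaf ([3, 3, (-2), (-6), 6, 0, (-2)]))) (.node (.node (.leaf ([(-2), 4, 0, 0, (-2), 5, (-3)])) (.leaf ([3, (-21), 8, (-4), (-9), (-16), 2]))) (.leaf ([]))))) (.node (.node (.node (.node (.leaf ([])) (.leaf ([0, 1]))) (.leaf ([(-7), 12, 9, 0, (-1), 12, 1]))) (.node (.node (.leaf ([])) (.leaf ([(-3), (-1), 23, (-3), (-5), 1, 14]))) (.leaf ([(-11), 7, 18, (-3), (-9), 12, (-1)])))) (.node (.node (.node (.leaf ([])) (.leaf ([0, (-2), (-12), 8, (-1), (-2), (-5)]))) (.leaf ([]))) (.node (.leaf ([(-3), (-11), 9, (-3), (-10), (-6), (-3)])) (.leaf ([]))))))) (.node (.node (.node (.node (.node (.node (.leaf ([0, 1])) (.leaf ([(-6), 0, 0, 9, (-7), 4, (-1)]))) (.leaf ([]))) (.node (.node (.leaf ([0, 5, 0, 1, 5, 3, 3])) (.leaf ([(-1), (-10), 12, (-2), (-10), (-5), 4]))) (.leaf ([0, 1])))) (.node (.node (.node (.leaf ([0, 0, 1, 0, 0, 0, 1])) (.leaf ([1, 3, (-4), 2, 2, 1]))) (.leaf ([1, 0, (-1)]))) (.node (.node (.leaf ([])) (.leaf ([(-1), (-1), 3, (-3), (-1), (-1), (-2)]))) (.leaf ([]))))) (.node (.node (.node (.node (.leaf ([])) (.leaf ([(-3), (-3), 7, 0, (-6), 0, 1]))) (.leaf ([(-3), 5, 3, 1, 1, 5, 1]))) (.node (.node (.leaf ([])) (.leaf ([]))) (.leaf ([])))) (.node (.node (.node (.leaf ([0, 1])) (.leaf ([(-2), 3, 3, 2, (-2), 4, 1]))) (.leaf ([]))) (.node (.leaf ([1, 1, (-1), 0, 2])) (.leaf ([6, 8, (-15), 2, 11, 1, (-1)])))))) (.node (.node (.node (.node (.node (.leaf ([])) (.leaf ([0, 1]))) (.leaf ([6, (-8), 0, (-3), 3, (-9), 4]))) (.node (.node (.leaf ([0, (-5), (-2), 1, (-4), (-4), (-3)])) (.leaf ([0, 2, 27, (-10), 1, 1, 17]))) (.leaf ([(-1), (-4), 9, (-3), (-4), (-2), 3])))) (.node (.node (.node (.leaf ([])) (.leaf ([2, 0, (-7), 6, 3, (-1), 2]))) (.leaf ([0, 1]))) (.node (.leaf ([0, (-15), 9, (-2), (-10), (-10), 2])) (.leaf ([(-1), (-1), 0, 0, (-4), 1, (-3)]))))) (.node (.node (.node (.node (.leaf ([])) (.leaf ([0, (-2), 3, (-2), (-1), (-1)]))) (.leaf ([0, 1, (-1), 1]))) (.node (.node (.leaf ([0, 2, (-1), 1, 1, 2])) (.leaf ([4, (-1), 3, (-5), 7, (-5), 5]))) (.leaf ([0, 1, (-1), 1])))) (.node (.node (.node (.leaf ([0, 1, (-1), 1])) (.leaf ([0, 1]))) (.leaf ([0, (-1), 2, 0, (-2), 0, 1]))) (.node (.leaf ([])) (.leaf ([0, 3, (-3), 4, 3, 2, 2]))))))))) (.node (.node (.node (.node (.node (.node (.node (.node (.leaf ([])) (.leaf ([0, 6, (-1), (-1), 5, 4]))) (.leaf ([]))) (.node (.node (.leaf ([])) (.leaf ([0, 1]))) (.leaf ([(-1), 4, 1, 3, 0, 4, 3])))) (.node (.node (.node (.leaf ([])) (.leaf ([(-2), (-7), 2, (-4), (-7), (-3), (-8)]))) (.leaf ([0, 4, 1, 1, 3, 3, 3]))) (.node (.node (.leaf ([])) (.leaf ([1, 0, (-3), 4, 0, (-1), 2]))) (.leaf ([0, 1]))))) (.node (.node (.node (.node (.leaf ([])) (.leaf ([0, 1]))) (.leaf ([0, 4, 0, (-1), 3, 3]))) (.node (.node (.leaf ([0, 1])) (.leaf ([2, (-1), 0, (-1), 1, (-1), 1]))) (.leaf ([0, 0, 1, (-1), 1, (-1)])))) (.node (.node (.node (.leaf ([])) (.leaf ([(-1), 1, 1, 2, 1, 1, 2]))) (.leaf ([]))) (.node (.leaf ([(-2), 7, 0, 3, 2, 6, 2])) (.leaf ([(-6), 4, 9, 3, (-6), 7, 3])))))) (.node (.node (.node (.node (.node (.leaf ([])) (.leaf ([0, (-4), 0, 2, (-3), (-3)]))) (.leaf ([0, (-4), 3, (-1), (-3), (-3)]))) (.node (.node (.leaf ([4, (-5), 1, (-3), 3, (-6), 3])) (.leaf ([1, (-1), (-4), 0, 4, (-3), (-2)]))) (.leaf ([])))) (.node (.node (.node (.leaf ([])) (.leaf ([0, 1]))) (.leaf ([2, 0, 0, (-1), 2, 0, 1]))) (.node (.node (.leaf ([(-1), 0, 2, (-1), (-2), 1, (-1)])) (.leaf ([0, 8, (-11), 6, 6, 5, (-3)]))) (.leaf ([]))))) (.node (.node (.node (.node (.leaf ([])) (.leaf ([(-1), 26, (-5), 6, 15, 18, 7]))) (.leaf ([0, 1]))) (.node (.node (.leaf ([])) (.leaf ([(-1), 0, 1, 2, (-2), 0, 1]))) (.leaf ([0, (-3), 3, (-1), (-2), (-2), 1])))) (.node (.node (.node (.leaf ([])) (.leaf ([3, 2, (-2), (-2), 5, 0, 1]))) (.leaf ([(-1), (-2), 3, (-2), (-1), (-1), (-1)]))) (.node (.leaf ([0, 0, 1, 0, (-1)])) (.leaf ([0, 1]))))))) (.node (.node (.node (.node (.node (.node (.leaf ([])) (.leaf ([]))) (.leaf ([]))) (.node (.node (.leaf ([0, 1])) (.leaf ([3, 6, (-12), (-2), 7, 2, (-8)]))) (.leaf ([0, (-8), 7, (-3), (-5), (-6), 1])))) (.node (.node (.node (.leaf ([(-2), (-2), 7, (-3), (-3)])) (.leaf ([3, 7, (-7), 1, 9, 2, 1]))) (.leaf ([0, 1]))) (.node (.node (.leaf ([0, 0, (-1), 0, 0, 0, (-1)])) (.leaf ([]))) (.leaf ([(-2), 8, 5, (-4), 2, 7]))))) (.node (.node (.node (.node (.leaf ([0, 1])) (.leaf ([2, (-1), 0, (-1), 1, (-1), 1]))) (.leaf ([]))) (.node (.node (.leaf ([])) (.leaf ([(-1), (-21), (-2), 1, (-15), (-14), (-10)]))) (.leaf ([0, 1])))) (.node (.node (.node (.leaf ([])) (.leaf ([0, 1]))) (.leaf ([(-3), 7, 2, 3, 1, 6, 2]))) (.node (.leaf ([])) (.leaf ([2, 1, 15, (-2), 2, 0, 16])))))) (.node (.node (.node (.node (.node (.leaf ([])) (.leaf ([0, 1, 0, 0, 2]))) (.leaf ([]))) (.node (.node (.leaf ([1, 6, (-11), 3, 7, 3, (-4)])) (.leaf ([0, 1]))) (.leaf ([2, (-22), 2, 0, (-14), (-15), (-3)])))) (.node (.node (.node (.leaf ([0, 1])) (.leaf ([(-2), (-7), 3, 3, (-8), (-3)]))) (.leaf ([0, 1, 0, 0, 2]))) (.node (.leaf ([])) (.leaf ([0, 1]))))) (.node (.node (.node (.node (.leaf ([])) (.leaf ([]))) (.leaf ([(-1), 1, 2, (-1), 1, 1]))) (.node (.node (.leaf ([])) (.leaf ([(-2), (-4), 8, 0, (-7), (-1), 2]))) (.leaf ([(-3), 5, 0, 3, 0, 5])))) (.node (.node (.node (.leaf ([])) (.leaf ([3, 16, (-14), 7, 14, 8, 3]))) (.leaf ([]))) (.node (.leaf ([])) (.leaf ([1, 4, (-6), 2, 5, 2, (-1)])))))))) (.node (.node (.node (.node (.node (.node (.node (.leaf ([0, 1])) (.leaf ([2, 1, (-1), 0, 2, 0, 1]))) (.leaf ([0, 6, (-5), 3, 5, 3]))) (.node (.node (.leaf ([1, 0, (-1)])) (.leaf ([(-4), 10, (-5), 4, 1, 9, (-5)]))) (.leaf ([0, 1])))) (.node (.node (.node (.leaf ([])) (.leaf ([1, 10, (-24), 11, 8, 6, (-8)]))) (.leaf ([0, 0, 0, 0, 0, 0, (-1)]))) (.node (.node (.leaf ([])) (.leaf ([0, 0, 0, 1, (-1)]))) (.leaf ([2, 1, 1, 0, 4, (-1), 5]))))) (.node (.node (.node (.node (.leaf ([1, (-4), 0, 0, (-2), (-3)])) (.leaf ([(-1), 3, 6, (-4), 1, 3, 1]))) (.leaf ([0, 1]))) (.node (.node (.leaf ([])) (.leaf ([0, 1]))) (.leaf ([0, (-4), 2, 0, (-3), (-2)])))) (.node (.node (.node (.leaf ([0, 1])) (.leaf ([(-6), 9, 3, 5, (-2), 10, 1]))) (.leaf ([]))) (.node (.leaf ([2, 5, (-6), 3, 4, 3, 1])) (.leaf ([0, 0, 1, (-1), (-1), (-1)])))))) (.node (.node (.node (.node (.node (.leaf ([])) (.leaf ([]))) (.leaf ([1, 4, (-4), 2, 3, 2]))) (.node (.node (.leaf ([])) (.leaf ([2, 11, (-7), 6, 9, 6, 5]))) (.leaf ([(-2), (-8), 0, 0, (-8), (-4), (-6)])))) (.node (.node (.node (.leaf ([])) (.leaf ([1, (-2), (-1), (-1), 1, (-3), (-1)]))) (.leaf ([]))) (.node (.node (.leaf ([])) (.leaf ([0, 1]))) (.leaf ([0, 1, 0, 0, 0, 1]))))) (.node (.node (.node (.node (.leaf ([])) (.leaf ([2, (-8), 0, (-2), (-1), (-7), (-1)]))) (.leaf ([(-5), (-8), 18, (-6), (-9), (-3), 2]))) (.node (.node (.leaf ([])) (.leaf ([0, 10, (-5), 3, 7, 6, 1]))) (.leaf ([0, (-3), 3, (-2), (-2), (-2)])))) (.node (.node (.node (.leaf ([1, 1, 0, (-1), 2, 0, 1])) (.leaf ([0, 1]))) (.leaf ([]))) (.node (.leaf ([0, 1])) (.leaf ([0, (-8), 1, 0, (-4), (-6), (-2)]))))))) (.node (.node (.node (.node (.node (.node (.leaf ([])) (.leaf ([]))) (.leaf ([0, 1]))) (.node (.node (.leaf ([])) (.leaf ([0, 1]))) (.leaf ([3, (-7), 1, (-3), (-2), (-6)])))) (.node (.node (.node (.leaf ([])) (.leaf ([(-3), 10, (-2), 3, 3, 9, (-1)]))) (.leaf ([0, 0, 1, 0, 1, 0, 1]))) (.node (.node (.leaf ([])) (.leaf ([(-3), 15, (-7), 4, 6, 12, (-3)]))) (.leaf ([0, 1]))))) (.node (.node (.node (.node (.leaf ([])) (.leaf ([0, 1]))) (.leaf ([3, (-1), (-1), 0, 2, (-2), 3]))) (.node (.node (.leaf ([1, 1, 0, (-1), 2, 0, 1])) (.leaf ([(-3), (-4), 7, 0, (-6), (-1)]))) (.leaf ([0, 5, (-9), 5, 3, 3, (-3)])))) (.node (.node (.node (.leaf ([])) (.leaf ([(-2), (-12), 11, (-8), (-12), (-7), (-5)]))) (.leaf ([0, 1]))) (.node (.leaf ([])) (.leaf ([1, 3, (-2), 1, 2, 1, 1])))))) (.node (.node (.node (.node (.node (.leaf ([])) (.leaf ([7, (-26), (-1), (-1), (-9), (-22)]))) (.leaf ([]))) (.node (.node (.leaf ([0, (-5), 3, (-1), (-3), (-3)])) (.leaf ([(-2), 4, 7, (-3), 1, 3, 2]))) (.leaf ([0, 1])))) (.node (.node (.node (.leaf ([])) (.leaf ([(-1), 9, (-6), 4, 4, 6, (-1)]))) (.leaf ([(-1), 20, (-4), 3, 10, 15, 3]))) (.node (.leaf ([])) (.leaf ([1, 0, (-1), (-1), 0, 0, (-1)]))))) (.node (.node (.node (.node (.leaf ([])) (.leaf ([(-2), 7, 0, 2, 4, 6, 1]))) (.leaf ([0, 1]))) (.node (.node (.leaf ([0, 1, 0, 0, 2])) (.leaf ([0, 1]))) (.leaf ([1, 0, (-2), 0, 0, 0, (-1)])))) (.node (.node (.node (.leaf ([])) (.leaf ([(-1), (-2), (-6), 4, (-2), (-1), (-4)]))) (.leaf ([(-2), (-7), 9, (-3), (-6), (-4)]))) (.node (.leaf ([1, 3, 1, 0, 2, 2, 3])) (.leaf ([(-3), (-6), 12, (-5), (-7), (-2)]))))))))))) (.node (.node (.node (.node (.node (.node (.node (.node (.node (.node (.leaf ([])) (.leaf ([(-2), (-3), 12, (-5), (-3), (-1), 3]))) (.leaf ([]))) (.node (.node (.leaf ([])) (.leaf ([1, (-5), 4, (-3), (-4), (-3)]))) (.leaf ([0, (-4), 3, (-1), (-3), (-3)])))) (.node (.node (.node (.leaf ([])) (.leaf ([0, 1, (-9), 9, 2]))) (.leaf ([0, 1]))) (.node (.node (.leaf ([])) (.leaf ([(-2), 1, 4, 0, (-2), 1, 1]))) (.leaf ([2, (-6), (-4), 1, (-3), (-5), (-3)]))))) (.node (.node (.node (.node (.leaf ([])) (.leaf ([0, 5, (-3), (-1), 4, 4, (-3)]))) (.leaf ([(-5), 5, (-5), 6, (-1), 6, (-5)]))) (.node (.node (.leaf ([])) (.leaf ([2, 12, 0, (-6), 12, 6, 1]))) (.leaf ([0, 1])))) (.node (.node (.node (.leaf ([])) (.leaf ([0, 1]))) (.leaf ([1, 12, (-9), 8, 9, 8, 4]))) (.node (.leaf ([])) (.leaf ([2, (-1), 1, (-1), 0, (-1), 2])))))) (.node (.node (.node (.node (.node (.leaf ([0, (-1), 1, 0, (-2)])) (.leaf ([0, (-11), (-1), 2, (-7), (-8), (-3)]))) (.leaf ([(-5), (-5), 12, (-4), (-10), 0, (-2)]))) (.node (.node (.leaf ([(-1), 0, 2])) (.leaf ([0, 1]))) (.leaf ([0, 2, 2, (-1), 1, 2, 1])))) (.node (.node (.node (.leaf ([])) (.leaf ([0, (-8), 9, (-6), (-6), (-5)]))) (.leaf ([(-2), 2, 2, 0, (-1), 3, (-1)]))) (.node (.node (.leaf ([1, 0, (-1)])) (.leaf ([7, (-1), (-11), 3, 7, (-5), 2]))) (.leaf ([0, 4, (-3), 2, 1, 2]))))) (.node (.node (.node (.node (.leaf ([])) (.leaf ([0, 1]))) (.leaf ([2, (-7), (-1), (-2), (-3), (-5), (-3)]))) (.node (.node (.leaf ([])) (.leaf ([4, 4, (-2), (-5), 7]))) (.leaf ([1, (-2), 0, (-2), 0, (-2), (-1)])))) (.node (.node (.node (.leaf ([1, 3, (-4), 2, 3, 2])) (.leaf ([10, (-11), (-3), (-11), 7, (-14), (-1)]))) (.leaf ([]))) (.node (.leaf ([])) (.leaf ([0, 0, 0, 1, (-2)]))))))) (.node (.node (.node (.node (.node (.node (.leaf ([])) (.leaf ([1, (-5), (-2), 0, (-4), (-3), (-3)]))) (.leaf ([]))) (.node (.node (.leaf ([])) (.leaf ([(-1), (-9), 9, (-2), (-8), (-6), 2]))) (.leaf ([])))) (.node (.node (.node (.leaf ([(-1), 0, 2])) (.leaf ([0, 4, (-3), 2, 2, 2]))) (.leaf ([2, (-4), (-2), 0, (-1), (-3), (-1)]))) (.node (.node (.leaf ([])) (.leaf ([3, 0, (-4), 1, 2, (-2), 1]))) (.leaf ([0, (-6), (-1), 0, (-4), (-4), (-3)]))))) (.node (.node (.node (.node (.leaf ([])) (.leaf ([(-1), (-5), 4, (-3), (-4), (-3), (-2)]))) (.leaf ([]))) (.node (.node (.leaf ([])) (.leaf ([]))) (.leaf ([])))) (.node (.node (.node (.leaf ([0, 1])) (.leaf ([1, 4, (-8), 3, 4, 2, (-3)]))) (.leaf ([(-3), 0, 2, 0, (-4), 2, (-3)]))) (.node (.leaf ([])) (.leaf ([0, 1])))))) (.node (.node (.node (.node (.node (.leaf ([])) (.leaf ([0, 1]))) (.leaf ([3, 8, (-7), 3, 10, 3, 3]))) (.node (.node (.leaf ([])) (.leaf ([5, 11, (-7), (-6), 15, 3, (-1)]))) (.leaf ([(-2), 6, (-6), (-3), 0, 6, (-11)])))) (.node (.node (.node (.leaf ([])) (.leaf ([4, 4, 2, (-8), 9, 0, 2]))) (.leaf ([]))) (.node (.node (.leaf ([])) (.leaf ([0, 1]))) (.leaf ([6, (-11), 6, 0, 0, (-11), 12]))))) (.node (.node (.node (.node (.leaf ([0, 1])) (.leaf ([2, (-5), 0, (-4), 1, (-5), (-2)]))) (.leaf ([]))) (.node (.node (.leaf ([0, 17, (-2), 0, 10, 12, 3])) (.leaf ([(-2), 10, (-4), 0, 5, 7, (-4)]))) (.leaf ([0, 1])))) (.node (.node (.node (.leaf ([])) (.leaf ([]))) (.leaf ([4, 4, (-3), 0, 7, 0, 4]))) (.node (.leaf ([])) (.leaf ([0, 1, 0, 0, 2])))))))) (.node (.node (.node (.node (.node (.node (.node (.leaf ([])) (.leaf ([5, 10, (-5), (-7), 15, 3]))) (.leaf ([]))) (.node (.node (.leaf ([])) (.leaf ([0, 1]))) (.leaf ([1, 3, (-4), 1, 2, 1, (-1)])))) (.node (.node (.node (.leaf ([])) (.leaf ([4, 15, (-4), (-1), 15, 8, 6]))) (.leaf ([7, (-19), (-6), 2, (-3), (-17), 1]))) (.node (.node (.leaf ([])) (.leaf ([3, 4, (-4), 0, 7, 0, 2]))) (.leaf ([(-1), (-1), (-1), 1, (-2), 0, (-2)]))))) (.node (.node (.node (.node (.leaf ([])) (.leaf ([(-3), 0, 3, 0, (-4), 2, (-2)]))) (.leaf ([1, (-5), 4, (-4), (-1), (-4)]))) (.node (.node (.leaf ([])) (.leaf ([(-3), 3, (-3), 9, (-2), 4, 1]))) (.leaf ([(-1), (-4), 2, 1, (-4), (-2)])))) (.node (.node (.node (.leaf ([])) (.leaf ([3, (-5), 0, (-3), 1, (-5)]))) (.leaf ([]))) (.node (.leaf ([(-1), (-4), 3, 0, (-4), (-2)])) (.leaf ([1, 7, (-9), 3, 4, 5, (-3)])))))) (.node (.node (.node (.node (.node (.leaf ([])) (.leaf ([2, (-3), (-4), 2, 1, (-3)]))) (.leaf ([2, (-1), (-3), 0, 2, (-2)]))) (.node (.node (.leaf ([])) (.leaf ([4, 0, 10, (-6), 6, (-2), 10]))) (.leaf ([0, 1])))) (.node (.node (.node (.leaf ([])) (.leaf ([0, 1]))) (.leaf ([(-1), (-6), 5, (-5), (-5), (-3), (-4)]))) (.node (.node (.leaf ([0, 1, (-1), 1])) (.leaf ([(-1), 8, (-4), 5, 5, 5, 2]))) (.leaf ([0, 36, (-31), 12, 24, 24, (-7)]))))) (.node (.node (.node (.node (.leaf ([1, 0, (-1)])) (.leaf ([(-1), (-2), 1, 0, (-3), (-1), (-2)]))) (.leaf ([]))) (.node (.node (.leaf ([(-1), 0, 2, 0, 0, 0, 1])) (.leaf ([0, 1]))) (.leaf ([1, 1, 0, (-1), 2, 0, 1])))) (.node (.node (.node (.leaf ([])) (.leaf ([0, (-5), (-17), 6, (-4), (-3), (-13)]))) (.leaf ([(-1), 0, 2, 1, (-2), 0, 1]))) (.node (.leaf ([])) (.leaf ([0, 1]))))))) (.node (.node (.node (.node (.node (.node (.leaf ([])) (.leaf ([]))) (.leaf ([]))) (.node (.node (.leaf ([])) (.leaf ([(-10), (-7), 23, 0, (-20), 3, 3]))) (.leaf ([])))) (.node (.node (.node (.leaf ([])) (.leaf ([2, 10, (-10), 3, 9, 5, (-1)]))) (.leaf ([0, 1]))) (.node (.node (.leaf ([])) (.leaf ([(-2), 2, 3, (-2), (-1), 1, (-1)]))) (.leaf ([2, 0, (-12), 6, 2, (-1), (-3)]))))) (.node (.node (.node (.node (.leaf ([])) (.leaf ([1, 1, (-1), 0, 2]))) (.leaf ([(-4), 2, 7, 0, (-2), 3, 1]))) (.node (.node (.leaf ([0, (-1), 2, 0, (-2), 0, 1])) (.leaf ([0, (-3), 1, 2, (-1), (-2), 2]))) (.leaf ([])))) (.node (.node (.node (.leaf ([0, 4, (-3), 2, 3, 3])) (.leaf ([0, 1]))) (.leaf ([(-3), 14, 16, (-21), 4, 12, (-6)]))) (.node (.leaf ([0, 1])) (.leaf ([3, 8, (-10), 3, 9, 3])))))) (.node (.node (.node (.node (.node (.leaf ([])) (.leaf ([]))) (.leaf ([0, 0, (-1), 0, 1, 0, (-1)]))) (.node (.node (.leaf ([])) (.leaf ([0, 1]))) (.leaf ([1, (-5), 7, (-3), (-4), (-3), 3])))) (.node (.node (.node (.leaf ([])) (.leaf ([(-2), 10, (-14), 8, 3, 8, (-7)]))) (.leaf ([(-1), (-2), 1, 0, (-1), (-1), (-1)]))) (.node (.leaf ([1, (-5), 4, 0, (-4), (-3), 3])) (.leaf ([0, 1, 2, (-2), 0, 1]))))) (.node (.node (.node (.node (.leaf ([])) (.leaf ([1, 1, (-1), (-2), 2, 0, (-1)]))) (.leaf ([1, 0, 0, (-1), 1]))) (.node (.node (.leaf ([])) (.leaf ([0, 7, 0, 2, 5, 4, 4]))) (.leaf ([(-3), 8, (-7), 9, 2, 7])))) (.node (.node (.node (.leaf ([1, 0, (-1)])) (.leaf ([]))) (.leaf ([0, 1]))) (.node (.leaf ([0, 3, 2, 0, 2, 2, 3])) (.leaf ([(-1), 4, (-8), 7, 3, 3, (-1)]))))))))) (.node (.node (.node (.node (.node (.node (.node (.node (.leaf ([0, 1])) (.leaf ([0, 0, 2, 0, 0, 0, 1]))) (.leaf ([0, 0, (-1), 0, 0, 0, (-1)]))) (.node (.node (.leaf ([])) (.leaf ([(-4), 12, (-8), 7, 3, 10, (-4)]))) (.leaf ([0, 1])))) (.node (.node (.node (.leaf ([])) (.leaf ([]))) (.leaf ([]))) (.node (.node (.leaf ([0, 1])) (.leaf ([2, (-1), 1, (-4), 1, (-1), (-1)]))) (.leaf ([(-3), 9, (-1), 6, 2, 8, 3]))))) (.node (.node (.node (.node (.leaf ([])) (.leaf ([(-1), (-1), 1, 1, (-2), 0, (-1)]))) (.leaf ([]))) (.node (.node (.leaf ([])) (.leaf ([0, 1]))) (.leaf ([0, (-2), 1, (-1), (-1), (-1), (-1)])))) (.node (.node (.node (.leaf ([])) (.leaf ([3, 3, (-5), 0, 5]))) (.leaf ([(-1), (-9), 11, 0, (-5), (-6), 7]))) (.node (.leaf ([(-1), (-1), 3, 0, (-4), 1])) (.leaf ([])))))) (.node (.node (.node (.node (.node (.leaf ([])) (.leaf ([]))) (.leaf ([(-1), 1, 2, 0, (-2), 2]))) (.node (.node (.leaf ([])) (.leaf ([]))) (.leaf ([0, 1, (-2), 2, 1, 1])))) (.node (.node (.node (.leaf ([])) (.leaf ([0, (-5), 2, 0, (-3), (-4)]))) (.leaf ([0, 1]))) (.node (.node (.leaf ([3, (-2), (-5), 0, 2, (-3), (-1)])) (.leaf ([(-3), (-14), 3, 3, (-14), (-8), (-4)]))) (.leaf ([2, 2, (-6), 3, 3]))))) (.node (.node (.node (.node (.leaf ([])) (.leaf ([(-1), (-17), (-9), 9, (-14), (-10), (-8)]))) (.leaf ([]))) (.node (.node (.leaf ([0, (-1), 1, 0, (-2)])) (.leaf ([1, (-8), (-2), 3, (-3), (-7)]))) (.leaf ([])))) (.node (.node (.node (.leaf ([])) (.leaf ([0, 1]))) (.leaf ([0, 5, (-3), 2, 3, 3]))) (.node (.leaf ([0, 1])) (.leaf ([]))))))) (.node (.node (.node (.node (.node (.node (.leaf ([])) (.leaf ([(-3), 2, 6, (-2), (-1), 3]))) (.leaf ([0, 1]))) (.node (.node (.leaf ([])) (.leaf ([0, 1]))) (.leaf ([(-1), (-3), 3, (-1), (-2), (-1), (-1)])))) (.node (.node (.node (.leaf ([])) (.leaf ([2, 20, (-3), 0, 17, 11, 7]))) (.leaf ([(-2), 2, 3, 0, 0, 2]))) (.node (.node (.leaf ([2, 5, (-5), 3, 5, 3, 2])) (.leaf ([0, 1, 0, 0, 1]))) (.leaf ([1, (-8), 6, (-4), (-4), (-6), 1]))))) (.node (.node (.node (.node (.leaf ([])) (.leaf ([0, 1]))) (.leaf ([]))) (.node (.node (.leaf ([])) (.leaf ([2, 2, (-6), 6, 5, (-1), 4]))) (.leaf ([(-2), (-9), 6, (-3), (-7), (-5), (-3)])))) (.node (.node (.node (.leaf ([])) (.leaf ([(-1), (-1), (-13), 8, (-2), 0, (-7)]))) (.leaf ([]))) (.node (.leaf ([2, 8, (-9), 3, 8, 4])) (.leaf ([])))))) (.node (.node (.node (.node (.node (.leaf ([])) (.leaf ([(-1), (-9), 10, (-4), (-9), (-5)]))) (.leaf ([1, (-2), (-4), 0, 3, (-3), (-2)]))) (.node (.node (.leaf ([0, 0, 1])) (.leaf ([0, 0, 0, (-1), 1, (-1), (-1)]))) (.leaf ([(-1), (-1), 6, (-1), (-4), 1, 2])))) (.node (.node (.node (.leaf ([])) (.leaf ([3, 7, (-6), 5, 8, 2, 6]))) (.leaf ([1, 1, 8, (-2), 2, (-1), 8]))) (.node (.leaf ([])) (.leaf ([(-2), 6, 3, 0, 2, 5, 2]))))) (.node (.node (.node (.node (.leaf ([])) (.leaf ([(-1), 27, (-16), 6, 18, 18, (-2)]))) (.leaf ([]))) (.node (.node (.leaf ([])) (.leaf ([(-3), (-17), 12, (-1), (-17), (-10)]))) (.leaf ([(-2), 4, (-5), 3, 1, 3, (-4)])))) (.node (.node (.node (.leaf ([])) (.leaf ([(-2), 3, 0, 1, (-1), 3, (-2)]))) (.leaf ([0, 4, (-1), (-3), 3, 3, (-3)]))) (.node (.leaf ([1, (-4), (-2), 0, (-3), (-3), (-3)])) (.leaf ([])))))))) (.node (.node (.node (.node (.node (.node (.node (.leaf ([])) (.leaf ([]))) (.leaf ([]))) (.node (.node (.leaf ([])) (.leaf ([1, 3, (-1), 2, 2, 1, 3]))) (.leaf ([0, 0, (-2), 1, 0, 0, (-1)])))) (.node (.node (.node (.leaf ([1, 0, (-1)])) (.leaf ([0, 4, (-3), 1, 4, 2, (-1)]))) (.leaf ([0, (-3), 3, (-2), (-1), (-2)]))) (.node (.node (.leaf ([])) (.leaf ([(-3), (-12), (-4), 7, (-12), (-6), (-6)]))) (.leaf ([1, (-6), (-1), (-1), (-3), (-4), (-3)]))))) (.node (.node (.node (.node (.leaf ([])) (.leaf ([1, (-8), 3, (-6), (-5), (-5), (-5)]))) (.leaf ([]))) (.node (.node (.leaf ([])) (.leaf ([(-1), 2, 0, 3, 0, 2, 1]))) (.leaf ([0, 1])))) (.node (.node (.node (.leaf ([])) (.leaf ([(-4), 10, 6, 2, 3, 9, 5]))) (.leaf ([1, (-3), (-2), (-1), (-1), (-2), (-3)]))) (.node (.leaf ([])) (.leaf ([0, 1, 0, 0, 1])))))) (.node (.node (.node (.node (.node (.leaf ([1, 0, (-1)])) (.leaf ([(-3), 3, (-5), 0, (-1), 3, (-9)]))) (.leaf ([]))) (.node (.node (.leaf ([])) (.leaf ([2, (-1), 3, (-4), 1, (-1), 1]))) (.leaf ([0, (-1), (-1), 0, (-1), 0, (-2)])))) (.node (.node (.node (.leaf ([0, 1])) (.leaf ([2, (-1), (-4), 0, 1, (-2), (-2)]))) (.leaf ([0, 0, 1, 0, 0, 0, 1]))) (.node (.node (.leaf ([1, 0, (-1), 0, 0, 0, (-1)])) (.leaf ([(-3), (-5), 12, (-4), (-7), (-2), 1]))) (.leaf ([]))))) (.node (.node (.node (.node (.leaf ([])) (.leaf ([0, 1]))) (.leaf ([0, 1, 0, 1, 1, 1, 1]))) (.node (.node (.leaf ([0, 1])) (.leaf ([1, 5, 1, 1, 5, 3, 5]))) (.leaf ([1, 2, (-2), 0, 4, 0, 1])))) (.node (.node (.node (.leaf ([3, 11, (-8), 3, 10, 6, 3])) (.leaf ([0, 1, (-1), 1]))) (.leaf ([0, 1]))) (.node (.leaf ([])) (.leaf ([0, 6, (-9), 2, 5, 4, (-5)]))))))) (.node (.node (.node (.node (.node (.node (.leaf ([])) (.leaf ([0, 10, 2, 3, 7, 6, 8]))) (.leaf ([]))) (.node (.node (.leaf ([1, 0, 0, (-1), 2])) (.leaf ([2, 0, 6, (-3), 2, (-1), 6]))) (.leaf ([0, (-6), 3, 0, (-4), (-4), 1])))) (.node (.node (.node (.leaf ([])) (.leaf ([0, 1]))) (.leaf ([]))) (.node (.node (.leaf ([])) (.leaf ([0, 0, 1, 0, (-1)]))) (.leaf ([0, 1, (-1), 1]))))) (.node (.node (.node (.node (.leaf ([0, (-4), 2, 0, (-4), (-2)])) (.leaf ([0, 0, 1, (-1), 1, (-1)]))) (.leaf ([]))) (.node (.node (.leaf ([(-1), 4, 3, 0, 3, 3, 3])) (.leaf ([0, 1]))) (.leaf ([])))) (.node (.node (.node (.leaf ([])) (.leaf ([(-1), 2, (-3), 4, (-1), 3, (-1)]))) (.leaf ([0, 7, 2, (-1), 5, 4, 3]))) (.node (.leaf ([(-2), 3, 4, 0, 0, 3, 2])) (.leaf ([2, 4, (-6), 2, 3, 1])))))) (.node (.node (.node (.node (.node (.leaf ([])) (.leaf ([0, 1]))) (.leaf ([2, 1, (-3), 3, 3, 0, 3]))) (.node (.node (.leaf ([])) (.leaf ([3, 5, 3, (-5), 7, 2, 4]))) (.leaf ([])))) (.node (.node (.node (.leaf ([])) (.leaf ([(-4), 3, (-4), 10, (-4), 4]))) (.leaf ([0, 1]))) (.node (.leaf ([])) (.leaf ([1, (-5), 0, (-2), (-4), (-3), (-3)]))))) (.node (.node (.node (.node (.leaf ([])) (.leaf ([(-1), 3, (-3), 4, 2, 2, 1]))) (.leaf ([]))) (.node (.node (.leaf ([])) (.leaf ([(-1), 19, (-3), 10, 12, 13, 11]))) (.leaf ([0, 1])))) (.node (.node (.node (.leaf ([(-1), (-1), 2, 0, (-2)])) (.leaf ([0, 1]))) (.leaf ([]))) (.node (.leaf ([0, 0, 1, (-1)])) (.leaf ([(-3), (-3), 3, 0, (-5), 0, (-3)])))))))))) (.node (.node (.node (.node (.node (.node (.node (.node (.node (.leaf ([])) (.leaf ([(-2), 2, 3, 0, 0, 2]))) (.leaf ([]))) (.node (.node (.leaf ([])) (.leaf ([4, (-9), (-6), (-2), (-3), (-9), (-5)]))) (.leaf ([(-1), (-2), 3, 1, (-3), 0, 1])))) (.node (.node (.node (.leaf ([])) (.leaf ([(-1), 3, (-1), 3, 1, 2, 1]))) (.leaf ([(-1), (-5), 8, (-3), (-5), (-3), 1]))) (.node (.node (.leaf ([])) (.leaf ([3, (-12), 1, (-4), (-3), (-10), (-2)]))) (.leaf ([(-3), 3, 0, 4, (-2), 4]))))) (.node (.node (.node (.node (.leaf ([])) (.leaf ([0, 1]))) (.leaf ([2, (-1), (-2), 0, 2, (-2)]))) (.node (.node (.leaf ([0, 1, (-1), 1])) (.leaf ([(-2), 2, 5, 0, (-2), 3, 1]))) (.leaf ([1, 4, 1, 0, 4, 2, 4])))) (.node (.node (.node (.leaf ([(-1), (-1), 2, 1, (-2), 0, 1])) (.leaf ([0, 6, (-13), 6, 5, 3, (-5)]))) (.leaf ([(-1), (-2), 4, (-2), (-1), (-1)]))) (.node (.leaf ([0, 0, (-4), 3, 0, 0, (-1)])) (.leaf ([(-3), (-2), 9, 0, (-6), 1, 3])))))) (.node (.node (.node (.node (.node (.leaf ([0, 1])) (.leaf ([1, (-12), (-2), 1, (-5), (-9), (-3)]))) (.leaf ([0, (-2), 1, 0, (-2), (-1)]))) (.node (.node (.leaf ([])) (.leaf ([2, (-3), 0, (-1), 0, (-4), 1]))) (.leaf ([])))) (.node (.node (.node (.leaf ([])) (.leaf ([]))) (.leaf ([(-6), 3, 0, 4, (-5), 6, (-5)]))) (.node (.node (.leaf ([0, 1])) (.leaf ([0, (-3), 0, 0, (-2), (-2), (-2)]))) (.leaf ([2, 7, (-11), 3, 8, 3, (-2)]))))) (.node (.node (.node (.node (.leaf ([])) (.leaf ([(-2), 9, 0, 0, 5, 7]))) (.leaf ([3, 9, (-7), 2, 10, 4, 3]))) (.node (.node (.leaf ([0, (-9), 1, 0, (-6), (-6), (-2)])) (.leaf ([(-1), (-3), 7, (-2), (-4), (-2), 2]))) (.leaf ([0, 3, (-4), 1, 2, 2, (-2)])))) (.node (.node (.node (.leaf ([])) (.leaf ([0, 0, 1]))) (.leaf ([0, (-3), 1, 0, (-2), (-2)]))) (.node (.leaf ([])) (.leaf ([0, 1]))))))) (.node (.node (.node (.node (.node (.node (.leaf ([])) (.leaf ([]))) (.leaf ([1, 0, (-1)]))) (.node (.node (.leaf ([0, 1])) (.leaf ([12, 9, (-26), 0, 20, (-2), (-4)]))) (.leaf ([])))) (.node (.node (.node (.leaf ([])) (.leaf ([0, 3, 15, (-4), 2, 2, 12]))) (.leaf ([]))) (.node (.node (.leaf ([1, 6, (-3), 3, 7, 3, 4])) (.leaf ([0, 1]))) (.leaf ([0, (-3), 1, (-2), (-2), (-2), (-2)]))))) (.node (.node (.node (.node (.leaf ([])) (.leaf ([1, 8, 1, (-3), 5, 6, 1]))) (.leaf ([0, 0, 1, (-1), 2]))) (.node (.node (.leaf ([])) (.leaf ([(-1), 1, 0, 2, 1, 0, 1]))) (.leaf ([0, 1])))) (.node (.node (.node (.leaf ([])) (.leaf ([0, 1]))) (.leaf ([1, 7, (-8), 3, 7, 4, (-1)]))) (.node (.leaf ([0, 1])) (.leaf ([0, (-3), 3, (-2), (-1), (-3)])))))) (.node (.node (.node (.node (.node (.leaf ([0, 0, 1])) (.leaf ([0, 0, 3, (-1), 1, (-1), 2]))) (.leaf ([(-5), 0, 10, 0, (-5), 3, 2]))) (.node (.node (.leaf ([])) (.leaf ([0, 1]))) (.leaf ([1, 5, (-6), (-3), 3, 3, (-7)])))) (.node (.node (.node (.leaf ([0, 1])) (.leaf ([0, 0, 1, 1, 0, 0, 1]))) (.leaf ([(-2), 6, 5, (-1), 3, 5, 3]))) (.node (.leaf ([3, (-5), 3, (-3), 0, (-5), 3])) (.leaf ([(-2), (-2), 6, (-2), (-4)]))))) (.node (.node (.node (.node (.leaf ([])) (.leaf ([0, 1]))) (.leaf ([2, 6, 0, (-1), 7, 3, 4]))) (.node (.node (.leaf ([0, 1])) (.leaf ([3, (-7), 1, (-8), (-1), (-6), (-5)]))) (.leaf ([0, (-3), 0, (-2), (-2), (-2), (-3)])))) (.node (.node (.node (.leaf ([])) (.leaf ([1, (-7), (-2), 0, (-5), (-5), (-4)]))) (.leaf ([0, 1]))) (.node (.leaf ([])) (.leaf ([(-2), 8, (-2), 2, 4, 6, (-1)])))))))) (.node (.node (.node (.node (.node (.node (.node (.leaf ([])) (.leaf ([0, (-2), 1, 0, (-1), (-1)]))) (.leaf ([0, (-1), 0, 0, 0, (-1)]))) (.node (.node (.leaf ([0, 0, 0, 1, (-2)])) (.leaf ([]))) (.leaf ([0, 1])))) (.node (.node (.node (.leaf ([])) (.leaf ([2, 12, 0, 4, 10, 6, 11]))) (.leaf ([(-1), (-4), 12, (-5), (-6), (-2), 3]))) (.node (.node (.leaf ([])) (.leaf ([0, 3, 1, (-1), 1, 2]))) (.leaf ([(-1), (-1), 0, 0, (-2), 0, (-2)]))))) (.node (.node (.node (.node (.leaf ([])) (.leaf ([(-2), (-5), 7, (-3), (-5), (-3), (-1)]))) (.leaf ([0, 1, (-1), 1]))) (.node (.node (.leaf ([0, 0, 1, (-1), 2])) (.leaf ([0, 1]))) (.leaf ([3, (-2), (-9), 0, 2, (-3), (-5)])))) (.node (.node (.node (.leaf ([])) (.leaf ([3, 5, (-1), 0, 7, 1, 5]))) (.leaf ([]))) (.node (.leaf ([])) (.leaf ([])))))) (.node (.node (.node (.node (.node (.leaf ([])) (.leaf ([0, 1]))) (.leaf ([]))) (.node (.node (.leaf ([])) (.leaf ([(-6), 10, 1, 3, (-1), 11, (-3)]))) (.leaf ([0, (-1), 2, (-2), 1, (-1)])))) (.node (.node (.node (.leaf ([1, 0, (-1)])) (.leaf ([1, (-7), 0, 1, (-3), (-6)]))) (.leaf ([0, 1]))) (.node (.node (.leaf ([0, 0, (-2), 0, 1, 0, (-2)])) (.leaf ([0, 1]))) (.leaf ([2, (-4), 4, (-6), (-1), (-3), (-1)]))))) (.node (.node (.node (.node (.leaf ([0, 1])) (.leaf ([(-1), (-1), 0, 2, (-3), 0, (-1)]))) (.leaf ([(-2), 8, (-8), 5, 3, 7, (-4)]))) (.node (.node (.leaf ([0, 0, 1])) (.leaf ([(-4), 0, 15, (-3), (-5), 2, 5]))) (.leaf ([(-1), 0, 1, (-2), (-2), 1, (-3)])))) (.node (.node (.node (.leaf ([])) (.leaf ([0, 0, (-2), 2, 0, (-1)]))) (.leaf ([]))) (.node (.leaf ([])) (.leaf ([]))))))) (.node (.node (.node (.node (.node (.node (.leaf ([])) (.leaf ([0, 3, (-4), 0, 2, 2, (-3)]))) (.leaf ([0, 1]))) (.node (.node (.leaf ([])) (.leaf ([0, 1]))) (.leaf ([2, (-2), (-1), 0, 1, (-3), 1])))) (.node (.node (.node (.leaf ([])) (.leaf ([1, 5, (-3), 1, 3, 3]))) (.leaf ([(-1), 4, 1, (-1), 3, 3]))) (.node (.node (.leaf ([2, 12, (-7), 3, 10, 7, 3])) (.leaf ([(-1), 0, 2, 2, (-2), 0, 2]))) (.leaf ([]))))) (.node (.node (.node (.node (.leaf ([])) (.leaf ([0, 1]))) (.leaf ([(-1), (-7), (-2), 0, (-7), (-3), (-7)]))) (.node (.node (.leaf ([0, 1])) (.leaf ([0, 2, 2, (-2), 1, 1]))) (.leaf ([2, 0, (-5), 0, 2, (-1), (-2)])))) (.node (.node (.node (.leaf ([])) (.leaf ([4, (-2), 3, (-4), 3, (-4), 4]))) (.leaf ([]))) (.node (.leaf ([0, (-3), 1, 0, (-2), (-2)])) (.leaf ([2, 5, (-18), 8, 4, 3, (-6)])))))) (.node (.node (.node (.node (.node (.leaf ([])) (.leaf ([(-1), 6, 4, (-1), 3, 4, 3]))) (.leaf ([0, 1, (-2), 0, 2, 0, (-2)]))) (.node (.node (.leaf ([])) (.leaf ([(-3), 0, 5, 0, (-2), 2]))) (.leaf ([])))) (.node (.node (.node (.leaf ([])) (.leaf ([0, 1]))) (.leaf ([]))) (.node (.leaf ([])) (.leaf ([0, 4, (-7), 6, 2, 3]))))) (.node (.node (.node (.node (.leaf ([])) (.leaf ([2, (-7), 6, (-2), (-1), (-6), 5]))) (.leaf ([0, 1]))) (.node (.node (.leaf ([])) (.leaf ([0, 1]))) (.leaf ([(-1), 0, (-2), (-2), (-2), 1, (-6)])))) (.node (.node (.node (.leaf ([0, 1])) (.leaf ([0, (-11), 0, (-1), (-7), (-8), (-5)]))) (.leaf ([]))) (.node (.leaf ([])) (.leaf ([]))))))))) (.node (.node (.node (.node (.node (.node (.node (.node (.leaf ([])) (.leaf ([0, 1]))) (.leaf ([]))) (.node (.node (.leaf ([])) (.leaf ([1, 5, (-1), 0, 4, 2, 2]))) (.leaf ([])))) (.node (.node (.node (.leaf ([])) (.leaf ([(-1), (-1), 3, 0, (-2), 0, 1]))) (.leaf ([]))) (.node (.node (.leaf ([])) (.leaf ([0, 1]))) (.leaf ([(-6), (-7), 11, 1, (-12), (-1)]))))) (.node (.node (.node (.node (.leaf ([0, 1])) (.leaf ([3, 12, (-3), (-6), 12, 6, (-1)]))) (.leaf ([0, 1, (-1), 0, 2, 0, (-1)]))) (.node (.node (.leaf ([])) (.leaf ([2, (-6), 7, 3, 0, (-6), 11]))) (.leaf ([0, 1])))) (.node (.node (.node (.leaf ([])) (.leaf ([0, 1]))) (.leaf ([0, (-2), 1, 0, (-1), (-1)]))) (.node (.leaf ([])) (.leaf ([(-1), 4, (-1), (-3), 2, 3, (-4)])))))) (.node (.node (.node (.node (.node (.leaf ([])) (.leaf ([1, (-2), (-17), 14, 1, (-3), (-2)]))) (.leaf ([0, 1]))) (.node (.node (.leaf ([1, 1, (-2), 0, 2])) (.leaf ([0, 6, 0, (-2), 5, 4]))) (.leaf ([0, 0, (-1), 2, (-1), 1])))) (.node (.node (.node (.leaf ([])) (.leaf ([0, (-20), 16, (-9), (-14), (-13)]))) (.leaf ([2, (-2), 3, (-3), 1, (-3), 2]))) (.node (.node (.leaf ([2, (-4), (-1), (-3), (-2), (-3), (-3)])) (.leaf ([0, 4, 0, 0, 3, 2, 1]))) (.leaf ([]))))) (.node (.node (.node (.node (.leaf ([])) (.leaf ([1, 24, (-7), 5, 17, 16, 7]))) (.leaf ([(-3), 3, 0, 2, (-1), 4, (-2)]))) (.node (.node (.leaf ([0, 1])) (.leaf ([(-3), (-5), 10, 4, (-7), (-2), 7]))) (.leaf ([])))) (.node (.node (.node (.leaf ([])) (.leaf ([(-1), (-1), (-1), 2, (-3), 0, (-2)]))) (.leaf ([]))) (.node (.leaf ([])) (.leaf ([]))))))) (.node (.node (.node (.node (.node (.node (.leaf ([])) (.leaf ([(-2), (-7), 7, 1, (-7), (-4), 2]))) (.leaf ([(-3), (-8), 11, (-3), (-9), (-3)]))) (.node (.node (.leaf ([0, (-5), (-1), 0, (-3), (-3), (-3)])) (.leaf ([1, 2, (-2), 1, 2, 0, 1]))) (.leaf ([0, 1])))) (.node (.node (.node (.leaf ([1, 1, (-2), 0, 2])) (.leaf ([0, 1]))) (.leaf ([0, 0, 2, 0, 0, 0, 1]))) (.node (.node (.leaf ([])) (.leaf ([3, 1, (-6), (-2), 5, (-2), (-3)]))) (.leaf ([(-3), 5, 0, 3, 0, 5]))))) (.node (.node (.node (.node (.leaf ([])) (.leaf ([1, (-3), (-6), (-2), (-1), (-3), (-8)]))) (.leaf ([0, 1]))) (.node (.node (.leaf ([])) (.leaf ([0, 1]))) (.leaf ([2, 4, (-6), 3, 4, 2, 1])))) (.node (.node (.node (.leaf ([0, 0, 1, (-1)])) (.leaf ([(-3), (-22), 6, (-6), (-20), (-12), (-13)]))) (.leaf ([]))) (.node (.leaf ([0, (-8), 6, (-3), (-6), (-5)])) (.leaf ([1, (-8), 19, (-7), (-4), (-6), 11])))))) (.node (.node (.node (.node (.node (.leaf ([0, 0, 0, 0, 1])) (.leaf ([3, 9, (-1), (-1), 10, 4, 6]))) (.leaf ([1, 1, (-2), 3, 3, 0, 3]))) (.node (.node (.leaf ([])) (.leaf ([0, (-3), (-11), 6, (-1), (-2), (-6)]))) (.leaf ([2, 1, (-1), (-1), 2, 0, 1])))) (.node (.node (.node (.leaf ([])) (.leaf ([(-1), 9, (-6), 4, 5, 6, (-1)]))) (.leaf ([]))) (.node (.leaf ([1, (-11), 9, (-5), (-6), (-8), 2])) (.leaf ([0, (-2), (-2), 3, (-2), (-1)]))))) (.node (.node (.node (.node (.leaf ([])) (.leaf ([0, (-1), 1, 0, (-1), (-1)]))) (.leaf ([]))) (.node (.node (.leaf ([0, 8, (-1), 1, 7, 5, 3])) (.leaf ([(-2), 2, (-1), 1, 1, 1, (-2)]))) (.leaf ([0, 1])))) (.node (.node (.node (.leaf ([])) (.leaf ([0, 1]))) (.leaf ([2, (-4), (-2), (-1), (-1), (-3), (-2)]))) (.node (.leaf ([0, 1])) (.leaf ([0, 1, (-1), 0, 1, 0, (-1)])))))))) (.node (.node (.node (.node (.node (.node (.node (.leaf ([])) (.leaf ([2, (-11), 6, (-3), (-5), (-9), 2]))) (.leaf ([]))) (.node (.node (.leaf ([])) (.leaf ([(-2), 12, (-11), 4, 3, 9, (-7)]))) (.leaf ([0, (-1), 0, 1, (-1)])))) (.node (.node (.node (.leaf ([0, 1])) (.leaf ([1, 7, (-4), 0, 7, 4]))) (.leaf ([1, (-3), 0, 0, 1, (-3), 1]))) (.node (.node (.leaf ([2, (-1), (-3), 1, 0, (-2)])) (.leaf ([3, (-7), 1, (-3), (-1), (-7)]))) (.leaf ([5, 6, (-12), 4, 10, 0, 2]))))) (.node (.node (.node (.node (.leaf ([])) (.leaf ([]))) (.leaf ([]))) (.node (.node (.leaf ([0, 1])) (.leaf ([(-1), 3, 8, 0, 1, 2, 7]))) (.leaf ([1, 2, (-4), 1, 2, 1, (-1)])))) (.node (.node (.node (.leaf ([0, (-1), 2, 0, (-2), 0, 1])) (.leaf ([0, (-2), (-1), 2, (-1), (-2)]))) (.leaf ([0, 1]))) (.node (.leaf ([(-4), 8, (-2), 2, 0, 8, (-4)])) (.leaf ([(-2), 2, (-3), 3, (-2), 3, (-3)])))))) (.node (.node (.node (.node (.node (.leaf ([0, 1])) (.leaf ([(-11), (-29), 21, 0, (-35), (-12), (-8)]))) (.leaf ([]))) (.node (.node (.leaf ([0, (-1), 0, 1, (-1)])) (.leaf ([0, 1, 1, 0, 2, 0, 1]))) (.leaf ([0, 1])))) (.node (.node (.node (.leaf ([])) (.leaf ([1, 2, (-3), 2, 2, 0, 1]))) (.leaf ([]))) (.node (.node (.leaf ([])) (.leaf ([0, 1, 4, (-4)]))) (.leaf ([0, 0, 1, 3, 0, 0, 4]))))) (.node (.node (.node (.node (.leaf ([])) (.leaf ([(-2), (-1), 2, (-3), (-2), 0, (-4)]))) (.leaf ([]))) (.node (.node (.leaf ([])) (.leaf ([0, 1]))) (.leaf ([1, 1, (-1), 0, 1])))) (.node (.node (.node (.leaf ([0, 1])) (.leaf ([(-1), (-1), 3, 0, (-4), 1]))) (.leaf ([0, (-3), 1, 0, (-1), (-3)]))) (.node (.leaf ([(-1), (-2), 6, (-3), (-3)])) (.leaf ([0, 1]))))))) (.node (.node (.node (.node (.node (.node (.leaf ([])) (.leaf ([0, 1]))) (.leaf ([]))) (.node (.node (.leaf ([0, 1])) (.leaf ([4, 2, (-2), (-3), 6, (-2), 2]))) (.leaf ([1, (-6), 2, 0, (-3), (-4), 1])))) (.node (.node (.node (.leaf ([0, 5, 2, 0, 2, 4, 3])) (.leaf ([6, 3, (-8), (-4), 11, (-2), (-1)]))) (.leaf ([1, 1, 1, (-2), 3, 0, 1]))) (.node (.node (.leaf ([])) (.leaf ([2, 1, (-6), 1, 3, (-2), (-1)]))) (.leaf ([0, (-1), (-5), 8, 0, (-1), 3]))))) (.node (.node (.node (.node (.leaf ([])) (.leaf ([(-1), (-7), 10, (-4), (-7), (-4), 1]))) (.leaf ([1, (-3), (-2), 0, 0, (-3), (-2)]))) (.node (.node (.leaf ([])) (.leaf ([(-4), 2, (-8), 5, (-5), 5, (-10)]))) (.leaf ([0, 1])))) (.node (.node (.node (.leaf ([1, (-4), (-1), 0, (-2), (-3), (-1)])) (.leaf ([(-1), (-9), 15, (-8), (-8), (-6), 2]))) (.leaf ([0, 0, 1]))) (.node (.leaf ([0, 1])) (.leaf ([(-1), (-3), 5, (-2), (-3), (-2)])))))) (.node (.node (.node (.node (.node (.leaf ([])) (.leaf ([]))) (.leaf ([]))) (.node (.node (.leaf ([0, 1, (-1), 0, 2, 0, (-1)])) (.leaf ([0, 1, 2, 1, 1, 1, 3]))) (.leaf ([1, 1, (-1), 0, 2])))) (.node (.node (.node (.leaf ([])) (.leaf ([0, 0, 0, 1, (-2)]))) (.leaf ([(-1), 5, 0, 0, 2, 4]))) (.node (.leaf ([])) (.leaf ([(-1), (-1), 5, (-2), (-2), 0, 1]))))) (.node (.node (.node (.node (.leaf ([])) (.leaf ([(-6), 10, 12, 9, (-2), 10, 14]))) (.leaf ([]))) (.node (.node (.leaf ([])) (.leaf ([1, (-5), 2, (-1), (-3), (-4)]))) (.leaf ([1, 1, (-10), 3, 3, 0, (-5)])))) (.node (.node (.node (.leaf ([1, 1, (-2), (-1), 2, 0, (-1)])) (.leaf ([(-1), 0, 2, 1, (-2), 0, 1]))) (.leaf ([(-5), (-23), 9, (-7), (-22), (-12), (-14)]))) (.node (.leaf ([])) (.leaf ([(-3), 1, (-1), 3, (-3), 3, (-3)]))))))))))))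

/-- data -/
def rank4 : Trie (ℕ) := .node (.node (.node (.node (.node (.node (.node (.node (.node (.node (.node (.node (.leaf 0) (.leaf 1573)) (.leaf 0)) (.node (.node (.leaf 52) (.leaf 951)) (.leaf 0))) (.node (.node (.node (.leaf 0) (.leaf 1348)) (.leaf 0)) (.node (.node (.leaf 634) (.leaf 378)) (.leaf 786)))) (.node (.node (.node (.node (.leaf 13) (.leaf 1421)) (.leaf 0)) (.node (.node (.leaf 549) (.leaf 603)) (.leaf 909))) (.node (.node (.node (.leaf 843) (.leaf 302)) (.leaf 1196)) (.node (.leaf 0) (.leaf 1660))))) (.node (.node (.node (.node (.node (.leaf 0) (.leaf 0)) (.leaf 1564)) (.node (.node (.leaf 463) (.leaf 343)) (.leaf 1267))) (.node (.node (.node (.leaf 31) (.leaf 1450)) (.leaf 0)) (.node (.node (.leaf 406) (.leaf 1858)) (.leaf 215)))) (.node (.node (.node (.node (.leaf 0) (.leaf 271)) (.leaf 543)) (.node (.node (.leaf 74) (.leaf 703)) (.leaf 0))) (.node (.node (.node (.leaf 1924) (.leaf 1155)) (.leaf 431)) (.node (.leaf 0) (.leaf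 949)))))) (.node (.node (.node (.node (.node (.node (.leaf 0) (.leaf 1716)) (.leaf 0)) (.node (.node (.leaf 740) (.leaf 0)) (.leaf 172))) (.node (.node (.node (.leaf 458) (.leaf 289)) (.leaf 802)) (.node (.node (.leaf 82) (.leaf 593)) (.leaf 1064)))) (.node (.node (.node (.node (.leaf 0) (.leaf 711)) (.leaf 126)) (.node (.node (.leaf 1021) (.leaf 361)) (.leaf 1220))) (.node (.node (.node (.leaf 0) (.leaf 1040)) (.leaf 1347)) (.node (.leaf 1899) (.leaf 732))))) (.node (.node (.node (.node (.node (.leaf 0) (.leaf 1877)) (.leaf 0)) (.node (.node (.leaf 62) (.leaf 760)) (.leaf 1843))) (.node (.node (.node (.leaf 0) (.leaf 1118)) (.leaf 0)) (.node (.node (.leaf 1126) (.leaf 395)) (.leaf 1921)))) (.node (.node (.node (.node (.leaf 0) (.leaf 1433)) (.leaf 1112)) (.node (.node (.leaf 695) (.leaf 1879)) (.leaf 865))) (.node (.node (.node (.leaf 0) (.leaf 320)) (.leaf 0)) (.node (.leaf 0) (.leaf 1136))))))) (.node (.node (.node (.node (.node (.node (.node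 (.leaf 0) (.leaf 1666)) (.leaf 108)) (.node (.node (.leaf 0) (.leaf 330)) (.leaf 1167))) (.node (.node (.node (.leaf 0) (.leaf 1522)) (.leaf 1634)) (.node (.node (.leaf 907) (.leaf 1726)) (.leaf 0)))) (.node (.node (.node (.node (.leaf 0) (.leaf 263)) (.leaf 1503)) (.node (.node (.leaf 68) (.leaf 628)) (.leaf 1333))) (.node (.node (.node (.leaf 0) (.leaf 0)) (.leaf 151)) (.node (.leaf 735) (.leaf 1081))))) (.node (.node (.node (.node (.node (.leaf 0) (.leaf 872)) (.leaf 0)) (.node (.node (.leaf 934) (.leaf 1761)) (.leaf 0))) (.node (.node (.node (.leaf 682) (.leaf 1235)) (.leaf 1521)) (.node (.node (.leaf 87) (.leaf 1819)) (.leaf 0)))) (.node (.node (.node (.node (.leaf 399) (.leaf 1620)) (.leaf 0)) (.node (.node (.leaf 0) (.leaf 1576)) (.leaf 573))) (.node (.node (.node (.leaf 48) (.leaf 1353)) (.leaf 0)) (.node (.leaf 517) (.leaf 0)))))) (.node (.node (.node (.node (.node (.node (.leaf 0) (.leaf 244)) (.leaf 0)) (.node (.node (.leaf 0) (.leaf 1197))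 (.leaf 1868))) (.node (.node (.node (.leaf 853) (.leaf 1632)) (.leaf 0)) (.node (.node (.leaf 674) (.leaf 1809)) (.leaf 731)))) (.node (.node (.node (.node (.leaf 0) (.leaf 578)) (.leaf 1596)) (.node (.node (.leaf 1189) (.leaf 1798)) (.leaf 196))) (.node (.node (.node (.leaf 0) (.leaf 312)) (.leaf 1025)) (.node (.leaf 0) (.leaf 1444))))) (.node (.node (.node (.node (.node (.leaf 0) (.leaf 1601)) (.leaf 953)) (.node (.node (.leaf 0) (.leaf 1581)) (.leaf 1323))) (.node (.node (.node (.leaf 426) (.leaf 1241)) (.leaf 641)) (.node (.leaf 0) (.leaf 1228)))) (.node (.node (.node (.node (.leaf 0) (.leaf 283)) (.leaf 989)) (.node (.node (.leaf 0) (.leaf 1802)) (.leaf 597))) (.node (.node (.node (.leaf 834) (.leaf 830)) (.leaf 0)) (.node (.leaf 822) (.leaf 995)))))))) (.node (.node (.node (.node (.node (.node (.node (.node (.leaf 0) (.leaf 1693)) (.leaf 0)) (.node (.node (.leaf 0) (.leaf 1827)) (.leaf 0))) (.node (.node (.node (.leaf 0) (.leaf 286)) (.leaf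 1256)) (.node (.node (.leaf 0) (.leaf 1754)) (.leaf 1595)))) (.node (.node (.node (.node (.leaf 0) (.leaf 1850)) (.leaf 122)) (.node (.node (.leaf 0) (.leaf 1731)) (.leaf 1203))) (.node (.node (.node (.leaf 39) (.leaf 758)) (.leaf 787)) (.node (.leaf 980) (.leaf 223))))) (.node (.node (.node (.node (.node (.leaf 0) (.leaf 250)) (.leaf 409)) (.node (.node (.leaf 60) (.leaf 1555)) (.leaf 710))) (.node (.node (.node (.leaf 1190) (.leaf 1179)) (.leaf 143)) (.node (.node (.leaf 0) (.leaf 390)) (.leaf 1402)))) (.node (.node (.node (.node (.leaf 741) (.leaf 1763)) (.leaf 1587)) (.node (.node (.leaf 0) (.leaf 464)) (.leaf 202))) (.node (.node (.node (.leaf 532) (.leaf 1084)) (.leaf 1384)) (.node (.leaf 0) (.leaf 1598)))))) (.node (.node (.node (.node (.node (.node (.leaf 0) (.leaf 455)) (.leaf 0)) (.node (.node (.leaf 0) (.leaf 335)) (.leaf 1915))) (.node (.node (.node (.leaf 29) (.leaf 1385)) (.leaf 840)) (.node (.node (.leaf 680) (.leaf 1844)) (.leaf 0))))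 (.node (.node (.node (.node (.leaf 598) (.leaf 0)) (.leaf 0)) (.node (.node (.leaf 0) (.leaf 1780)) (.leaf 594))) (.node (.node (.node (.leaf 516) (.leaf 1319)) (.leaf 154)) (.node (.leaf 1001) (.leaf 945))))) (.node (.node (.node (.node (.node (.leaf 0) (.leaf 1814)) (.leaf 1485)) (.node (.node (.leaf 1073) (.leaf 0)) (.leaf 181))) (.node (.node (.node (.leaf 492) (.leaf 0)) (.leaf 1429)) (.node (.leaf 89) (.leaf 1506)))) (.node (.node (.node (.node (.leaf 0) (.leaf 1359)) (.leaf 0)) (.node (.node (.leaf 0) (.leaf 0)) (.leaf 1286))) (.node (.node (.node (.leaf 0) (.leaf 1895)) (.leaf 899)) (.node (.leaf 1893) (.leaf 236))))))) (.node (.node (.node (.node (.node (.node (.node (.leaf 0) (.leaf 1221)) (.leaf 0)) (.node (.node (.leaf 54) (.leaf 810)) (.leaf 1859))) (.node (.node (.node (.leaf 537) (.leaf 739)) (.leaf 138)) (.node (.node (.leaf 0) (.leaf 384)) (.leaf 1618)))) (.node (.node (.node (.node (.leaf 15) (.leaf 1526)) (.leaf 0)) (.node (.node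 (.leaf 0) (.leaf 1747)) (.leaf 956))) (.node (.node (.node (.leaf 962) (.leaf 306)) (.leaf 547)) (.node (.leaf 93) (.leaf 1391))))) (.node (.node (.node (.node (.node (.leaf 527) (.leaf 457)) (.leaf 117)) (.node (.node (.leaf 0) (.leaf 1255)) (.leaf 1007))) (.node (.node (.node (.leaf 0) (.leaf 1279)) (.leaf 1125)) (.node (.node (.leaf 0) (.leaf 1871)) (.leaf 1570)))) (.node (.node (.node (.node (.leaf 0) (.leaf 278)) (.leaf 1252)) (.node (.node (.leaf 0) (.leaf 1713)) (.leaf 1438))) (.node (.node (.node (.leaf 605) (.leaf 1469)) (.leaf 161)) (.node (.leaf 1822) (.leaf 1367)))))) (.node (.node (.node (.node (.node (.node (.leaf 0) (.leaf 748)) (.leaf 1588)) (.node (.node (.leaf 694) (.leaf 1111)) (.leaf 0))) (.node (.node (.node (.leaf 0) (.leaf 0)) (.leaf 0)) (.node (.node (.leaf 84) (.leaf 1676)) (.leaf 1151)))) (.node (.node (.node (.node (.leaf 0) (.leaf 1464)) (.leaf 1749)) (.node (.node (.leaf 465) (.leaf 364)) (.leaf 1894))) (.node (.node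 (.node (.leaf 0) (.leaf 1273)) (.leaf 0)) (.node (.leaf 1195) (.leaf 229))))) (.node (.node (.node (.node (.node (.leaf 0) (.leaf 258)) (.leaf 0)) (.node (.node (.leaf 0) (.leaf 417)) (.leaf 1140))) (.node (.node (.node (.leaf 0) (.leaf 1721)) (.leaf 0)) (.node (.leaf 542) (.leaf 1005)))) (.node (.node (.node (.node (.leaf 24) (.leaf 867)) (.leaf 471)) (.node (.node (.leaf 512) (.leaf 1799)) (.leaf 0))) (.node (.node (.node (.leaf 461) (.leaf 959)) (.leaf 1043)) (.node (.leaf 105) (.leaf 454))))))))) (.node (.node (.node (.node (.node (.node (.node (.node (.node (.leaf 0) (.leaf 1074)) (.leaf 0)) (.node (.node (.leaf 1020) (.leaf 327)) (.leaf 1039))) (.node (.node (.node (.leaf 25) (.leaf 1918)) (.leaf 649)) (.node (.node (.leaf 604) (.leaf 1804)) (.leaf 208)))) (.node (.node (.node (.node (.leaf 0) (.leaf 0)) (.leaf 556)) (.node (.node (.leaf 66) (.leaf 1554)) (.leaf 895))) (.node (.node (.node (.leaf 0) (.leaf 1932)) (.leaf 0)) (.node (.leaf 0)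 (.leaf 627))))) (.node (.node (.node (.node (.node (.leaf 0) (.leaf 805)) (.leaf 0)) (.node (.node (.leaf 774) (.leaf 1658)) (.leaf 0))) (.node (.node (.node (.leaf 0) (.leaf 293)) (.leaf 0)) (.node (.node (.leaf 0) (.leaf 1920)) (.leaf 1740)))) (.node (.node (.node (.node (.leaf 1178) (.leaf 1049)) (.leaf 130)) (.node (.node (.leaf 0) (.leaf 366)) (.leaf 850))) (.node (.node (.node (.leaf 47) (.leaf 1776)) (.leaf 0)) (.node (.leaf 0) (.leaf 230)))))) (.node (.node (.node (.node (.node (.node (.leaf 441) (.leaf 243)) (.leaf 656)) (.node (.node (.leaf 0) (.leaf 1459)) (.leaf 730))) (.node (.node (.node (.leaf 878) (.leaf 1316)) (.leaf 0)) (.node (.node (.leaf 0) (.leaf 387)) (.leaf 1209)))) (.node (.node (.node (.node (.leaf 0) (.leaf 652)) (.leaf 1415)) (.node (.node (.leaf 0) (.leaf 1477)) (.leaf 193))) (.node (.node (.node (.leaf 460) (.leaf 1038)) (.leaf 1216)) (.node (.leaf 0) (.leaf 1104))))) (.node (.node (.node (.node (.node (.leaf 0) (.leaf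 912)) (.leaf 0)) (.node (.node (.leaf 903) (.leaf 1580)) (.leaf 1520))) (.node (.node (.node (.leaf 0) (.leaf 1559)) (.leaf 1119)) (.node (.leaf 515) (.leaf 219)))) (.node (.node (.node (.node (.leaf 491) (.leaf 0)) (.leaf 778)) (.node (.node (.leaf 0) (.leaf 1781)) (.leaf 456))) (.node (.node (.node (.leaf 0) (.leaf 1468)) (.leaf 0)) (.node (.leaf 0) (.leaf 1413))))))) (.node (.node (.node (.node (.node (.node (.node (.leaf 2) (.leaf 0)) (.leaf 483)) (.node (.node (.leaf 0) (.leaf 1006)) (.leaf 0))) (.node (.node (.node (.leaf 0) (.leaf 288)) (.leaf 1461)) (.node (.node (.leaf 0) (.leaf 1495)) (.leaf 1866)))) (.node (.node (.node (.node (.leaf 501) (.leaf 1757)) (.leaf 124)) (.node (.node (.leaf 904) (.leaf 357)) (.leaf 0))) (.node (.node (.node (.leaf 0) (.leaf 560)) (.leaf 1637)) (.node (.leaf 981) (.leaf 225))))) (.node (.node (.node (.node (.node (.leaf 0) (.leaf 0)) (.leaf 0)) (.node (.node (.leaf 61) (.leaf 1902)) (.leaf 555))) (.node (.node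 (.node (.leaf 401) (.leaf 866)) (.leaf 1031)) (.node (.node (.leaf 0) (.leaf 391)) (.leaf 1542)))) (.node (.node (.node (.node (.leaf 0) (.leaf 1663)) (.leaf 1147)) (.node (.node (.leaf 0) (.leaf 727)) (.leaf 814))) (.node (.node (.node (.leaf 0) (.leaf 1282)) (.leaf 0)) (.node (.leaf 100) (.leaf 475)))))) (.node (.node (.node (.node (.node (.node (.leaf 0) (.leaf 1099)) (.leaf 0)) (.node (.node (.leaf 845) (.leaf 339)) (.leaf 921))) (.node (.node (.node (.leaf 30) (.leaf 1173)) (.leaf 886)) (.node (.node (.leaf 554) (.leaf 1150)) (.leaf 0)))) (.node (.node (.node (.node (.leaf 0) (.leaf 920)) (.leaf 0)) (.node (.node (.leaf 0) (.leaf 1943)) (.leaf 716))) (.node (.node (.node (.leaf 0) (.leaf 1514)) (.leaf 0)) (.node (.leaf 1616) (.leaf 1801))))) (.node (.node (.node (.node (.node (.leaf 0) (.leaf 0)) (.leaf 1364)) (.node (.node (.leaf 0) (.leaf 1437)) (.leaf 0))) (.node (.node (.node (.leaf 0) (.leaf 1725)) (.leaf 1504)) (.node (.leaf 91) (.leaf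 1689)))) (.node (.node (.node (.node (.leaf 613) (.leaf 1425)) (.leaf 0)) (.node (.node (.leaf 0) (.leaf 1583)) (.leaf 811))) (.node (.node (.node (.leaf 0) (.leaf 1399)) (.leaf 1162)) (.node (.leaf 869) (.leaf 0)))))))) (.node (.node (.node (.node (.node (.node (.node (.node (.leaf 0) (.leaf 0)) (.leaf 982)) (.node (.node (.leaf 0) (.leaf 1498)) (.leaf 1386))) (.node (.node (.node (.leaf 1033) (.leaf 1703)) (.leaf 0)) (.node (.node (.leaf 670) (.leaf 381)) (.leaf 1543)))) (.node (.node (.node (.node (.leaf 0) (.leaf 1779)) (.leaf 0)) (.node (.node (.leaf 0) (.leaf 1795)) (.leaf 0))) (.node (.node (.node (.leaf 0) (.leaf 0)) (.leaf 1382)) (.node (.leaf 92) (.leaf 1152))))) (.node (.node (.node (.node (.node (.leaf 0) (.leaf 0)) (.leaf 0)) (.node (.node (.leaf 986) (.leaf 346)) (.leaf 1274))) (.node (.node (.node (.leaf 806) (.leaf 1777)) (.leaf 1157)) (.node (.node (.leaf 977) (.leaf 1135)) (.leaf 772)))) (.node (.node (.node (.node (.leaf 0) (.leaf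 275)) (.leaf 1011)) (.node (.node (.leaf 0) (.leaf 1070)) (.leaf 677))) (.node (.node (.node (.leaf 403) (.leaf 719)) (.leaf 159)) (.node (.leaf 0) (.leaf 575)))))) (.node (.node (.node (.node (.node (.node (.leaf 4) (.leaf 1344)) (.leaf 1096)) (.node (.node (.leaf 0) (.leaf 0)) (.leaf 0))) (.node (.node (.node (.leaf 779) (.leaf 1141)) (.leaf 948)) (.node (.node (.leaf 0) (.leaf 1547)) (.leaf 1066)))) (.node (.node (.node (.node (.leaf 0) (.leaf 1094)) (.leaf 0)) (.node (.node (.leaf 965) (.leaf 1305)) (.leaf 1891))) (.node (.node (.node (.leaf 44) (.leaf 1051)) (.leaf 0)) (.node (.leaf 1767) (.leaf 227))))) (.node (.node (.node (.node (.node (.leaf 0) (.leaf 256)) (.leaf 0)) (.node (.node (.leaf 425) (.leaf 1704)) (.leaf 1124))) (.node (.node (.node (.leaf 0) (.leaf 1177)) (.leaf 147)) (.node (.leaf 975) (.leaf 1760)))) (.node (.node (.node (.node (.leaf 0) (.leaf 1435)) (.leaf 639)) (.node (.node (.leaf 0) (.leaf 1142)) (.leaf 0))) (.node (.node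 (.node (.leaf 708) (.leaf 0)) (.leaf 0)) (.node (.leaf 0) (.leaf 1224))))))) (.node (.node (.node (.node (.node (.node (.node (.leaf 0) (.leaf 1501)) (.leaf 0)) (.node (.node (.leaf 0) (.leaf 333)) (.leaf 0))) (.node (.node (.node (.leaf 0) (.leaf 653)) (.leaf 0)) (.node (.node (.leaf 933) (.leaf 1164)) (.leaf 211)))) (.node (.node (.node (.node (.leaf 632) (.leaf 265)) (.leaf 0)) (.node (.node (.leaf 0) (.leaf 1944)) (.leaf 1280))) (.node (.node (.node (.leaf 862) (.leaf 1297)) (.leaf 610)) (.node (.leaf 637) (.leaf 1467))))) (.node (.node (.node (.node (.node (.leaf 0) (.leaf 1904)) (.leaf 0)) (.node (.node (.leaf 0) (.leaf 1083)) (.leaf 0))) (.node (.node (.node (.leaf 0) (.leaf 298)) (.leaf 0)) (.node (.node (.leaf 0) (.leaf 1942)) (.leaf 1133)))) (.node (.node (.node (.node (.leaf 0) (.leaf 1824)) (.leaf 576)) (.node (.node (.leaf 0) (.leaf 370)) (.leaf 413))) (.node (.node (.node (.leaf 0) (.leaf 1673)) (.leaf 450)) (.node (.leaf 1042) (.leaf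 1248)))))) (.node (.node (.node (.node (.node (.node (.leaf 0) (.leaf 0)) (.leaf 1057)) (.node (.node (.leaf 0) (.leaf 661)) (.leaf 1447))) (.node (.node (.node (.leaf 0) (.leaf 1418)) (.leaf 1199)) (.node (.node (.leaf 686) (.leaf 0)) (.leaf 1458)))) (.node (.node (.node (.node (.leaf 18) (.leaf 0)) (.leaf 851)) (.node (.node (.leaf 521) (.leaf 1483)) (.leaf 199))) (.node (.node (.node (.leaf 1594) (.leaf 316)) (.leaf 876)) (.node (.leaf 0) (.leaf 888))))) (.node (.node (.node (.node (.node (.leaf 529) (.leaf 1408)) (.leaf 770)) (.node (.node (.leaf 0) (.leaf 353)) (.leaf 571))) (.node (.node (.node (.leaf 0) (.leaf 1211)) (.leaf 1102)) (.node (.leaf 407) (.leaf 0)))) (.node (.node (.node (.node (.leaf 0) (.leaf 284)) (.leaf 1710)) (.node (.node (.leaf 79) (.leaf 1888)) (.leaf 1786))) (.node (.node (.node (.leaf 900) (.leaf 0)) (.leaf 1566)) (.node (.leaf 0) (.leaf 487)))))))))) (.node (.node (.node (.node (.node (.node (.node (.node (.node (.node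 (.leaf 0) (.leaf 1350)) (.leaf 0)) (.node (.node (.leaf 0) (.leaf 1249)) (.leaf 166))) (.node (.node (.node (.leaf 0) (.leaf 285)) (.leaf 0)) (.node (.node (.leaf 0) (.leaf 1912)) (.leaf 0)))) (.node (.node (.node (.node (.leaf 835) (.leaf 1613)) (.leaf 121)) (.node (.node (.leaf 0) (.leaf 354)) (.leaf 1430))) (.node (.node (.node (.leaf 0) (.leaf 1301)) (.leaf 1354)) (.node (.leaf 0) (.leaf 222))))) (.node (.node (.node (.node (.node (.leaf 0) (.leaf 248)) (.leaf 757)) (.node (.node (.leaf 0) (.leaf 0)) (.leaf 1272))) (.node (.node (.node (.leaf 538) (.leaf 1191)) (.leaf 721)) (.node (.node (.leaf 0) (.leaf 1505)) (.leaf 1292)))) (.node (.node (.node (.node (.leaf 0) (.leaf 0)) (.leaf 1095)) (.node (.node (.leaf 0) (.leaf 1711)) (.leaf 0))) (.node (.node (.node (.leaf 0) (.leaf 595)) (.leaf 935)) (.node (.leaf 0) (.leaf 1117)))))) (.node (.node (.node (.node (.node (.node (.leaf 0) (.leaf 1313)) (.leaf 0)) (.node (.node (.leaf 0) (.leaf 334)) (.leaf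 1608))) (.node (.node (.node (.leaf 0) (.leaf 813)) (.leaf 0)) (.node (.node (.leaf 842) (.leaf 572)) (.leaf 212)))) (.node (.node (.node (.node (.leaf 0) (.leaf 0)) (.leaf 1192)) (.node (.node (.leaf 70) (.leaf 1479)) (.leaf 877))) (.node (.node (.node (.leaf 1166) (.leaf 1236)) (.leaf 0)) (.node (.leaf 722) (.leaf 1183))))) (.node (.node (.node (.node (.node (.leaf 0) (.leaf 1685)) (.leaf 479)) (.node (.node (.leaf 548) (.leaf 462)) (.leaf 1898))) (.node (.node (.node (.leaf 0) (.leaf 299)) (.leaf 1338)) (.node (.node (.leaf 88) (.leaf 1784)) (.leaf 820)))) (.node (.node (.node (.node (.leaf 0) (.leaf 1862)) (.leaf 134)) (.node (.node (.leaf 915) (.leaf 372)) (.leaf 1892))) (.node (.node (.node (.leaf 0) (.leaf 706)) (.leaf 782)) (.node (.leaf 0) (.leaf 581))))))) (.node (.node (.node (.node (.node (.node (.node (.leaf 0) (.leaf 0)) (.leaf 0)) (.node (.node (.leaf 0) (.leaf 1324)) (.leaf 0))) (.node (.node (.node (.leaf 0) (.leaf 1865)) (.leaf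 0)) (.node (.node (.leaf 0) (.leaf 383)) (.leaf 1889)))) (.node (.node (.node (.node (.leaf 0) (.leaf 415)) (.leaf 0)) (.node (.node (.leaf 0) (.leaf 1478)) (.leaf 1271))) (.node (.node (.node (.leaf 1185) (.leaf 0)) (.leaf 993)) (.node (.leaf 0) (.leaf 1829))))) (.node (.node (.node (.node (.node (.leaf 0) (.leaf 1646)) (.leaf 0)) (.node (.node (.leaf 0) (.leaf 1579)) (.leaf 941))) (.node (.node (.node (.leaf 33) (.leaf 1034)) (.leaf 1187)) (.node (.node (.leaf 833) (.leaf 1805)) (.leaf 217)))) (.node (.node (.node (.node (.leaf 0) (.leaf 276)) (.leaf 0)) (.node (.node (.leaf 568) (.leaf 1773)) (.leaf 856))) (.node (.node (.node (.leaf 0) (.leaf 1705)) (.leaf 160)) (.node (.leaf 0) (.leaf 1682)))))) (.node (.node (.node (.node (.node (.node (.leaf 0) (.leaf 1945)) (.leaf 970)) (.node (.node (.leaf 1174) (.leaf 1436)) (.leaf 1225))) (.node (.node (.node (.leaf 0) (.leaf 1881)) (.leaf 0)) (.node (.node (.leaf 83) (.leaf 1306)) (.leaf 1442)))) (.node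 (.node (.node (.node (.leaf 894) (.leaf 1680)) (.leaf 128)) (.node (.node (.leaf 1149) (.leaf 1575)) (.leaf 1423))) (.node (.node (.node (.leaf 0) (.leaf 1729)) (.leaf 1497)) (.node (.leaf 565) (.leaf 228))))) (.node (.node (.node (.node (.node (.leaf 0) (.leaf 1688)) (.leaf 844)) (.node (.node (.leaf 64) (.leaf 662)) (.leaf 1390))) (.node (.node (.node (.leaf 0) (.leaf 1640)) (.leaf 0)) (.node (.leaf 1393) (.leaf 976)))) (.node (.node (.node (.node (.leaf 0) (.leaf 1766)) (.leaf 1633)) (.node (.node (.leaf 0) (.leaf 1355)) (.leaf 657))) (.node (.node (.node (.leaf 0) (.leaf 322)) (.leaf 1439)) (.node (.leaf 854) (.leaf 0)))))))) (.node (.node (.node (.node (.node (.node (.node (.node (.leaf 0) (.leaf 0)) (.leaf 107)) (.node (.node (.leaf 669) (.leaf 328)) (.leaf 0))) (.node (.node (.node (.leaf 26) (.leaf 1815)) (.leaf 0)) (.node (.node (.leaf 0) (.leaf 832)) (.leaf 1702)))) (.node (.node (.node (.node (.leaf 0) (.leaf 773)) (.leaf 1368)) (.node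 (.node (.leaf 0) (.leaf 1925)) (.leaf 0))) (.node (.node (.node (.leaf 506) (.leaf 1886)) (.leaf 150)) (.node (.leaf 1358) (.leaf 765))))) (.node (.node (.node (.node (.node (.leaf 0) (.leaf 1420)) (.leaf 651)) (.node (.node (.leaf 0) (.leaf 1154)) (.leaf 0))) (.node (.node (.node (.leaf 453) (.leaf 294)) (.leaf 745)) (.node (.node (.leaf 1054) (.leaf 1558)) (.leaf 1079)))) (.node (.node (.node (.node (.leaf 493) (.leaf 1285)) (.leaf 586)) (.node (.node (.leaf 893) (.leaf 1876)) (.leaf 1398))) (.node (.node (.node (.leaf 0) (.leaf 952)) (.leaf 0)) (.node (.leaf 0) (.leaf 1756)))))) (.node (.node (.node (.node (.node (.node (.leaf 0) (.leaf 0)) (.leaf 0)) (.node (.node (.leaf 0) (.leaf 1816)) (.leaf 1015))) (.node (.node (.node (.leaf 0) (.leaf 1144)) (.leaf 139)) (.node (.node (.leaf 0) (.leaf 389)) (.leaf 650)))) (.node (.node (.node (.node (.leaf 0) (.leaf 1452)) (.leaf 1416)) (.node (.node (.leaf 714) (.leaf 1855)) (.leaf 0))) (.node (.node (.node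 (.leaf 0) (.leaf 310)) (.leaf 1533)) (.node (.leaf 0) (.leaf 821))))) (.node (.node (.node (.node (.node (.leaf 500) (.leaf 0)) (.leaf 119)) (.node (.node (.leaf 0) (.leaf 349)) (.leaf 1611))) (.node (.node (.node (.leaf 0) (.leaf 1492)) (.leaf 1012)) (.node (.leaf 618) (.leaf 1700)))) (.node (.node (.node (.node (.leaf 0) (.leaf 282)) (.leaf 875)) (.node (.node (.leaf 0) (.leaf 1373)) (.leaf 1128))) (.node (.node (.node (.leaf 0) (.leaf 891)) (.leaf 0)) (.node (.leaf 0) (.leaf 1627))))))) (.node (.node (.node (.node (.node (.node (.node (.leaf 0) (.leaf 0)) (.leaf 445)) (.node (.node (.leaf 544) (.leaf 1103)) (.leaf 0))) (.node (.node (.node (.leaf 0) (.leaf 955)) (.leaf 991)) (.node (.node (.leaf 0) (.leaf 1675)) (.leaf 1289)))) (.node (.node (.node (.node (.leaf 922) (.leaf 600)) (.leaf 1563)) (.node (.node (.leaf 775) (.leaf 359)) (.leaf 1621))) (.node (.node (.node (.leaf 0) (.leaf 1644)) (.leaf 0)) (.node (.leaf 1593) (.leaf 0))))) (.node (.node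 (.node (.node (.node (.leaf 0) (.leaf 0)) (.leaf 874)) (.node (.node (.leaf 0) (.leaf 704)) (.leaf 1443))) (.node (.node (.node (.leaf 0) (.leaf 1314)) (.leaf 0)) (.node (.node (.leaf 0) (.leaf 393)) (.leaf 1419)))) (.node (.node (.node (.node (.leaf 0) (.leaf 0)) (.leaf 1052)) (.node (.node (.leaf 0) (.leaf 1714)) (.leaf 204))) (.node (.node (.node (.leaf 910) (.leaf 1709)) (.leaf 1227)) (.node (.leaf 101) (.leaf 1405)))))) (.node (.node (.node (.node (.node (.node (.leaf 0) (.leaf 1854)) (.leaf 0)) (.node (.node (.leaf 0) (.leaf 341)) (.leaf 908))) (.node (.node (.node (.leaf 0) (.leaf 1471)) (.leaf 468)) (.node (.node (.leaf 611) (.leaf 1874)) (.leaf 0)))) (.node (.node (.node (.node (.leaf 0) (.leaf 0)) (.leaf 0)) (.node (.node (.leaf 1186) (.leaf 1778)) (.leaf 1606))) (.node (.node (.node (.leaf 0) (.leaf 1708)) (.leaf 156)) (.node (.leaf 678) (.leaf 797))))) (.node (.node (.node (.node (.node (.leaf 12) (.leaf 1610)) (.leaf 809)) (.node (.node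 (.leaf 1349) (.leaf 1794)) (.leaf 184))) (.node (.node (.node (.leaf 439) (.leaf 1270)) (.leaf 1718)) (.node (.leaf 0) (.leaf 712)))) (.node (.node (.node (.node (.leaf 846) (.leaf 1825)) (.leaf 0)) (.node (.node (.leaf 419) (.leaf 376)) (.leaf 1919))) (.node (.node (.node (.leaf 0) (.leaf 1728)) (.leaf 474)) (.node (.leaf 408) (.leaf 1431))))))))) (.node (.node (.node (.node (.node (.node (.node (.node (.node (.leaf 0) (.leaf 238)) (.leaf 1239)) (.node (.node (.leaf 0) (.leaf 1454)) (.leaf 1774))) (.node (.node (.node (.leaf 535) (.leaf 1823)) (.leaf 0)) (.node (.node (.leaf 0) (.leaf 379)) (.leaf 1617)))) (.node (.node (.node (.node (.leaf 0) (.leaf 665)) (.leaf 0)) (.node (.node (.leaf 0) (.leaf 1875)) (.leaf 0))) (.node (.node (.node (.leaf 0) (.leaf 1940)) (.leaf 617)) (.node (.leaf 0) (.leaf 1028))))) (.node (.node (.node (.node (.node (.leaf 0) (.leaf 812)) (.leaf 115)) (.node (.node (.leaf 0) (.leaf 1758)) (.leaf 1071))) (.node (.node (.node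 (.leaf 0) (.leaf 1538)) (.leaf 1205)) (.node (.node (.leaf 0) (.leaf 1884)) (.leaf 216)))) (.node (.node (.node (.node (.leaf 447) (.leaf 273)) (.leaf 0)) (.node (.node (.leaf 0) (.leaf 1283)) (.leaf 1062))) (.node (.node (.node (.leaf 0) (.leaf 885)) (.leaf 158)) (.node (.leaf 0) (.leaf 0)))))) (.node (.node (.node (.node (.node (.node (.leaf 0) (.leaf 0)) (.leaf 0)) (.node (.node (.leaf 0) (.leaf 660)) (.leaf 173))) (.node (.node (.node (.leaf 0) (.leaf 1491)) (.leaf 1907)) (.node (.node (.leaf 0) (.leaf 1230)) (.leaf 829)))) (.node (.node (.node (.node (.leaf 0) (.leaf 1018)) (.leaf 0)) (.node (.node (.leaf 1092) (.leaf 1743)) (.leaf 1268))) (.node (.node (.node (.leaf 1019) (.leaf 1811)) (.leaf 0)) (.node (.leaf 1493) (.leaf 749))))) (.node (.node (.node (.node (.node (.leaf 0) (.leaf 0)) (.leaf 964)) (.node (.node (.leaf 0) (.leaf 0)) (.leaf 1602))) (.node (.node (.node (.leaf 742) (.leaf 1796)) (.leaf 0)) (.node (.leaf 1022) (.leaf 414))))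 (.node (.node (.node (.node (.leaf 0) (.leaf 579)) (.leaf 1631)) (.node (.node (.leaf 0) (.leaf 1656)) (.leaf 859))) (.node (.node (.node (.leaf 0) (.leaf 1715)) (.leaf 793)) (.node (.leaf 103) (.leaf 1097))))))) (.node (.node (.node (.node (.node (.node (.node (.leaf 525) (.leaf 473)) (.leaf 109)) (.node (.node (.leaf 0) (.leaf 752)) (.leaf 692))) (.node (.node (.node (.leaf 27) (.leaf 1933)) (.leaf 0)) (.node (.node (.leaf 1008) (.leaf 1883)) (.leaf 210)))) (.node (.node (.node (.node (.leaf 0) (.leaf 264)) (.leaf 803)) (.node (.node (.leaf 0) (.leaf 0)) (.leaf 825))) (.node (.node (.node (.leaf 0) (.leaf 724)) (.leaf 0)) (.node (.leaf 733) (.leaf 1466))))) (.node (.node (.node (.node (.node (.leaf 8) (.leaf 0)) (.leaf 1253)) (.node (.node (.leaf 0) (.leaf 477)) (.leaf 0))) (.node (.node (.node (.leaf 0) (.leaf 0)) (.leaf 1251)) (.node (.node (.leaf 0) (.leaf 1562)) (.leaf 1657)))) (.node (.node (.node (.node (.leaf 0) (.leaf 911)) (.leaf 132))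 (.node (.node (.leaf 0) (.leaf 368)) (.leaf 764))) (.node (.node (.node (.leaf 0) (.leaf 1176)) (.leaf 1198)) (.node (.leaf 1363) (.leaf 1412)))))) (.node (.node (.node (.node (.node (.node (.leaf 0) (.leaf 245)) (.leaf 1406)) (.node (.node (.leaf 58) (.leaf 1928)) (.leaf 0))) (.node (.node (.node (.leaf 0) (.leaf 1490)) (.leaf 0)) (.node (.node (.leaf 1247) (.leaf 1748)) (.leaf 709)))) (.node (.node (.node (.node (.leaf 0) (.leaf 1908)) (.leaf 1751)) (.node (.node (.leaf 1168) (.leaf 1210)) (.leaf 197))) (.node (.node (.node (.leaf 0) (.leaf 314)) (.leaf 1517)) (.node (.leaf 0) (.leaf 1427))))) (.node (.node (.node (.node (.node (.leaf 0) (.leaf 1003)) (.leaf 120)) (.node (.node (.leaf 0) (.leaf 352)) (.leaf 1276))) (.node (.node (.node (.leaf 37) (.leaf 1769)) (.leaf 1410)) (.node (.leaf 1171) (.leaf 221)))) (.node (.node (.node (.node (.leaf 0) (.leaf 436)) (.leaf 0)) (.node (.node (.leaf 0) (.leaf 1510)) (.leaf 1287))) (.node (.node (.node (.leaf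 0) (.leaf 0)) (.leaf 0)) (.node (.leaf 818) (.leaf 1414)))))))) (.node (.node (.node (.node (.node (.node (.node (.node (.leaf 0) (.leaf 0)) (.leaf 0)) (.node (.node (.leaf 928) (.leaf 823)) (.leaf 0))) (.node (.node (.node (.leaf 0) (.leaf 287)) (.leaf 1518)) (.node (.node (.leaf 0) (.leaf 728)) (.leaf 1653)))) (.node (.node (.node (.node (.leaf 0) (.leaf 693)) (.leaf 123)) (.node (.node (.leaf 0) (.leaf 356)) (.leaf 0))) (.node (.node (.node (.leaf 40) (.leaf 1245)) (.leaf 0)) (.node (.leaf 936) (.leaf 224))))) (.node (.node (.node (.node (.node (.leaf 0) (.leaf 251)) (.leaf 0)) (.node (.node (.leaf 0) (.leaf 1662)) (.leaf 1352))) (.node (.node (.node (.leaf 494) (.leaf 1100)) (.leaf 0)) (.node (.node (.leaf 1213) (.leaf 1303)) (.leaf 763)))) (.node (.node (.node (.node (.leaf 20) (.leaf 1647)) (.leaf 0)) (.node (.node (.leaf 1217) (.leaf 1803)) (.leaf 0))) (.node (.node (.node (.leaf 0) (.leaf 0)) (.leaf 1345)) (.node (.leaf 0) (.leaf 984))))))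 (.node (.node (.node (.node (.node (.node (.leaf 397) (.leaf 1098)) (.leaf 0)) (.node (.node (.leaf 0) (.leaf 337)) (.leaf 916))) (.node (.node (.node (.leaf 0) (.leaf 1626)) (.leaf 0)) (.node (.node (.leaf 1480) (.leaf 1651)) (.leaf 213)))) (.node (.node (.node (.node (.leaf 635) (.leaf 267)) (.leaf 567)) (.node (.node (.leaf 0) (.leaf 1494)) (.leaf 1266))) (.node (.node (.node (.leaf 402) (.leaf 1791)) (.leaf 0)) (.node (.leaf 776) (.leaf 1897))))) (.node (.node (.node (.node (.node (.leaf 11) (.leaf 1903)) (.leaf 1009)) (.node (.node (.leaf 616) (.leaf 1156)) (.leaf 182))) (.node (.node (.node (.leaf 0) (.leaf 666)) (.leaf 1730)) (.node (.leaf 90) (.leaf 1093)))) (.node (.node (.node (.node (.leaf 0) (.leaf 1764)) (.leaf 0)) (.node (.node (.leaf 816) (.leaf 1090)) (.leaf 746))) (.node (.node (.node (.leaf 50) (.leaf 690)) (.leaf 974)) (.node (.leaf 1200) (.leaf 237))))))) (.node (.node (.node (.node (.node (.node (.node (.leaf 0) (.leaf 0)) (.leaf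 0)) (.node (.node (.leaf 0) (.leaf 924)) (.leaf 1153))) (.node (.node (.node (.leaf 0) (.leaf 1834)) (.leaf 0)) (.node (.node (.leaf 0) (.leaf 385)) (.leaf 1619)))) (.node (.node (.node (.node (.leaf 0) (.leaf 1549)) (.leaf 0)) (.node (.node (.leaf 655) (.leaf 1500)) (.leaf 191))) (.node (.node (.node (.leaf 979) (.leaf 307)) (.leaf 0)) (.node (.leaf 0) (.leaf 1623))))) (.node (.node (.node (.node (.node (.leaf 0) (.leaf 990)) (.leaf 118)) (.node (.node (.leaf 0) (.leaf 347)) (.leaf 663))) (.node (.node (.node (.leaf 769) (.leaf 860)) (.leaf 449)) (.node (.node (.leaf 0) (.leaf 852)) (.leaf 218)))) (.node (.node (.node (.node (.leaf 0) (.leaf 280)) (.leaf 609)) (.node (.node (.leaf 0) (.leaf 926)) (.leaf 1378))) (.node (.node (.node (.leaf 0) (.leaf 1055)) (.leaf 0)) (.node (.leaf 0) (.leaf 1926)))))) (.node (.node (.node (.node (.node (.node (.leaf 0) (.leaf 836)) (.leaf 469)) (.node (.node (.leaf 0) (.leaf 1696)) (.leaf 1567))) (.node (.node (.node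 (.leaf 0) (.leaf 1058)) (.leaf 1194)) (.node (.node (.leaf 85) (.leaf 1922)) (.leaf 1215)))) (.node (.node (.node (.node (.leaf 531) (.leaf 1032)) (.leaf 129)) (.node (.node (.leaf 0) (.leaf 1742)) (.leaf 0))) (.node (.node (.node (.leaf 46) (.leaf 1557)) (.leaf 0)) (.node (.leaf 482) (.leaf 0))))) (.node (.node (.node (.node (.node (.leaf 0) (.leaf 260)) (.leaf 624)) (.node (.node (.leaf 65) (.leaf 1783)) (.leaf 1841))) (.node (.node (.node (.leaf 513) (.leaf 1238)) (.leaf 0)) (.node (.leaf 444) (.leaf 1296)))) (.node (.node (.node (.node (.leaf 0) (.leaf 1488)) (.leaf 0)) (.node (.node (.leaf 1330) (.leaf 1744)) (.leaf 1233))) (.node (.node (.node (.leaf 0) (.leaf 325)) (.leaf 1914)) (.node (.leaf 0) (.leaf 998))))))))))) (.node (.node (.node (.node (.node (.node (.node (.node (.node (.node (.node (.leaf 0) (.leaf 1755)) (.leaf 106)) (.node (.node (.leaf 0) (.leaf 326)) (.leaf 0))) (.node (.node (.node (.leaf 0) (.leaf 1527)) (.leaf 1048)) (.node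 (.node (.leaf 1222) (.leaf 1160)) (.leaf 0)))) (.node (.node (.node (.node (.leaf 0) (.leaf 1569)) (.leaf 720)) (.node (.node (.leaf 0) (.leaf 1489)) (.leaf 1017))) (.node (.node (.node (.leaf 0) (.leaf 0)) (.leaf 0)) (.node (.leaf 1231) (.leaf 1531))))) (.node (.node (.node (.node (.node (.leaf 6) (.leaf 1540)) (.leaf 707)) (.node (.node (.leaf 961) (.leaf 1181)) (.leaf 177))) (.node (.node (.node (.leaf 0) (.leaf 0)) (.leaf 511)) (.node (.node (.leaf 1193) (.leaf 1335)) (.leaf 1110)))) (.node (.node (.node (.node (.leaf 502) (.leaf 1172)) (.leaf 0)) (.node (.node (.leaf 0) (.leaf 0)) (.leaf 645))) (.node (.node (.node (.leaf 0) (.leaf 923)) (.leaf 0)) (.node (.leaf 784) (.leaf 0)))))) (.node (.node (.node (.node (.node (.node (.leaf 0) (.leaf 242)) (.leaf 0)) (.node (.node (.leaf 55) (.leaf 1180)) (.leaf 738))) (.node (.node (.node (.leaf 963) (.leaf 1424)) (.leaf 771)) (.node (.node (.leaf 443) (.leaf 386)) (.leaf 1496)))) (.node (.node (.node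 (.node (.leaf 16) (.leaf 1529)) (.leaf 446)) (.node (.node (.leaf 1169) (.leaf 1446)) (.leaf 192))) (.node (.node (.node (.leaf 0) (.leaf 308)) (.leaf 905)) (.node (.leaf 94) (.leaf 1072))))) (.node (.node (.node (.node (.node (.leaf 0) (.leaf 0)) (.leaf 0)) (.node (.node (.leaf 0) (.leaf 0)) (.leaf 412))) (.node (.node (.node (.leaf 0) (.leaf 1910)) (.leaf 1860)) (.node (.node (.leaf 1259) (.leaf 1878)) (.leaf 0)))) (.node (.node (.node (.node (.leaf 0) (.leaf 1264)) (.leaf 684)) (.node (.node (.leaf 0) (.leaf 1934)) (.leaf 1002))) (.node (.node (.node (.leaf 960) (.leaf 1016)) (.leaf 0)) (.node (.leaf 0) (.leaf 685))))))) (.node (.node (.node (.node (.node (.node (.node (.leaf 0) (.leaf 523)) (.leaf 559)) (.node (.node (.leaf 0) (.leaf 664)) (.leaf 169))) (.node (.node (.node (.leaf 0) (.leaf 0)) (.leaf 558)) (.node (.node (.leaf 0) (.leaf 1085)) (.leaf 1872)))) (.node (.node (.node (.node (.leaf 530) (.leaf 1669)) (.leaf 0)) (.node (.node (.leaf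 442) (.leaf 1476)) (.leaf 522))) (.node (.node (.node (.leaf 41) (.leaf 815)) (.leaf 0)) (.node (.leaf 1441) (.leaf 0))))) (.node (.node (.node (.node (.node (.leaf 0) (.leaf 252)) (.leaf 608)) (.node (.node (.leaf 629) (.leaf 488)) (.leaf 1339))) (.node (.node (.node (.leaf 0) (.leaf 1145)) (.leaf 145)) (.node (.node (.leaf 0) (.leaf 1821)) (.leaf 1304)))) (.node (.node (.node (.node (.leaf 420) (.leaf 1544)) (.leaf 1139)) (.node (.node (.leaf 0) (.leaf 1697)) (.leaf 203))) (.node (.node (.node (.leaf 440) (.leaf 1571)) (.leaf 0)) (.node (.leaf 607) (.leaf 1148)))))) (.node (.node (.node (.node (.node (.node (.leaf 498) (.leaf 646)) (.leaf 0)) (.node (.node (.leaf 0) (.leaf 338)) (.leaf 411))) (.node (.node (.node (.leaf 0) (.leaf 1535)) (.leaf 848)) (.node (.node (.leaf 1250) (.leaf 1109)) (.leaf 725)))) (.node (.node (.node (.node (.leaf 0) (.leaf 268)) (.leaf 1509)) (.node (.node (.leaf 72) (.leaf 1262)) (.leaf 987))) (.node (.node (.node (.leaf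 507) (.leaf 1833)) (.leaf 155)) (.node (.leaf 0) (.leaf 1366))))) (.node (.node (.node (.node (.node (.leaf 0) (.leaf 1753)) (.leaf 673)) (.node (.node (.leaf 0) (.leaf 1770)) (.leaf 183))) (.node (.node (.node (.leaf 0) (.leaf 300)) (.leaf 1389)) (.node (.leaf 0) (.leaf 1295)))) (.node (.node (.node (.node (.leaf 400) (.leaf 599)) (.leaf 0)) (.node (.node (.leaf 0) (.leaf 374)) (.leaf 1004))) (.node (.node (.node (.leaf 0) (.leaf 1694)) (.leaf 0)) (.node (.leaf 868) (.leaf 0)))))))) (.node (.node (.node (.node (.node (.node (.node (.node (.leaf 0) (.leaf 239)) (.leaf 794)) (.node (.node (.leaf 53) (.leaf 1552)) (.leaf 1281))) (.node (.node (.node (.leaf 0) (.leaf 1654)) (.leaf 0)) (.node (.node (.leaf 0) (.leaf 380)) (.leaf 1734)))) (.node (.node (.node (.node (.leaf 0) (.leaf 1275)) (.leaf 0)) (.node (.node (.leaf 0) (.leaf 1846)) (.leaf 187))) (.node (.node (.node (.leaf 0) (.leaf 304)) (.leaf 1263)) (.node (.leaf 0) (.leaf 1372))))) (.node (.node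 (.node (.node (.node (.leaf 0) (.leaf 1604)) (.leaf 429)) (.node (.node (.leaf 0) (.leaf 345)) (.leaf 0))) (.node (.node (.node (.leaf 32) (.leaf 1365)) (.leaf 1024)) (.node (.node (.leaf 0) (.leaf 1667)) (.leaf 1684)))) (.node (.node (.node (.node (.leaf 0) (.leaf 274)) (.leaf 524)) (.node (.node (.leaf 75) (.leaf 1481)) (.leaf 1793))) (.node (.node (.node (.leaf 0) (.leaf 729)) (.leaf 0)) (.node (.leaf 0) (.leaf 0)))))) (.node (.node (.node (.node (.node (.node (.leaf 0) (.leaf 1470)) (.leaf 0)) (.node (.node (.leaf 546) (.leaf 0)) (.leaf 174))) (.node (.node (.node (.leaf 0) (.leaf 290)) (.leaf 1541)) (.node (.node (.leaf 0) (.leaf 1800)) (.leaf 898)))) (.node (.node (.node (.node (.leaf 754) (.leaf 880)) (.leaf 0)) (.node (.node (.leaf 1212) (.leaf 362)) (.leaf 0))) (.node (.node (.node (.leaf 582) (.leaf 1041)) (.leaf 1638)) (.node (.leaf 1432) (.leaf 0))))) (.node (.node (.node (.node (.node (.leaf 0) (.leaf 255)) (.leaf 1346)) (.node (.node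 (.leaf 63) (.leaf 1045)) (.leaf 901))) (.node (.node (.node (.leaf 540) (.leaf 459)) (.leaf 0)) (.node (.leaf 1343) (.leaf 1525)))) (.node (.node (.node (.node (.leaf 23) (.leaf 1487)) (.leaf 817)) (.node (.node (.leaf 1165) (.leaf 1655)) (.leaf 0))) (.node (.node (.node (.leaf 0) (.leaf 1284)) (.leaf 997)) (.node (.leaf 0) (.leaf 1837))))))) (.node (.node (.node (.node (.node (.node (.node (.leaf 497) (.leaf 1600)) (.leaf 110)) (.node (.node (.leaf 0) (.leaf 332)) (.leaf 785))) (.node (.node (.node (.leaf 0) (.leaf 1229)) (.leaf 448)) (.node (.node (.leaf 553) (.leaf 1678)) (.leaf 0)))) (.node (.node (.node (.node (.leaf 451) (.leaf 0)) (.leaf 1204)) (.node (.node (.leaf 0) (.leaf 1771)) (.leaf 587))) (.node (.node (.node (.leaf 0) (.leaf 1772)) (.leaf 0)) (.node (.leaf 1831) (.leaf 1664))))) (.node (.node (.node (.node (.node (.leaf 0) (.leaf 0)) (.leaf 831)) (.node (.node (.leaf 1370) (.leaf 1146)) (.leaf 179))) (.node (.node (.node (.leaf 0)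 (.leaf 297)) (.leaf 1184)) (.node (.node (.leaf 0) (.leaf 1309)) (.leaf 642)))) (.node (.node (.node (.node (.leaf 0) (.leaf 1050)) (.leaf 133)) (.node (.node (.leaf 0) (.leaf 369)) (.leaf 1265))) (.node (.node (.node (.leaf 0) (.leaf 947)) (.leaf 1853)) (.node (.leaf 1938) (.leaf 234)))))) (.node (.node (.node (.node (.node (.node (.leaf 0) (.leaf 246)) (.leaf 644)) (.node (.node (.leaf 0) (.leaf 801)) (.leaf 0))) (.node (.node (.node (.leaf 931) (.leaf 0)) (.leaf 142)) (.node (.node (.leaf 0) (.leaf 1326)) (.leaf 702)))) (.node (.node (.node (.node (.leaf 0) (.leaf 1534)) (.leaf 1586)) (.node (.node (.leaf 0) (.leaf 1826)) (.leaf 198))) (.node (.node (.node (.leaf 0) (.leaf 315)) (.leaf 1679)) (.node (.leaf 97) (.leaf 828))))) (.node (.node (.node (.node (.node (.leaf 0) (.leaf 800)) (.leaf 0)) (.node (.node (.leaf 0) (.leaf 1706)) (.leaf 0))) (.node (.node (.node (.leaf 38) (.leaf 1643)) (.leaf 1838)) (.node (.leaf 0) (.leaf 435)))) (.node (.node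 (.node (.node (.leaf 438) (.leaf 957)) (.leaf 918)) (.node (.node (.leaf 0) (.leaf 1723)) (.leaf 1650))) (.node (.node (.node (.leaf 969) (.leaf 566)) (.leaf 165)) (.node (.leaf 0) (.leaf 1724))))))))) (.node (.node (.node (.node (.node (.node (.node (.node (.node (.leaf 0) (.leaf 1029)) (.leaf 1077)) (.node (.node (.leaf 0) (.leaf 889)) (.leaf 167))) (.node (.node (.node (.leaf 0) (.leaf 1840)) (.leaf 1375)) (.node (.node (.leaf 80) (.leaf 1818)) (.leaf 1851)))) (.node (.node (.node (.node (.leaf 0) (.leaf 577)) (.leaf 0)) (.node (.node (.leaf 0) (.leaf 1582)) (.leaf 1612))) (.node (.node (.node (.leaf 0) (.leaf 1900)) (.leaf 1356)) (.node (.leaf 1361) (.leaf 0))))) (.node (.node (.node (.node (.node (.leaf 0) (.leaf 249)) (.leaf 0)) (.node (.node (.leaf 0) (.leaf 1395)) (.leaf 1091))) (.node (.node (.node (.leaf 1516) (.leaf 1607)) (.leaf 0)) (.node (.node (.leaf 1591) (.leaf 1327)) (.leaf 1067)))) (.node (.node (.node (.node (.leaf 19) (.leaf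 1545)) (.leaf 470)) (.node (.node (.leaf 0) (.leaf 1088)) (.leaf 201))) (.node (.node (.node (.leaf 0) (.leaf 317)) (.leaf 0)) (.node (.leaf 0) (.leaf 0)))))) (.node (.node (.node (.node (.node (.node (.leaf 0) (.leaf 557)) (.leaf 111)) (.node (.node (.leaf 0) (.leaf 1870)) (.leaf 1553))) (.node (.node (.node (.leaf 0) (.leaf 1499)) (.leaf 550)) (.node (.node (.leaf 490) (.leaf 906)) (.leaf 870)))) (.node (.node (.node (.node (.leaf 1027) (.leaf 0)) (.leaf 1336)) (.node (.node (.leaf 71) (.leaf 1508)) (.leaf 0))) (.node (.node (.node (.leaf 0) (.leaf 1130)) (.leaf 153)) (.node (.leaf 1615) (.leaf 944))))) (.node (.node (.node (.node (.node (.leaf 10) (.leaf 0)) (.leaf 545)) (.node (.node (.leaf 1422) (.leaf 1254)) (.leaf 0))) (.node (.node (.node (.leaf 0) (.leaf 0)) (.leaf 1428)) (.node (.leaf 0) (.leaf 1294)))) (.node (.node (.node (.node (.leaf 533) (.leaf 0)) (.leaf 0)) (.node (.node (.leaf 896) (.leaf 373)) (.leaf 879))) (.node (.node (.node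 (.leaf 0) (.leaf 1530)) (.leaf 0)) (.node (.leaf 1023) (.leaf 0))))))) (.node (.node (.node (.node (.node (.node (.node (.leaf 0) (.leaf 241)) (.leaf 0)) (.node (.node (.leaf 0) (.leaf 759)) (.leaf 676))) (.node (.node (.node (.leaf 0) (.leaf 1828)) (.leaf 0)) (.node (.node (.leaf 967) (.leaf 1584)) (.leaf 1739)))) (.node (.node (.node (.node (.leaf 0) (.leaf 1511)) (.leaf 0)) (.node (.node (.leaf 519) (.leaf 481)) (.leaf 189))) (.node (.node (.node (.leaf 783) (.leaf 0)) (.leaf 1532)) (.node (.leaf 0) (.leaf 1374))))) (.node (.node (.node (.node (.node (.leaf 0) (.leaf 1219)) (.leaf 0)) (.node (.node (.leaf 638) (.leaf 1810)) (.leaf 914))) (.node (.node (.node (.leaf 422) (.leaf 701)) (.leaf 1290)) (.node (.node (.leaf 1170) (.leaf 1885)) (.leaf 0)))) (.node (.node (.node (.node (.leaf 0) (.leaf 277)) (.leaf 1692)) (.node (.node (.leaf 0) (.leaf 1639)) (.leaf 1848))) (.node (.node (.node (.leaf 0) (.leaf 1701)) (.leaf 0)) (.node (.leaf 1585) (.leaf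 0)))))) (.node (.node (.node (.node (.node (.node (.leaf 5) (.leaf 1448)) (.leaf 0)) (.node (.node (.leaf 857) (.leaf 1789)) (.leaf 176))) (.node (.node (.node (.leaf 640) (.leaf 958)) (.leaf 520)) (.node (.node (.leaf 0) (.leaf 1332)) (.leaf 0)))) (.node (.node (.node (.node (.leaf 0) (.leaf 1686)) (.leaf 1699)) (.node (.node (.leaf 0) (.leaf 0)) (.leaf 0))) (.node (.node (.node (.leaf 45) (.leaf 1597)) (.leaf 0)) (.node (.leaf 614) (.leaf 1695))))) (.node (.node (.node (.node (.node (.leaf 0) (.leaf 257)) (.leaf 1905)) (.node (.node (.leaf 791) (.leaf 1502)) (.leaf 978))) (.node (.node (.node (.leaf 0) (.leaf 1768)) (.leaf 148)) (.node (.leaf 1451) (.leaf 1539)))) (.node (.node (.node (.node (.leaf 0) (.leaf 718)) (.leaf 421)) (.node (.node (.leaf 973) (.leaf 1513)) (.leaf 434))) (.node (.node (.node (.leaf 418) (.leaf 323)) (.leaf 647)) (.node (.leaf 0) (.leaf 1842)))))))) (.node (.node (.node (.node (.node (.node (.node (.node (.leaf 0) (.leaf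 858)) (.leaf 0)) (.node (.node (.leaf 0) (.leaf 329)) (.leaf 1746))) (.node (.node (.node (.leaf 0) (.leaf 1931)) (.leaf 1065)) (.node (.node (.leaf 0) (.leaf 1329)) (.leaf 209)))) (.node (.node (.node (.node (.leaf 0) (.leaf 262)) (.leaf 847)) (.node (.node (.leaf 67) (.leaf 691)) (.leaf 590))) (.node (.node (.node (.leaf 0) (.leaf 1234)) (.leaf 0)) (.node (.leaf 1000) (.leaf 1465))))) (.node (.node (.node (.node (.node (.leaf 0) (.leaf 1046)) (.leaf 736)) (.node (.node (.leaf 1206) (.leaf 1134)) (.leaf 0))) (.node (.node (.node (.leaf 0) (.leaf 295)) (.leaf 622)) (.node (.node (.leaf 1069) (.leaf 1641)) (.leaf 0)))) (.node (.node (.node (.node (.leaf 0) (.leaf 1407)) (.leaf 131)) (.node (.node (.leaf 0) (.leaf 667)) (.leaf 1759))) (.node (.node (.node (.leaf 0) (.leaf 1321)) (.leaf 756)) (.node (.leaf 536) (.leaf 232)))))) (.node (.node (.node (.node (.node (.node (.leaf 0) (.leaf 0)) (.leaf 0)) (.node (.node (.leaf 57) (.leaf 1937)) (.leaf 1129)))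 (.node (.node (.node (.leaf 930) (.leaf 1159)) (.leaf 140)) (.node (.node (.leaf 541) (.leaf 0)) (.leaf 950)))) (.node (.node (.node (.node (.leaf 17) (.leaf 687)) (.leaf 0)) (.node (.node (.leaf 0) (.leaf 1787)) (.leaf 195))) (.node (.node (.node (.leaf 0) (.leaf 311)) (.leaf 1383)) (.node (.leaf 0) (.leaf 1808))))) (.node (.node (.node (.node (.node (.leaf 0) (.leaf 478)) (.leaf 0)) (.node (.node (.leaf 1440) (.leaf 350)) (.leaf 1917))) (.node (.node (.node (.leaf 36) (.leaf 1047)) (.leaf 737)) (.node (.leaf 0) (.leaf 220)))) (.node (.node (.node (.node (.leaf 0) (.leaf 0)) (.leaf 689)) (.node (.node (.leaf 0) (.leaf 1089)) (.leaf 1063))) (.node (.node (.node (.leaf 0) (.leaf 1832)) (.leaf 0)) (.node (.leaf 0) (.leaf 1380))))))) (.node (.node (.node (.node (.node (.node (.node (.leaf 3) (.leaf 625)) (.leaf 855)) (.node (.node (.leaf 510) (.leaf 1426)) (.leaf 171))) (.node (.node (.node (.leaf 0) (.leaf 1453)) (.leaf 486)) (.node (.node (.leaf 0)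 (.leaf 584)) (.leaf 1603)))) (.node (.node (.node (.node (.leaf 971) (.leaf 1670)) (.leaf 125)) (.node (.node (.leaf 0) (.leaf 360)) (.leaf 1202))) (.node (.node (.node (.leaf 42) (.leaf 1320)) (.leaf 0)) (.node (.leaf 1396) (.leaf 838))))) (.node (.node (.node (.node (.node (.leaf 0) (.leaf 0)) (.leaf 723)) (.node (.node (.leaf 0) (.leaf 1629)) (.leaf 1927))) (.node (.node (.node (.leaf 0) (.leaf 717)) (.leaf 0)) (.node (.node (.leaf 0) (.leaf 394)) (.leaf 1308)))) (.node (.node (.node (.node (.leaf 0) (.leaf 1561)) (.leaf 1630)) (.node (.node (.leaf 0) (.leaf 1120)) (.leaf 796))) (.node (.node (.node (.leaf 892) (.leaf 319)) (.leaf 0)) (.node (.leaf 102) (.leaf 1293)))))) (.node (.node (.node (.node (.node (.node (.leaf 0) (.leaf 0)) (.leaf 114)) (.node (.node (.leaf 0) (.leaf 342)) (.leaf 1719))) (.node (.node (.node (.leaf 0) (.leaf 897)) (.leaf 668)) (.node (.node (.leaf 0) (.leaf 1857)) (.leaf 214)))) (.node (.node (.node (.node (.leaf 0) (.leaf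 270)) (.leaf 1548)) (.node (.node (.leaf 585) (.leaf 1625)) (.leaf 1037))) (.node (.node (.node (.leaf 0) (.leaf 1457)) (.leaf 157)) (.node (.leaf 0) (.leaf 713))))) (.node (.node (.node (.node (.node (.leaf 0) (.leaf 1528)) (.leaf 0)) (.node (.node (.leaf 841) (.leaf 1665)) (.leaf 185))) (.node (.node (.node (.leaf 0) (.leaf 1087)) (.leaf 1906)) (.node (.leaf 0) (.leaf 643)))) (.node (.node (.node (.node (.leaf 0) (.leaf 1121)) (.leaf 136)) (.node (.node (.leaf 466) (.leaf 377)) (.leaf 1712))) (.node (.node (.node (.leaf 0) (.leaf 1258)) (.leaf 1590)) (.node (.leaf 761) (.leaf 1572)))))))))) (.node (.node (.node (.node (.node (.node (.node (.node (.node (.node (.leaf 0) (.leaf 1574)) (.leaf 0)) (.node (.node (.leaf 0) (.leaf 1082)) (.leaf 988))) (.node (.node (.node (.leaf 0) (.leaf 1864)) (.leaf 137)) (.node (.node (.leaf 0) (.leaf 631)) (.leaf 937)))) (.node (.node (.node (.node (.leaf 0) (.leaf 919)) (.leaf 1010)) (.node (.node (.leaf 0) (.leaf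 1659)) (.leaf 186))) (.node (.node (.node (.leaf 0) (.leaf 303)) (.leaf 1318)) (.node (.leaf 0) (.leaf 1661))))) (.node (.node (.node (.node (.node (.leaf 526) (.leaf 882)) (.leaf 1565)) (.node (.node (.leaf 534) (.leaf 344)) (.leaf 705))) (.node (.node (.node (.leaf 0) (.leaf 1550)) (.leaf 780)) (.node (.node (.leaf 514) (.leaf 1668)) (.leaf 873)))) (.node (.node (.node (.node (.leaf 0) (.leaf 272)) (.leaf 1524)) (.node (.node (.leaf 0) (.leaf 1782)) (.leaf 1115))) (.node (.node (.node (.leaf 839) (.leaf 1830)) (.leaf 0)) (.node (.leaf 0) (.leaf 574)))))) (.node (.node (.node (.node (.node (.node (.leaf 0) (.leaf 1298)) (.leaf 0)) (.node (.node (.leaf 0) (.leaf 1132)) (.leaf 0))) (.node (.node (.node (.leaf 528) (.leaf 807)) (.leaf 1340)) (.node (.node (.leaf 0) (.leaf 927)) (.leaf 996)))) (.node (.node (.node (.node (.leaf 0) (.leaf 994)) (.leaf 0)) (.node (.node (.leaf 0) (.leaf 0)) (.leaf 0))) (.node (.node (.node (.leaf 43) (.leaf 938)) (.leaf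 1720)) (.node (.leaf 0) (.leaf 226))))) (.node (.node (.node (.node (.node (.leaf 0) (.leaf 254)) (.leaf 929)) (.node (.node (.leaf 0) (.leaf 1472)) (.leaf 1486))) (.node (.node (.node (.leaf 0) (.leaf 1648)) (.leaf 0)) (.node (.node (.leaf 0) (.leaf 396)) (.leaf 1916)))) (.node (.node (.node (.node (.leaf 22) (.leaf 1434)) (.leaf 0)) (.node (.node (.leaf 1351) (.leaf 1362)) (.leaf 205))) (.node (.node (.node (.leaf 0) (.leaf 0)) (.leaf 1394)) (.node (.leaf 0) (.leaf 1137))))))) (.node (.node (.node (.node (.node (.node (.node (.leaf 0) (.leaf 1392)) (.leaf 0)) (.node (.node (.leaf 0) (.leaf 331)) (.leaf 683))) (.node (.node (.node (.leaf 0) (.leaf 1792)) (.leaf 1788)) (.node (.node (.leaf 0) (.leaf 1882)) (.leaf 1836)))) (.node (.node (.node (.node (.leaf 0) (.leaf 1257)) (.leaf 849)) (.node (.node (.leaf 0) (.leaf 1929)) (.leaf 1026))) (.node (.node (.node (.leaf 0) (.leaf 826)) (.leaf 0)) (.node (.leaf 968) (.leaf 1741))))) (.node (.node (.node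 (.node (.node (.leaf 0) (.leaf 1546)) (.leaf 1163)) (.node (.node (.leaf 0) (.leaf 1820)) (.leaf 178))) (.node (.node (.node (.leaf 0) (.leaf 296)) (.leaf 1381)) (.node (.node (.leaf 432) (.leaf 1752)) (.leaf 1873)))) (.node (.node (.node (.node (.leaf 503) (.leaf 1158)) (.leaf 0)) (.node (.node (.leaf 539) (.leaf 367)) (.leaf 715))) (.node (.node (.node (.leaf 0) (.leaf 1896)) (.leaf 562)) (.node (.leaf 0) (.leaf 233)))))) (.node (.node (.node (.node (.node (.node (.leaf 0) (.leaf 0)) (.leaf 0)) (.node (.node (.leaf 0) (.leaf 1936)) (.leaf 0))) (.node (.node (.node (.leaf 0) (.leaf 1732)) (.leaf 141)) (.node (.node (.leaf 0) (.leaf 1161)) (.leaf 1456)))) (.node (.node (.node (.node (.leaf 0) (.leaf 623)) (.leaf 1592)) (.node (.node (.leaf 551) (.leaf 1817)) (.leaf 0))) (.node (.node (.node (.leaf 795) (.leaf 313)) (.leaf 1911)) (.node (.leaf 96) (.leaf 1624))))) (.node (.node (.node (.node (.node (.leaf 0) (.leaf 0)) (.leaf 630)) (.node (.node (.leaf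 0) (.leaf 351)) (.leaf 946))) (.node (.node (.node (.leaf 0) (.leaf 1449)) (.leaf 734)) (.node (.leaf 881) (.leaf 1036)))) (.node (.node (.node (.node (.leaf 0) (.leaf 658)) (.leaf 620)) (.node (.node (.leaf 0) (.leaf 1013)) (.leaf 884))) (.node (.node (.node (.leaf 509) (.leaf 0)) (.leaf 164)) (.node (.leaf 777) (.leaf 1806)))))))) (.node (.node (.node (.node (.node (.node (.node (.node (.leaf 1) (.leaf 496)) (.leaf 606)) (.node (.node (.leaf 0) (.leaf 1342)) (.leaf 168))) (.node (.node (.node (.leaf 0) (.leaf 0)) (.leaf 0)) (.node (.node (.leaf 81) (.leaf 788)) (.leaf 1652)))) (.node (.node (.node (.node (.leaf 0) (.leaf 659)) (.leaf 0)) (.node (.node (.leaf 0) (.leaf 355)) (.leaf 767))) (.node (.node (.node (.leaf 0) (.leaf 1599)) (.leaf 1589)) (.node (.leaf 1232) (.leaf 0))))) (.node (.node (.node (.node (.node (.leaf 0) (.leaf 0)) (.leaf 688)) (.node (.node (.leaf 0) (.leaf 0)) (.leaf 1108))) (.node (.node (.node (.leaf 0) (.leaf 1735)) (.leaf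 144)) (.node (.node (.leaf 1101) (.leaf 1775)) (.leaf 837)))) (.node (.node (.node (.node (.leaf 0) (.leaf 1813)) (.leaf 0)) (.node (.node (.leaf 781) (.leaf 1762)) (.leaf 0))) (.node (.node (.node (.leaf 0) (.leaf 318)) (.leaf 1030)) (.node (.leaf 99) (.leaf 0)))))) (.node (.node (.node (.node (.node (.node (.leaf 0) (.leaf 1376)) (.leaf 112)) (.node (.node (.leaf 0) (.leaf 336)) (.leaf 698))) (.node (.node (.node (.leaf 0) (.leaf 1537)) (.leaf 792)) (.node (.node (.leaf 1409) (.leaf 467)) (.leaf 1086)))) (.node (.node (.node (.node (.leaf 0) (.leaf 266)) (.leaf 0)) (.node (.node (.leaf 0) (.leaf 1745)) (.leaf 1845))) (.node (.node (.node (.leaf 0) (.leaf 1852)) (.leaf 0)) (.node (.leaf 1847) (.leaf 0))))) (.node (.node (.node (.node (.node (.leaf 0) (.leaf 1334)) (.leaf 1113)) (.node (.node (.leaf 404) (.leaf 591)) (.leaf 1568))) (.node (.node (.node (.leaf 0) (.leaf 1867)) (.leaf 1360)) (.node (.leaf 0) (.leaf 1622)))) (.node (.node (.node (.node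 (.leaf 0) (.leaf 1863)) (.leaf 0)) (.node (.node (.leaf 0) (.leaf 1311)) (.leaf 939))) (.node (.node (.node (.leaf 0) (.leaf 1605)) (.leaf 1404)) (.node (.leaf 932) (.leaf 0))))))) (.node (.node (.node (.node (.node (.node (.node (.leaf 0) (.leaf 0)) (.leaf 0)) (.node (.node (.leaf 0) (.leaf 744)) (.leaf 570))) (.node (.node (.node (.leaf 504) (.leaf 755)) (.leaf 954)) (.node (.node (.leaf 0) (.leaf 1707)) (.leaf 1201)))) (.node (.node (.node (.node (.leaf 0) (.leaf 1455)) (.leaf 0)) (.node (.node (.leaf 0) (.leaf 1733)) (.leaf 190))) (.node (.node (.node (.leaf 0) (.leaf 1577)) (.leaf 753)) (.node (.leaf 0) (.leaf 452))))) (.node (.node (.node (.node (.node (.leaf 499) (.leaf 1856)) (.leaf 0)) (.node (.node (.leaf 0) (.leaf 1143)) (.leaf 612))) (.node (.node (.node (.leaf 34) (.leaf 1068)) (.leaf 552)) (.node (.node (.leaf 508) (.leaf 1687)) (.leaf 0)))) (.node (.node (.node (.node (.leaf 0) (.leaf 279)) (.leaf 681)) (.node (.node (.leaf 77) (.leaf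 1056)) (.leaf 751))) (.node (.node (.node (.leaf 1523) (.leaf 427)) (.leaf 162)) (.node (.leaf 0) (.leaf 1411)))))) (.node (.node (.node (.node (.node (.node (.leaf 0) (.leaf 1299)) (.leaf 0)) (.node (.node (.leaf 615) (.leaf 1717)) (.leaf 1226))) (.node (.node (.node (.leaf 0) (.leaf 292)) (.leaf 0)) (.node (.node (.leaf 0) (.leaf 1649)) (.leaf 424)))) (.node (.node (.node (.node (.leaf 789) (.leaf 480)) (.leaf 0)) (.node (.node (.leaf 966) (.leaf 365)) (.leaf 0))) (.node (.node (.node (.leaf 0) (.leaf 1690)) (.leaf 819)) (.node (.leaf 1397) (.leaf 750))))) (.node (.node (.node (.node (.node (.leaf 0) (.leaf 259)) (.leaf 890)) (.node (.node (.leaf 0) (.leaf 1482)) (.leaf 0))) (.node (.node (.node (.leaf 0) (.leaf 1214)) (.leaf 149)) (.node (.leaf 0) (.leaf 942)))) (.node (.node (.node (.node (.leaf 0) (.leaf 1260)) (.leaf 0)) (.node (.node (.leaf 0) (.leaf 1738)) (.leaf 207))) (.node (.node (.node (.leaf 633) (.leaf 324)) (.leaf 0)) (.node (.leaf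 428) (.leaf 1474))))))))) (.node (.node (.node (.node (.node (.node (.node (.node (.node (.leaf 0) (.leaf 1683)) (.leaf 0)) (.node (.node (.leaf 0) (.leaf 1288)) (.leaf 648))) (.node (.node (.node (.leaf 0) (.leaf 1736)) (.leaf 999)) (.node (.node (.leaf 0) (.leaf 1737)) (.leaf 1835)))) (.node (.node (.node (.node (.leaf 0) (.leaf 261)) (.leaf 700)) (.node (.node (.leaf 430) (.leaf 1536)) (.leaf 1278))) (.node (.node (.node (.leaf 654) (.leaf 1312)) (.leaf 747)) (.node (.leaf 1614) (.leaf 1317))))) (.node (.node (.node (.node (.node (.leaf 7) (.leaf 1240)) (.leaf 485)) (.node (.node (.leaf 0) (.leaf 925)) (.leaf 0))) (.node (.node (.node (.leaf 0) (.leaf 0)) (.leaf 1261)) (.node (.node (.leaf 86) (.leaf 1328)) (.leaf 1131)))) (.node (.node (.node (.node (.leaf 0) (.leaf 1223)) (.leaf 1208)) (.node (.node (.leaf 1325) (.leaf 1076)) (.leaf 1674))) (.node (.node (.node (.leaf 0) (.leaf 416)) (.leaf 1138)) (.node (.leaf 0) (.leaf 231)))))) (.node (.node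 (.node (.node (.node (.node (.leaf 0) (.leaf 0)) (.leaf 518)) (.node (.node (.leaf 56) (.leaf 1923)) (.leaf 0))) (.node (.node (.node (.leaf 0) (.leaf 1765)) (.leaf 0)) (.node (.node (.leaf 1106) (.leaf 388)) (.leaf 1401)))) (.node (.node (.node (.node (.leaf 0) (.leaf 1484)) (.leaf 476)) (.node (.node (.leaf 0) (.leaf 675)) (.leaf 194))) (.node (.node (.node (.leaf 0) (.leaf 309)) (.leaf 1722)) (.node (.leaf 95) (.leaf 827))))) (.node (.node (.node (.node (.node (.leaf 398) (.leaf 679)) (.leaf 1207)) (.node (.node (.leaf 0) (.leaf 348)) (.leaf 1519))) (.node (.node (.node (.leaf 35) (.leaf 626)) (.leaf 972)) (.node (.leaf 1387) (.leaf 1242)))) (.node (.node (.node (.node (.leaf 0) (.leaf 281)) (.leaf 766)) (.node (.node (.leaf 78) (.leaf 1939)) (.leaf 985))) (.node (.node (.node (.leaf 0) (.leaf 1463)) (.leaf 163)) (.node (.leaf 0) (.leaf 1698))))))) (.node (.node (.node (.node (.node (.node (.node (.leaf 0) (.leaf 1417)) (.leaf 1044)) (.node (.node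 (.leaf 563) (.leaf 0)) (.leaf 170))) (.node (.node (.node (.leaf 0) (.leaf 1880)) (.leaf 1357)) (.node (.node (.leaf 0) (.leaf 1727)) (.leaf 696)))) (.node (.node (.node (.node (.leaf 0) (.leaf 1635)) (.leaf 433)) (.node (.node (.leaf 472) (.leaf 358)) (.leaf 1460))) (.node (.node (.node (.leaf 0) (.leaf 1246)) (.leaf 0)) (.node (.leaf 0) (.leaf 0))))) (.node (.node (.node (.node (.node (.leaf 0) (.leaf 253)) (.leaf 0)) (.node (.node (.leaf 0) (.leaf 1941)) (.leaf 824))) (.node (.node (.node (.leaf 505) (.leaf 1035)) (.leaf 146)) (.node (.node (.leaf 602) (.leaf 392)) (.leaf 1507)))) (.node (.node (.node (.node (.leaf 21) (.leaf 583)) (.leaf 1127)) (.node (.node (.leaf 405) (.leaf 1672)) (.leaf 864))) (.node (.node (.node (.leaf 0) (.leaf 1060)) (.leaf 0)) (.node (.leaf 0) (.leaf 0)))))) (.node (.node (.node (.node (.node (.node (.leaf 0) (.leaf 1302)) (.leaf 113)) (.node (.node (.leaf 0) (.leaf 340)) (.leaf 762))) (.node (.node (.node (.leaf 0)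 (.leaf 943)) (.leaf 992)) (.node (.node (.leaf 1188) (.leaf 1677)) (.leaf 0)))) (.node (.node (.node (.node (.leaf 0) (.leaf 269)) (.leaf 1337)) (.node (.node (.leaf 73) (.leaf 1331)) (.leaf 1061))) (.node (.node (.node (.leaf 0) (.leaf 1475)) (.leaf 0)) (.node (.leaf 790) (.leaf 1560))))) (.node (.node (.node (.node (.node (.leaf 0) (.leaf 1307)) (.leaf 672)) (.node (.node (.leaf 0) (.leaf 913)) (.leaf 0))) (.node (.node (.node (.leaf 0) (.leaf 301)) (.leaf 0)) (.node (.leaf 0) (.leaf 863)))) (.node (.node (.node (.node (.leaf 0) (.leaf 883)) (.leaf 135)) (.node (.node (.leaf 0) (.leaf 375)) (.leaf 1218))) (.node (.node (.node (.leaf 51) (.leaf 1909)) (.leaf 0)) (.node (.leaf 0) (.leaf 0)))))))) (.node (.node (.node (.node (.node (.node (.node (.node (.leaf 0) (.leaf 240)) (.leaf 0)) (.node (.node (.leaf 0) (.leaf 768)) (.leaf 0))) (.node (.node (.node (.leaf 0) (.leaf 699)) (.leaf 0)) (.node (.node (.leaf 0) (.leaf 382)) (.leaf 1400)))) (.node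 (.node (.node (.node (.leaf 14) (.leaf 1369)) (.leaf 489)) (.node (.node (.leaf 0) (.leaf 1645)) (.leaf 188))) (.node (.node (.node (.leaf 0) (.leaf 305)) (.leaf 484)) (.node (.leaf 0) (.leaf 1377))))) (.node (.node (.node (.node (.node (.leaf 0) (.leaf 1462)) (.leaf 116)) (.node (.node (.leaf 671) (.leaf 1578)) (.leaf 1609))) (.node (.node (.node (.leaf 0) (.leaf 1551)) (.leaf 887)) (.node (.node (.leaf 1379) (.leaf 1671)) (.leaf 0)))) (.node (.node (.node (.node (.leaf 0) (.leaf 1681)) (.leaf 1371)) (.node (.node (.leaf 76) (.leaf 1636)) (.leaf 0))) (.node (.node (.node (.leaf 0) (.leaf 1628)) (.leaf 0)) (.node (.leaf 0) (.leaf 0)))))) (.node (.node (.node (.node (.node (.node (.leaf 0) (.leaf 1930)) (.leaf 1182)) (.node (.node (.leaf 743) (.leaf 1053)) (.leaf 175))) (.node (.node (.node (.leaf 589) (.leaf 291)) (.leaf 495)) (.node (.node (.leaf 0) (.leaf 1556)) (.leaf 799)))) (.node (.node (.node (.node (.leaf 0) (.leaf 1315)) (.leaf 127)) (.node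 (.node (.leaf 0) (.leaf 363)) (.leaf 1890))) (.node (.node (.node (.leaf 423) (.leaf 1935)) (.leaf 0)) (.node (.leaf 1642) (.leaf 1790))))) (.node (.node (.node (.node (.node (.leaf 437) (.leaf 1797)) (.leaf 1075)) (.node (.node (.leaf 0) (.leaf 1913)) (.leaf 697))) (.node (.node (.node (.leaf 0) (.leaf 1105)) (.leaf 0)) (.node (.leaf 1175) (.leaf 1403)))) (.node (.node (.node (.node (.leaf 0) (.leaf 592)) (.leaf 0)) (.node (.node (.leaf 861) (.leaf 1839)) (.leaf 206))) (.node (.node (.node (.leaf 0) (.leaf 321)) (.leaf 917)) (.node (.leaf 104) (.leaf 588))))))) (.node (.node (.node (.node (.node (.node (.node (.leaf 0) (.leaf 1750)) (.leaf 0)) (.node (.node (.leaf 0) (.leaf 1807)) (.leaf 569))) (.node (.node (.node (.leaf 28) (.leaf 1243)) (.leaf 1116)) (.node (.node (.leaf 1388) (.leaf 871)) (.leaf 1237)))) (.node (.node (.node (.node (.leaf 0) (.leaf 0)) (.leaf 0)) (.node (.node (.leaf 69) (.leaf 1080)) (.leaf 1059))) (.node (.node (.node (.leaf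 636) (.leaf 1107)) (.leaf 152)) (.node (.leaf 1691) (.leaf 798))))) (.node (.node (.node (.node (.node (.leaf 9) (.leaf 1901)) (.leaf 0)) (.node (.node (.leaf 564) (.leaf 561)) (.leaf 180))) (.node (.node (.node (.leaf 0) (.leaf 808)) (.leaf 0)) (.node (.node (.leaf 0) (.leaf 1515)) (.leaf 1512)))) (.node (.node (.node (.node (.leaf 0) (.leaf 1861)) (.leaf 0)) (.node (.node (.leaf 0) (.leaf 371)) (.leaf 621))) (.node (.node (.node (.leaf 49) (.leaf 1322)) (.leaf 1123)) (.node (.leaf 940) (.leaf 235)))))) (.node (.node (.node (.node (.node (.node (.leaf 0) (.leaf 247)) (.leaf 0)) (.node (.node (.leaf 59) (.leaf 1014)) (.leaf 902))) (.node (.node (.node (.leaf 804) (.leaf 1869)) (.leaf 726)) (.node (.node (.leaf 0) (.leaf 1785)) (.leaf 1291)))) (.node (.node (.node (.node (.leaf 0) (.leaf 1310)) (.leaf 1114)) (.node (.node (.leaf 0) (.leaf 1473)) (.leaf 200))) (.node (.node (.node (.leaf 1341) (.leaf 1277)) (.leaf 410)) (.node (.leaf 98) (.leaf 983)))))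 (.node (.node (.node (.node (.node (.leaf 0) (.leaf 0)) (.leaf 0)) (.node (.node (.leaf 596) (.leaf 1812)) (.leaf 619))) (.node (.node (.node (.leaf 0) (.leaf 580)) (.leaf 1269)) (.node (.leaf 0) (.leaf 1244)))) (.node (.node (.node (.node (.leaf 0) (.leaf 1445)) (.leaf 0)) (.node (.node (.leaf 0) (.leaf 1887)) (.leaf 1122))) (.node (.node (.node (.leaf 601) (.leaf 1078)) (.leaf 1849)) (.node (.leaf 0) (.leaf 1300)))))))))))

/-- data -/
def tree4 : Trie (ℕ × ℕ) := .node (.node (.node (.node (.node (.node (.node (.node (.node (.node (.leaf (0, 0)) (.leaf (262, 2))) (.node (.leaf (118, 1)) (.leaf (483, 2)))) (.node (.node (.leaf (54, 0)) (.leaf (356, 2))) (.node (.leaf (186, 2)) (.leaf (688, 2))))) (.node (.node (.node (.leaf (25, 1)) (.leaf (315, 0))) (.node (.leaf (154, 0)) (.leaf (553, 0)))) (.node (.node (.leaf (85, 0)) (.leaf (418, 2))) (.node (.leaf (225, 1)) (.leaf (875, 1)))))) (.node (.node (.node (.node (.leaf (12, 1)) (.leaf (287, 0)))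 (.node (.leaf (134, 2)) (.leaf (508, 2)))) (.node (.node (.leaf (71, 0)) (.leaf (386, 0))) (.node (.leaf (207, 2)) (.leaf (738, 2))))) (.node (.node (.node (.leaf (39, 0)) (.leaf (337, 2))) (.node (.leaf (171, 1)) (.leaf (623, 2)))) (.node (.node (.leaf (100, 2)) (.leaf (446, 1))) (.leaf (245, 0)))))) (.node (.node (.node (.node (.node (.leaf (5, 1)) (.leaf (275, 0))) (.node (.leaf (126, 2)) (.leaf (496, 0)))) (.node (.node (.leaf (61, 1)) (.leaf (369, 2))) (.node (.leaf (196, 2)) (.leaf (711, 1))))) (.node (.node (.node (.leaf (32, 0)) (.leaf (325, 0))) (.node (.leaf (162, 0)) (.leaf (579, 2)))) (.node (.node (.leaf (91, 2)) (.leaf (430, 1))) (.leaf (236, 1))))) (.node (.node (.node (.node (.leaf (19, 0)) (.leaf (299, 1))) (.node (.leaf (146, 0)) (.leaf (529, 0)))) (.node (.node (.leaf (78, 0)) (.leaf (398, 1))) (.node (.leaf (216, 0)) (.leaf (802, 2))))) (.node (.node (.node (.leaf (45, 2)) (.leaf (347, 2))) (.node (.leaf (178, 0)) (.leaf (663,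 1)))) (.node (.node (.leaf (109, 0)) (.leaf (466, 2))) (.leaf (253, 2))))))) (.node (.node (.node (.node (.node (.node (.leaf (2, 1)) (.leaf (268, 0))) (.node (.leaf (123, 0)) (.leaf (490, 0)))) (.node (.node (.leaf (58, 1)) (.leaf (362, 1))) (.node (.leaf (191, 1)) (.leaf (697, 2))))) (.node (.node (.node (.leaf (28, 0)) (.leaf (321, 2))) (.node (.leaf (157, 2)) (.leaf (568, 1)))) (.node (.node (.leaf (88, 1)) (.leaf (425, 0))) (.node (.leaf (231, 0)) (.leaf (917, 2)))))) (.node (.node (.node (.node (.leaf (15, 2)) (.leaf (293, 2))) (.node (.leaf (140, 1)) (.leaf (517, 0)))) (.node (.node (.leaf (74, 0)) (.leaf (393, 0))) (.node (.leaf (211, 0)) (.leaf (771, 2))))) (.node (.node (.node (.leaf (42, 1)) (.leaf (342, 1))) (.node (.leaf (175, 0)) (.leaf (645, 2)))) (.node (.node (.leaf (105, 0)) (.leaf (458, 1))) (.leaf (249, 2)))))) (.node (.node (.node (.node (.node (.leaf (9, 0)) (.leaf (280, 1))) (.node (.leaf (130, 0)) (.leaf (501, 2)))) (.node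 (.node (.leaf (66, 1)) (.leaf (377, 1))) (.node (.leaf (201, 1)) (.leaf (721, 0))))) (.node (.node (.node (.leaf (35, 2)) (.leaf (331, 1))) (.node (.leaf (165, 2)) (.leaf (602, 2)))) (.node (.node (.leaf (95, 1)) (.leaf (438, 0))) (.leaf (241, 2))))) (.node (.node (.node (.node (.leaf (22, 0)) (.leaf (306, 1))) (.node (.leaf (150, 0)) (.leaf (537, 2)))) (.node (.node (.leaf (81, 0)) (.leaf (409, 0))) (.node (.leaf (219, 2)) (.leaf (846, 2))))) (.node (.node (.node (.leaf (49, 0)) (.leaf (352, 1))) (.node (.leaf (182, 2)) (.leaf (675, 2)))) (.node (.node (.leaf (115, 0)) (.leaf (476, 2))) (.leaf (259, 0)))))))) (.node (.node (.node (.node (.node (.node (.node (.leaf (1, 0)) (.leaf (265, 0))) (.node (.leaf (121, 0)) (.leaf (486, 2)))) (.node (.node (.leaf (55, 2)) (.leaf (358, 2))) (.node (.leaf (189, 2)) (.leaf (692, 2))))) (.node (.node (.node (.leaf (26, 2)) (.leaf (320, 0))) (.node (.leaf (156, 0)) (.leaf (559, 1)))) (.node (.node (.leaf (86, 1))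 (.leaf (421, 2))) (.node (.leaf (228, 1)) (.leaf (888, 0)))))) (.node (.node (.node (.node (.leaf (13, 2)) (.leaf (289, 2))) (.node (.leaf (136, 2)) (.leaf (512, 1)))) (.node (.node (.leaf (72, 2)) (.leaf (389, 2))) (.node (.leaf (209, 1)) (.leaf (755, 1))))) (.node (.node (.node (.leaf (40, 1)) (.leaf (340, 2))) (.node (.leaf (173, 0)) (.leaf (629, 2)))) (.node (.node (.leaf (103, 1)) (.leaf (452, 2))) (.leaf (248, 0)))))) (.node (.node (.node (.node (.node (.leaf (7, 0)) (.leaf (278, 0))) (.node (.leaf (128, 2)) (.leaf (498, 1)))) (.node (.node (.leaf (63, 2)) (.leaf (373, 0))) (.node (.leaf (199, 2)) (.leaf (715, 0))))) (.node (.node (.node (.leaf (33, 1)) (.leaf (329, 0))) (.node (.leaf (163, 1)) (.leaf (590, 2)))) (.node (.node (.leaf (93, 2)) (.leaf (433, 2))) (.leaf (239, 0))))) (.node (.node (.node (.node (.leaf (20, 1)) (.leaf (301, 2))) (.node (.leaf (147, 1)) (.leaf (534, 2)))) (.node (.node (.leaf (79, 1)) (.leaf (403, 1))) (.node (.leaf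 (217, 1)) (.leaf (816, 2))))) (.node (.node (.node (.leaf (47, 0)) (.leaf (350, 2))) (.node (.leaf (180, 2)) (.leaf (666, 2)))) (.node (.node (.leaf (112, 1)) (.leaf (473, 2))) (.leaf (257, 0))))))) (.node (.node (.node (.node (.node (.node (.leaf (4, 0)) (.leaf (270, 2))) (.node (.leaf (124, 1)) (.leaf (492, 1)))) (.node (.node (.leaf (60, 0)) (.leaf (367, 1))) (.node (.leaf (194, 1)) (.leaf (704, 0))))) (.node (.node (.node (.leaf (30, 0)) (.leaf (323, 0))) (.node (.leaf (160, 2)) (.leaf (574, 1)))) (.node (.node (.leaf (90, 1)) (.leaf (427, 1))) (.leaf (235, 0))))) (.node (.node (.node (.node (.leaf (17, 1)) (.leaf (297, 0))) (.node (.leaf (143, 0)) (.leaf (521, 1)))) (.node (.node (.leaf (75, 1)) (.leaf (395, 2))) (.node (.leaf (214, 0)) (.leaf (789, 2))))) (.node (.node (.node (.leaf (44, 1)) (.leaf (345, 2))) (.node (.leaf (176, 2)) (.leaf (654, 1)))) (.node (.node (.leaf (107, 0)) (.leaf (461, 2))) (.leaf (251, 2)))))) (.node (.node (.node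 (.node (.node (.leaf (10, 2)) (.leaf (285, 1))) (.node (.leaf (132, 1)) (.leaf (505, 1)))) (.node (.node (.leaf (68, 1)) (.leaf (383, 0))) (.node (.leaf (203, 2)) (.leaf (733, 2))))) (.node (.node (.node (.leaf (37, 2)) (.leaf (333, 2))) (.node (.leaf (168, 2)) (.leaf (615, 0)))) (.node (.node (.leaf (98, 1)) (.leaf (442, 2))) (.leaf (243, 1))))) (.node (.node (.node (.node (.leaf (24, 0)) (.leaf (310, 2))) (.node (.leaf (152, 1)) (.leaf (545, 2)))) (.node (.node (.leaf (83, 2)) (.leaf (411, 2))) (.node (.leaf (222, 1)) (.leaf (861, 0))))) (.node (.node (.node (.leaf (51, 2)) (.leaf (354, 2))) (.node (.leaf (184, 2)) (.leaf (679, 2)))) (.node (.node (.leaf (117, 0)) (.leaf (479, 0))) (.leaf (261, 0))))))))) (.node (.node (.node (.node (.node (.node (.node (.node (.leaf (0, 1)) (.leaf (264, 0))) (.node (.leaf (119, 0)) (.leaf (484, 2)))) (.node (.node (.leaf (54, 2)) (.leaf (357, 2))) (.node (.leaf (187, 2)) (.leaf (691, 1))))) (.node (.node (.node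 (.leaf (26, 0)) (.leaf (318, 2))) (.node (.leaf (155, 1)) (.leaf (558, 0)))) (.node (.node (.leaf (85, 2)) (.leaf (420, 2))) (.node (.leaf (226, 2)) (.leaf (885, 2)))))) (.node (.node (.node (.node (.leaf (13, 0)) (.leaf (287, 2))) (.node (.leaf (135, 2)) (.leaf (510, 1)))) (.node (.node (.leaf (72, 0)) (.leaf (387, 2))) (.node (.leaf (208, 1)) (.leaf (745, 1))))) (.node (.node (.node (.leaf (39, 2)) (.leaf (339, 0))) (.node (.leaf (172, 1)) (.leaf (625, 2)))) (.node (.node (.leaf (102, 0)) (.leaf (449, 1))) (.leaf (246, 2)))))) (.node (.node (.node (.node (.node (.leaf (6, 0)) (.leaf (276, 1))) (.node (.leaf (127, 2)) (.leaf (497, 1)))) (.node (.node (.leaf (62, 0)) (.leaf (371, 2))) (.node (.leaf (198, 1)) (.leaf (712, 2))))) (.node (.node (.node (.leaf (32, 2)) (.leaf (326, 1))) (.node (.leaf (162, 2)) (.leaf (581, 0)))) (.node (.node (.leaf (92, 1)) (.leaf (431, 2))) (.leaf (237, 1))))) (.node (.node (.node (.node (.leaf (19, 2)) (.leaf (300,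 0))) (.node (.leaf (146, 2)) (.leaf (530, 2)))) (.node (.node (.leaf (78, 2)) (.leaf (399, 0))) (.node (.leaf (216, 2)) (.leaf (814, 2))))) (.node (.node (.node (.leaf (46, 1)) (.leaf (349, 1))) (.node (.leaf (179, 2)) (.leaf (665, 0)))) (.node (.node (.leaf (111, 0)) (.leaf (469, 2))) (.leaf (255, 2))))))) (.node (.node (.node (.node (.node (.node (.leaf (3, 0)) (.leaf (269, 2))) (.node (.leaf (123, 2)) (.leaf (491, 2)))) (.node (.node (.leaf (59, 0)) (.leaf (364, 1))) (.node (.leaf (193, 2)) (.leaf (702, 2))))) (.node (.node (.node (.leaf (29, 0)) (.leaf (322, 1))) (.node (.leaf (159, 1)) (.leaf (571, 2)))) (.node (.node (.leaf (89, 2)) (.leaf (426, 1))) (.node (.leaf (234, 0)) (.leaf (953, 2)))))) (.node (.node (.node (.node (.leaf (16, 2)) (.leaf (296, 1))) (.node (.leaf (142, 0)) (.leaf (518, 2)))) (.node (.node (.leaf (74, 2)) (.leaf (394, 0))) (.node (.leaf (212, 0)) (.leaf (786, 2))))) (.node (.node (.node (.leaf (43, 2)) (.leaf (343, 2)))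 (.node (.leaf (176, 0)) (.leaf (648, 2)))) (.node (.node (.leaf (105, 2)) (.leaf (459, 2))) (.leaf (251, 0)))))) (.node (.node (.node (.node (.node (.leaf (10, 0)) (.leaf (284, 0))) (.node (.leaf (131, 2)) (.leaf (503, 0)))) (.node (.node (.leaf (67, 2)) (.leaf (381, 1))) (.node (.leaf (202, 0)) (.leaf (725, 0))))) (.node (.node (.node (.leaf (36, 1)) (.leaf (332, 0))) (.node (.leaf (166, 2)) (.leaf (610, 2)))) (.node (.node (.leaf (97, 2)) (.leaf (439, 2))) (.leaf (242, 2))))) (.node (.node (.node (.node (.leaf (23, 0)) (.leaf (308, 2))) (.node (.leaf (151, 1)) (.leaf (540, 2)))) (.node (.node (.leaf (82, 0)) (.leaf (410, 2))) (.node (.leaf (221, 1)) (.leaf (850, 0))))) (.node (.node (.node (.leaf (50, 0)) (.leaf (353, 0))) (.node (.leaf (183, 1)) (.leaf (678, 0)))) (.node (.node (.leaf (116, 0)) (.leaf (477, 2))) (.leaf (260, 1)))))))) (.node (.node (.node (.node (.node (.node (.node (.leaf (1, 2)) (.leaf (266, 0))) (.node (.leaf (122, 0)) (.leaf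 (487, 2)))) (.node (.node (.leaf (57, 0)) (.leaf (360, 2))) (.node (.leaf (190, 2)) (.leaf (695, 2))))) (.node (.node (.node (.leaf (27, 1)) (.leaf (321, 0))) (.node (.leaf (156, 2)) (.leaf (566, 1)))) (.node (.node (.leaf (87, 2)) (.leaf (423, 1))) (.node (.leaf (229, 0)) (.leaf (907, 2)))))) (.node (.node (.node (.node (.leaf (14, 1)) (.leaf (292, 1))) (.node (.leaf (138, 2)) (.leaf (515, 1)))) (.node (.node (.leaf (73, 1)) (.leaf (391, 0))) (.node (.leaf (210, 1)) (.leaf (759, 0))))) (.node (.node (.node (.leaf (41, 2)) (.leaf (341, 1))) (.node (.leaf (174, 1)) (.leaf (641, 2)))) (.node (.node (.leaf (104, 0)) (.leaf (457, 1))) (.leaf (249, 0)))))) (.node (.node (.node (.node (.node (.leaf (8, 0)) (.leaf (279, 1))) (.node (.leaf (129, 1)) (.leaf (500, 2)))) (.node (.node (.leaf (64, 2)) (.leaf (373, 2))) (.node (.leaf (200, 2)) (.leaf (716, 2))))) (.node (.node (.node (.leaf (34, 2)) (.leaf (330, 2))) (.node (.leaf (164, 1)) (.leaf (597, 2))))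 (.node (.node (.leaf (94, 2)) (.leaf (436, 0))) (.leaf (240, 1))))) (.node (.node (.node (.node (.leaf (21, 0)) (.leaf (304, 2))) (.node (.leaf (148, 1)) (.leaf (536, 1)))) (.node (.node (.leaf (80, 0)) (.leaf (405, 2))) (.node (.leaf (218, 1)) (.leaf (836, 2))))) (.node (.node (.node (.leaf (48, 0)) (.leaf (351, 2))) (.node (.leaf (182, 0)) (.leaf (669, 0)))) (.node (.node (.leaf (114, 0)) (.leaf (475, 0))) (.leaf (258, 1))))))) (.node (.node (.node (.node (.node (.node (.leaf (4, 2)) (.leaf (273, 0))) (.node (.leaf (125, 1)) (.leaf (494, 0)))) (.node (.node (.leaf (60, 2)) (.leaf (368, 2))) (.node (.leaf (195, 1)) (.leaf (708, 0))))) (.node (.node (.node (.leaf (31, 0)) (.leaf (324, 0))) (.node (.leaf (161, 1)) (.leaf (576, 0)))) (.node (.node (.leaf (91, 0)) (.leaf (429, 2))) (.leaf (235, 2))))) (.node (.node (.node (.node (.leaf (18, 1)) (.leaf (298, 1))) (.node (.leaf (144, 2)) (.leaf (525, 0)))) (.node (.node (.leaf (77, 0)) (.leaf (397, 1)))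 (.node (.leaf (215, 0)) (.leaf (796, 2))))) (.node (.node (.node (.leaf (45, 0)) (.leaf (346, 1))) (.node (.leaf (177, 1)) (.leaf (661, 2)))) (.node (.node (.leaf (108, 0)) (.leaf (464, 2))) (.leaf (252, 2)))))) (.node (.node (.node (.node (.node (.leaf (11, 1)) (.leaf (286, 0))) (.node (.leaf (133, 1)) (.leaf (506, 2)))) (.node (.node (.leaf (70, 0)) (.leaf (384, 0))) (.node (.leaf (205, 0)) (.leaf (736, 2))))) (.node (.node (.node (.leaf (38, 1)) (.leaf (334, 2))) (.node (.leaf (170, 0)) (.leaf (616, 2)))) (.node (.node (.leaf (99, 1)) (.leaf (444, 2))) (.leaf (244, 1))))) (.node (.node (.node (.node (.leaf (24, 2)) (.leaf (313, 2))) (.node (.leaf (153, 0)) (.leaf (551, 2)))) (.node (.node (.leaf (84, 1)) (.leaf (417, 0))) (.node (.leaf (223, 0)) (.leaf (867, 0))))) (.node (.node (.node (.leaf (53, 0)) (.leaf (355, 1))) (.node (.leaf (185, 1)) (.leaf (686, 2)))) (.node (.node (.leaf (117, 2)) (.leaf (480, 2))) (.leaf (262, 0)))))))))) (.node (.node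 (.node (.node (.node (.node (.node (.node (.node (.leaf (0, 0)) (.leaf (263, 2))) (.node (.leaf (118, 2)) (.leaf (484, 0)))) (.node (.node (.leaf (54, 1)) (.leaf (357, 1))) (.node (.leaf (187, 0)) (.leaf (689, 1))))) (.node (.node (.node (.leaf (25, 2)) (.leaf (316, 2))) (.node (.leaf (154, 1)) (.leaf (556, 2)))) (.node (.node (.leaf (85, 1)) (.leaf (419, 2))) (.node (.leaf (226, 1)) (.leaf (878, 1)))))) (.node (.node (.node (.node (.leaf (12, 2)) (.leaf (287, 1))) (.node (.leaf (135, 1)) (.leaf (509, 0)))) (.node (.node (.leaf (71, 1)) (.leaf (387, 0))) (.node (.leaf (208, 0)) (.leaf (744, 2))))) (.node (.node (.node (.leaf (39, 1)) (.leaf (338, 1))) (.node (.leaf (171, 2)) (.leaf (624, 0)))) (.node (.node (.leaf (101, 2)) (.leaf (448, 0))) (.leaf (245, 2)))))) (.node (.node (.node (.node (.node (.leaf (5, 2)) (.leaf (275, 2))) (.node (.leaf (127, 0)) (.leaf (496, 1)))) (.node (.node (.leaf (61, 2)) (.leaf (370, 1))) (.node (.leaf (198, 0)) (.leaf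 (712, 1))))) (.node (.node (.node (.leaf (32, 1)) (.leaf (326, 0))) (.node (.leaf (162, 1)) (.leaf (580, 2)))) (.node (.node (.leaf (92, 0)) (.leaf (430, 2))) (.leaf (236, 2))))) (.node (.node (.node (.node (.leaf (19, 1)) (.leaf (299, 2))) (.node (.leaf (146, 1)) (.leaf (530, 0)))) (.node (.node (.leaf (78, 1)) (.leaf (398, 2))) (.node (.leaf (216, 1)) (.leaf (811, 0))))) (.node (.node (.node (.leaf (46, 0)) (.leaf (348, 1))) (.node (.leaf (179, 0)) (.leaf (664, 1)))) (.node (.node (.leaf (110, 1)) (.leaf (468, 2))) (.leaf (254, 1))))))) (.node (.node (.node (.node (.node (.node (.leaf (2, 2)) (.leaf (268, 2))) (.node (.leaf (123, 1)) (.leaf (491, 0)))) (.node (.node (.leaf (58, 2)) (.leaf (364, 0))) (.node (.leaf (192, 2)) (.leaf (699, 2))))) (.node (.node (.node (.leaf (28, 1)) (.leaf (322, 0))) (.node (.leaf (158, 2)) (.leaf (568, 2)))) (.node (.node (.leaf (89, 0)) (.leaf (426, 0))) (.node (.leaf (232, 1)) (.leaf (930, 2)))))) (.node (.node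 (.node (.node (.leaf (16, 0)) (.leaf (295, 2))) (.node (.leaf (141, 0)) (.leaf (518, 0)))) (.node (.node (.leaf (74, 1)) (.leaf (393, 1))) (.node (.leaf (211, 2)) (.leaf (773, 2))))) (.node (.node (.node (.leaf (43, 0)) (.leaf (342, 2))) (.node (.leaf (175, 2)) (.leaf (647, 2)))) (.node (.node (.leaf (105, 1)) (.leaf (458, 2))) (.leaf (250, 2)))))) (.node (.node (.node (.node (.node (.leaf (9, 1)) (.leaf (283, 0))) (.node (.leaf (131, 0)) (.leaf (502, 2)))) (.node (.node (.leaf (67, 0)) (.leaf (377, 2))) (.node (.leaf (201, 2)) (.leaf (721, 1))))) (.node (.node (.node (.leaf (36, 0)) (.leaf (331, 2))) (.node (.leaf (166, 0)) (.leaf (605, 2)))) (.node (.node (.leaf (96, 2)) (.leaf (438, 2))) (.leaf (242, 0))))) (.node (.node (.node (.node (.leaf (22, 2)) (.leaf (307, 2))) (.node (.leaf (151, 0)) (.leaf (538, 2)))) (.node (.node (.leaf (81, 2)) (.leaf (410, 0))) (.node (.leaf (220, 2)) (.leaf (849, 0))))) (.node (.node (.node (.leaf (49, 2)) (.leaf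 (352, 2))) (.node (.leaf (183, 0)) (.leaf (677, 2)))) (.node (.node (.leaf (115, 1)) (.leaf (477, 0))) (.leaf (259, 1)))))))) (.node (.node (.node (.node (.node (.node (.node (.leaf (1, 1)) (.leaf (265, 2))) (.node (.leaf (121, 1)) (.leaf (487, 0)))) (.node (.node (.leaf (56, 2)) (.leaf (359, 0))) (.node (.leaf (190, 0)) (.leaf (695, 1))))) (.node (.node (.node (.leaf (27, 0)) (.leaf (320, 2))) (.node (.leaf (156, 1)) (.leaf (561, 1)))) (.node (.node (.leaf (87, 0)) (.leaf (422, 2))) (.node (.leaf (228, 2)) (.leaf (903, 1)))))) (.node (.node (.node (.node (.leaf (14, 0)) (.leaf (291, 2))) (.node (.leaf (137, 0)) (.leaf (514, 2)))) (.node (.node (.leaf (73, 0)) (.leaf (390, 0))) (.node (.leaf (210, 0)) (.leaf (758, 2))))) (.node (.node (.node (.leaf (41, 0)) (.leaf (341, 0))) (.node (.leaf (173, 1)) (.leaf (638, 2)))) (.node (.node (.leaf (103, 2)) (.leaf (456, 2))) (.leaf (248, 2)))))) (.node (.node (.node (.node (.node (.leaf (7, 2)) (.leaf (278,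 2))) (.node (.leaf (129, 0)) (.leaf (500, 1)))) (.node (.node (.leaf (64, 0)) (.leaf (373, 1))) (.node (.leaf (200, 0)) (.leaf (716, 1))))) (.node (.node (.node (.leaf (34, 0)) (.leaf (330, 0))) (.node (.leaf (163, 2)) (.leaf (594, 2)))) (.node (.node (.leaf (94, 0)) (.leaf (434, 0))) (.leaf (240, 0))))) (.node (.node (.node (.node (.leaf (20, 2)) (.leaf (303, 2))) (.node (.leaf (147, 2)) (.leaf (535, 2)))) (.node (.node (.leaf (79, 2)) (.leaf (403, 2))) (.node (.leaf (218, 0)) (.leaf (817, 2))))) (.node (.node (.node (.leaf (47, 1)) (.leaf (351, 1))) (.node (.leaf (181, 0)) (.leaf (668, 1)))) (.node (.node (.leaf (113, 0)) (.leaf (474, 0))) (.leaf (258, 0))))))) (.node (.node (.node (.node (.node (.node (.leaf (4, 1)) (.leaf (271, 2))) (.node (.leaf (125, 0)) (.leaf (493, 2)))) (.node (.node (.leaf (60, 1)) (.leaf (368, 0))) (.node (.leaf (195, 0)) (.leaf (707, 2))))) (.node (.node (.node (.leaf (30, 2)) (.leaf (323, 1))) (.node (.leaf (161, 0))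 (.leaf (575, 1)))) (.node (.node (.leaf (90, 2)) (.leaf (428, 2))) (.leaf (235, 1))))) (.node (.node (.node (.node (.leaf (18, 0)) (.leaf (297, 2))) (.node (.leaf (144, 0)) (.leaf (523, 2)))) (.node (.node (.leaf (76, 2)) (.leaf (396, 2))) (.node (.leaf (214, 1)) (.leaf (791, 2))))) (.node (.node (.node (.leaf (44, 2)) (.leaf (346, 0))) (.node (.leaf (177, 0)) (.leaf (660, 2)))) (.node (.node (.leaf (107, 2)) (.leaf (463, 2))) (.leaf (252, 0)))))) (.node (.node (.node (.node (.node (.leaf (11, 0)) (.leaf (285, 2))) (.node (.leaf (133, 0)) (.leaf (505, 2)))) (.node (.node (.leaf (69, 0)) (.leaf (383, 2))) (.node (.leaf (204, 2)) (.leaf (735, 2))))) (.node (.node (.node (.leaf (38, 0)) (.leaf (334, 0))) (.node (.leaf (169, 2)) (.leaf (615, 2)))) (.node (.node (.leaf (99, 0)) (.leaf (443, 1))) (.leaf (244, 0))))) (.node (.node (.node (.node (.leaf (24, 1)) (.leaf (312, 2))) (.node (.leaf (152, 2)) (.leaf (550, 2)))) (.node (.node (.leaf (84, 0)) (.leaf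 (415, 2))) (.node (.leaf (222, 2)) (.leaf (864, 0))))) (.node (.node (.node (.leaf (52, 2)) (.leaf (355, 0))) (.node (.leaf (185, 0)) (.leaf (686, 0)))) (.node (.node (.leaf (117, 1)) (.leaf (479, 1))) (.leaf (261, 2))))))))) (.node (.node (.node (.node (.node (.node (.node (.node (.leaf (0, 2)) (.leaf (264, 2))) (.node (.leaf (120, 2)) (.leaf (485, 0)))) (.node (.node (.leaf (55, 1)) (.leaf (358, 1))) (.node (.leaf (189, 0)) (.leaf (691, 2))))) (.node (.node (.node (.leaf (26, 1)) (.leaf (319, 0))) (.node (.leaf (155, 2)) (.leaf (558, 2)))) (.node (.node (.leaf (86, 0)) (.leaf (421, 0))) (.node (.leaf (227, 2)) (.leaf (887, 1)))))) (.node (.node (.node (.node (.leaf (13, 1)) (.leaf (289, 0))) (.node (.leaf (136, 1)) (.leaf (512, 0)))) (.node (.node (.leaf (72, 1)) (.leaf (388, 0))) (.node (.leaf (209, 0)) (.leaf (747, 1))))) (.node (.node (.node (.leaf (40, 0)) (.leaf (340, 0))) (.node (.leaf (172, 2)) (.leaf (627, 2)))) (.node (.node (.leaf (102,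 1)) (.leaf (449, 2))) (.leaf (247, 1)))))) (.node (.node (.node (.node (.node (.leaf (6, 1)) (.leaf (277, 0))) (.node (.leaf (128, 1)) (.leaf (497, 2)))) (.node (.node (.leaf (63, 0)) (.leaf (372, 0))) (.node (.leaf (199, 1)) (.leaf (713, 2))))) (.node (.node (.node (.leaf (33, 0)) (.leaf (327, 2))) (.node (.leaf (163, 0)) (.leaf (589, 2)))) (.node (.node (.leaf (93, 0)) (.leaf (432, 2))) (.leaf (238, 2))))) (.node (.node (.node (.node (.leaf (20, 0)) (.leaf (300, 2))) (.node (.leaf (147, 0)) (.leaf (531, 0)))) (.node (.node (.leaf (79, 0)) (.leaf (401, 1))) (.node (.leaf (217, 0)) (.leaf (816, 0))))) (.node (.node (.node (.leaf (46, 2)) (.leaf (350, 1))) (.node (.leaf (180, 0)) (.leaf (666, 1)))) (.node (.node (.leaf (111, 2)) (.leaf (470, 2))) (.leaf (256, 2))))))) (.node (.node (.node (.node (.node (.node (.leaf (3, 1)) (.leaf (270, 0))) (.node (.leaf (124, 0)) (.leaf (492, 0)))) (.node (.node (.leaf (59, 2)) (.leaf (366, 2))) (.node (.leaf (194,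 0)) (.leaf (703, 0))))) (.node (.node (.node (.leaf (29, 2)) (.leaf (322, 2))) (.node (.leaf (160, 0)) (.leaf (572, 1)))) (.node (.node (.leaf (90, 0)) (.leaf (426, 2))) (.node (.leaf (234, 1)) (.leaf (958, 2)))))) (.node (.node (.node (.node (.leaf (17, 0)) (.leaf (296, 2))) (.node (.leaf (142, 1)) (.leaf (520, 2)))) (.node (.node (.leaf (75, 0)) (.leaf (394, 1))) (.node (.leaf (213, 2)) (.leaf (787, 0))))) (.node (.node (.node (.leaf (44, 0)) (.leaf (344, 0))) (.node (.leaf (176, 1)) (.leaf (653, 2)))) (.node (.node (.leaf (106, 0)) (.leaf (460, 2))) (.leaf (251, 1)))))) (.node (.node (.node (.node (.node (.leaf (10, 1)) (.leaf (284, 2))) (.node (.leaf (132, 0)) (.leaf (504, 2)))) (.node (.node (.leaf (68, 0)) (.leaf (381, 2))) (.node (.leaf (203, 0)) (.leaf (726, 2))))) (.node (.node (.node (.leaf (37, 1)) (.leaf (333, 0))) (.node (.leaf (167, 1)) (.leaf (614, 2)))) (.node (.node (.leaf (98, 0)) (.leaf (442, 0))) (.leaf (243, 0))))) (.node (.node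 (.node (.node (.leaf (23, 1)) (.leaf (310, 1))) (.node (.leaf (151, 2)) (.leaf (542, 2)))) (.node (.node (.leaf (82, 1)) (.leaf (411, 1))) (.node (.leaf (221, 2)) (.leaf (852, 0))))) (.node (.node (.node (.leaf (50, 1)) (.leaf (354, 0))) (.node (.leaf (184, 0)) (.leaf (678, 2)))) (.node (.node (.leaf (116, 1)) (.leaf (478, 0))) (.leaf (260, 2)))))))) (.node (.node (.node (.node (.node (.node (.node (.leaf (2, 0)) (.leaf (267, 2))) (.node (.leaf (122, 1)) (.leaf (488, 0)))) (.node (.node (.leaf (57, 1)) (.leaf (361, 0))) (.node (.leaf (191, 0)) (.leaf (696, 2))))) (.node (.node (.node (.leaf (27, 2)) (.leaf (321, 1))) (.node (.leaf (157, 0)) (.leaf (567, 0)))) (.node (.node (.leaf (88, 0)) (.leaf (424, 2))) (.node (.leaf (230, 2)) (.leaf (913, 2)))))) (.node (.node (.node (.node (.leaf (15, 0)) (.leaf (293, 1))) (.node (.leaf (139, 0)) (.leaf (516, 2)))) (.node (.node (.leaf (73, 2)) (.leaf (392, 0))) (.node (.leaf (210, 2)) (.leaf (761, 2))))) (.node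 (.node (.node (.leaf (42, 0)) (.leaf (342, 0))) (.node (.leaf (174, 2)) (.leaf (643, 2)))) (.node (.node (.leaf (104, 2)) (.leaf (457, 2))) (.leaf (249, 1)))))) (.node (.node (.node (.node (.node (.leaf (8, 2)) (.leaf (280, 0))) (.node (.leaf (129, 2)) (.leaf (501, 1)))) (.node (.node (.leaf (65, 0)) (.leaf (374, 2))) (.node (.leaf (201, 0)) (.leaf (718, 0))))) (.node (.node (.node (.leaf (35, 0)) (.leaf (331, 0))) (.node (.leaf (165, 0)) (.leaf (598, 0)))) (.node (.node (.leaf (95, 0)) (.leaf (436, 2))) (.leaf (241, 1))))) (.node (.node (.node (.node (.leaf (21, 1)) (.leaf (305, 2))) (.node (.leaf (149, 2)) (.leaf (536, 2)))) (.node (.node (.leaf (80, 2)) (.leaf (407, 1))) (.node (.leaf (219, 1)) (.leaf (843, 2))))) (.node (.node (.node (.leaf (48, 2)) (.leaf (352, 0))) (.node (.leaf (182, 1)) (.leaf (673, 2)))) (.node (.node (.leaf (114, 2)) (.leaf (475, 2))) (.leaf (258, 2))))))) (.node (.node (.node (.node (.node (.node (.leaf (5, 0)) (.leaf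 (273, 2))) (.node (.leaf (126, 1)) (.leaf (495, 2)))) (.node (.node (.leaf (61, 0)) (.leaf (369, 1))) (.node (.leaf (195, 2)) (.leaf (710, 2))))) (.node (.node (.node (.leaf (31, 1)) (.leaf (324, 2))) (.node (.leaf (161, 2)) (.leaf (576, 2)))) (.node (.node (.leaf (91, 1)) (.leaf (430, 0))) (.leaf (236, 0))))) (.node (.node (.node (.node (.leaf (18, 2)) (.leaf (298, 2))) (.node (.leaf (145, 1)) (.leaf (526, 2)))) (.node (.node (.leaf (77, 1)) (.leaf (397, 2))) (.node (.leaf (215, 1)) (.leaf (801, 2))))) (.node (.node (.node (.leaf (45, 1)) (.leaf (347, 1))) (.node (.leaf (177, 2)) (.leaf (663, 0)))) (.node (.node (.leaf (108, 2)) (.leaf (466, 1))) (.leaf (253, 0)))))) (.node (.node (.node (.node (.node (.leaf (11, 2)) (.leaf (286, 2))) (.node (.leaf (134, 1)) (.leaf (507, 0)))) (.node (.node (.leaf (70, 2)) (.leaf (385, 2))) (.node (.leaf (206, 0)) (.leaf (737, 2))))) (.node (.node (.node (.leaf (38, 2)) (.leaf (335, 0))) (.node (.leaf (171, 0))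 (.leaf (623, 0)))) (.node (.node (.leaf (99, 2)) (.leaf (445, 1))) (.leaf (244, 2))))) (.node (.node (.node (.node (.leaf (25, 0)) (.leaf (314, 2))) (.node (.leaf (153, 2)) (.leaf (552, 1)))) (.node (.node (.leaf (84, 2)) (.leaf (417, 2))) (.node (.leaf (225, 0)) (.leaf (868, 0))))) (.node (.node (.node (.leaf (53, 1)) (.leaf (356, 1))) (.node (.leaf (186, 0)) (.leaf (687, 1)))) (.node (.node (.leaf (118, 0)) (.leaf (482, 0))) (.leaf (262, 1))))))))))

/-- data -/
def cert4 : Trie (ℕ × ℕ × ℕ) := .node (.node (.node (.node (.node (.node (.node (.node (.node (.node (.node (.leaf (1, 0, 1)) (.leaf (3, 46, 3))) (.node (.leaf (0, 53, 1)) (.leaf (0, 311, 3)))) (.node (.node (.leaf (1, 430, 1)) (.leaf (5, 565, 5))) (.node (.leaf (1, 66, 1)) (.leaf (3, 680, 5))))) (.node (.node (.node (.leaf (1, 199, 1)) (.leaf (4, 651, 6))) (.node (.leaf (2, 107, 2)) (.leaf (2, 680, 2)))) (.node (.node (.leaf (1, 816, 1)) (.leaf (6, 374, 4))) (.node (.leaf (6, 110, 4))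 (.leaf (5, 629, 0)))))) (.node (.node (.node (.node (.leaf (1, 93, 1)) (.leaf (3, 835, 3))) (.node (.leaf (3, 98, 5)) (.leaf (2, 215, 2)))) (.node (.node (.leaf (1, 576, 1)) (.leaf (6, 78, 5))) (.node (.leaf (5, 0, 4)) (.leaf (4, 436, 3))))) (.node (.node (.node (.leaf (1, 304, 1)) (.leaf (5, 239, 0))) (.node (.leaf (0, 269, 2)) (.leaf (3, 281, 7)))) (.node (.node (.leaf (4, 17, 4)) (.leaf (6, 673, 2))) (.leaf (2, 20, 3)))))) (.node (.node (.node (.node (.node (.leaf (1, 45, 1)) (.leaf (3, 292, 3))) (.node (.leaf (2, 80, 2)) (.leaf (1, 596, 1)))) (.node (.node (.leaf (1, 491, 1)) (.leaf (5, 777, 5))) (.node (.leaf (3, 174, 3)) (.leaf (4, 113, 3))))) (.node (.node (.node (.leaf (1, 255, 1)) (.leaf (5, 94, 5))) (.node (.leaf (4, 121, 3)) (.leaf (3, 176, 5)))) (.node (.node (.leaf (2, 195, 3)) (.leaf (6, 536, 5))) (.leaf (0, 39, 3))))) (.node (.node (.node (.node (.leaf (1, 152, 1)) (.leaf (4, 246, 6))) (.node (.leaf (6, 206, 8)) (.leaf (2, 422, 0))))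 (.node (.node (.leaf (1, 686, 1)) (.leaf (6, 216, 2))) (.node (.leaf (5, 322, 1)) (.leaf (5, 220, 2))))) (.node (.node (.node (.leaf (1, 360, 1)) (.leaf (5, 392, 7))) (.node (.leaf (4, 236, 1)) (.leaf (3, 462, 5)))) (.node (.node (.leaf (5, 34, 5)) (.leaf (6, 875, 1))) (.leaf (2, 243, 1))))))) (.node (.node (.node (.node (.node (.node (.leaf (1, 22, 1)) (.leaf (3, 143, 3))) (.node (.leaf (2, 16, 1)) (.leaf (0, 524, 0)))) (.node (.node (.leaf (1, 461, 1)) (.leaf (5, 662, 5))) (.node (.leaf (2, 268, 1)) (.leaf (3, 864, 4))))) (.node (.node (.node (.leaf (1, 228, 1)) (.leaf (5, 25, 4))) (.node (.leaf (3, 69, 4)) (.leaf (3, 78, 4)))) (.node (.node (.leaf (2, 6, 3)) (.leaf (6, 446, 2))) (.node (.leaf (6, 362, 2)) (.leaf (5, 868, 0)))))) (.node (.node (.node (.node (.leaf (1, 120, 1)) (.leaf (4, 123, 3))) (.node (.leaf (5, 140, 2)) (.leaf (2, 331, 1)))) (.node (.node (.leaf (1, 629, 1)) (.leaf (6, 143, 8))) (.node (.leaf (5, 132, 2)) (.leaf (4, 625, 0)))))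 (.node (.node (.node (.leaf (1, 331, 1)) (.leaf (5, 329, 8))) (.node (.leaf (3, 45, 6)) (.leaf (3, 374, 3)))) (.node (.node (.leaf (4, 98, 4)) (.leaf (6, 776, 8))) (.leaf (2, 131, 1)))))) (.node (.node (.node (.node (.node (.leaf (1, 70, 1)) (.leaf (3, 391, 7))) (.node (.leaf (2, 383, 2)) (.leaf (2, 70, 2)))) (.node (.node (.leaf (1, 526, 1)) (.leaf (5, 943, 9))) (.node (.leaf (4, 18, 4)) (.leaf (4, 251, 3))))) (.node (.node (.node (.leaf (1, 278, 1)) (.leaf (5, 167, 2))) (.node (.leaf (5, 420, 0)) (.leaf (3, 230, 3)))) (.node (.node (.leaf (3, 84, 2)) (.leaf (6, 616, 3))) (.leaf (0, 260, 2))))) (.node (.node (.node (.node (.leaf (1, 174, 1)) (.leaf (4, 387, 1))) (.node (.leaf (0, 157, 3)) (.leaf (2, 578, 3)))) (.node (.node (.leaf (1, 735, 1)) (.leaf (6, 294, 9))) (.node (.leaf (5, 659, 2)) (.leaf (5, 380, 0))))) (.node (.node (.node (.leaf (1, 398, 1)) (.leaf (5, 479, 4))) (.node (.leaf (6, 7, 5)) (.leaf (3, 561, 3)))) (.node (.node (.leaf (0,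 0, 2)) (.leaf (0, 147, 3))) (.leaf (2, 378, 0)))))))) (.node (.node (.node (.node (.node (.node (.node (.leaf (1, 11, 1)) (.leaf (3, 115, 7))) (.node (.leaf (0, 105, 1)) (.leaf (0, 353, 2)))) (.node (.node (.leaf (1, 444, 1)) (.leaf (5, 606, 9))) (.node (.leaf (2, 72, 2)) (.leaf (3, 753, 7))))) (.node (.node (.node (.leaf (1, 213, 1)) (.leaf (4, 796, 2))) (.node (.leaf (2, 286, 2)) (.leaf (2, 800, 1)))) (.node (.node (.leaf (1, 917, 1)) (.leaf (6, 399, 8))) (.node (.leaf (6, 245, 8)) (.leaf (5, 692, 2)))))) (.node (.node (.node (.node (.leaf (1, 104, 1)) (.leaf (4, 84, 3))) (.node (.leaf (3, 393, 6)) (.leaf (2, 284, 1)))) (.node (.node (.leaf (1, 605, 1)) (.leaf (6, 119, 4))) (.node (.leaf (5, 47, 2)) (.leaf (4, 487, 7))))) (.node (.node (.node (.leaf (1, 316, 1)) (.leaf (5, 275, 8))) (.node (.leaf (2, 273, 3)) (.leaf (3, 331, 5)))) (.node (.node (.leaf (4, 38, 4)) (.leaf (6, 721, 8))) (.leaf (2, 74, 1)))))) (.node (.node (.node (.node (.node (.leaf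 (1, 56, 1)) (.leaf (3, 338, 5))) (.node (.leaf (2, 123, 1)) (.leaf (1, 819, 0)))) (.node (.node (.leaf (1, 505, 1)) (.leaf (5, 836, 0))) (.node (.leaf (3, 298, 5)) (.leaf (4, 152, 3))))) (.node (.node (.node (.leaf (1, 265, 1)) (.leaf (5, 131, 1))) (.node (.leaf (5, 87, 4)) (.leaf (3, 194, 5)))) (.node (.node (.leaf (3, 14, 6)) (.leaf (6, 584, 8))) (.leaf (0, 106, 3))))) (.node (.node (.node (.node (.leaf (1, 162, 1)) (.leaf (4, 330, 4))) (.node (.leaf (0, 48, 3)) (.leaf (2, 512, 3)))) (.node (.node (.leaf (1, 702, 1)) (.leaf (6, 253, 5))) (.node (.leaf (5, 344, 8)) (.leaf (5, 271, 2))))) (.node (.node (.node (.leaf (1, 381, 1)) (.leaf (5, 444, 1))) (.node (.leaf (5, 142, 2)) (.leaf (3, 517, 3)))) (.node (.node (.leaf (6, 5, 2)) (.leaf (6, 935, 9))) (.leaf (2, 312, 0))))))) (.node (.node (.node (.node (.node (.node (.leaf (1, 34, 1)) (.leaf (3, 221, 5))) (.node (.leaf (2, 38, 1)) (.leaf (0, 756, 0)))) (.node (.node (.leaf (1, 475, 1)) (.leaf (5,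 708, 8))) (.node (.leaf (3, 48, 3)) (.leaf (3, 927, 5))))) (.node (.node (.node (.leaf (1, 245, 1)) (.leaf (5, 64, 7))) (.node (.leaf (3, 555, 3)) (.leaf (3, 126, 5)))) (.node (.node (.leaf (2, 31, 3)) (.leaf (6, 474, 8))) (.node (.leaf (6, 529, 0)) (.leaf (6, 440, 4)))))) (.node (.node (.node (.node (.leaf (1, 135, 1)) (.leaf (4, 183, 1))) (.node (.leaf (6, 30, 5)) (.leaf (2, 364, 3)))) (.node (.node (.leaf (1, 660, 1)) (.leaf (6, 195, 5))) (.node (.leaf (5, 188, 0)) (.leaf (4, 784, 8))))) (.node (.node (.node (.leaf (1, 347, 1)) (.leaf (5, 353, 2))) (.node (.leaf (3, 267, 5)) (.leaf (3, 418, 3)))) (.node (.node (.leaf (4, 254, 4)) (.leaf (6, 821, 2))) (.leaf (2, 188, 2)))))) (.node (.node (.node (.node (.node (.leaf (1, 81, 1)) (.leaf (3, 583, 3))) (.node (.leaf (3, 52, 3)) (.leaf (2, 147, 1)))) (.node (.node (.leaf (1, 542, 1)) (.leaf (6, 41, 4))) (.node (.leaf (4, 300, 1)) (.leaf (4, 315, 5))))) (.node (.node (.node (.leaf (1, 295, 1)) (.leaf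 (5, 214, 2))) (.node (.leaf (6, 223, 7)) (.leaf (3, 246, 5)))) (.node (.node (.leaf (4, 4, 1)) (.leaf (6, 644, 0))) (.leaf (1, 378, 0))))) (.node (.node (.node (.node (.leaf (1, 186, 1)) (.leaf (4, 507, 4))) (.node (.leaf (2, 29, 2)) (.leaf (2, 626, 0)))) (.node (.node (.leaf (1, 773, 1)) (.leaf (6, 339, 8))) (.node (.leaf (6, 46, 2)) (.leaf (5, 501, 2))))) (.node (.node (.node (.leaf (1, 419, 1)) (.leaf (5, 536, 2))) (.node (.leaf (0, 72, 2)) (.leaf (3, 629, 2)))) (.node (.node (.leaf (0, 18, 2)) (.leaf (0, 229, 2))) (.leaf (2, 555, 0))))))))) (.node (.node (.node (.node (.node (.node (.node (.node (.leaf (1, 5, 1)) (.leaf (3, 85, 3))) (.node (.leaf (0, 68, 2)) (.leaf (0, 345, 1)))) (.node (.node (.leaf (1, 436, 1)) (.leaf (5, 581, 5))) (.node (.leaf (1, 728, 0)) (.leaf (3, 721, 2))))) (.node (.node (.node (.leaf (1, 204, 1)) (.leaf (4, 740, 7))) (.node (.leaf (2, 186, 3)) (.leaf (2, 731, 0)))) (.node (.node (.leaf (1, 846, 1)) (.leaf (6, 387, 8)))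 (.node (.leaf (6, 184, 2)) (.leaf (5, 648, 2)))))) (.node (.node (.node (.node (.leaf (1, 99, 1)) (.leaf (4, 55, 4))) (.node (.leaf (3, 187, 2)) (.leaf (2, 237, 3)))) (.node (.node (.leaf (1, 590, 1)) (.leaf (6, 93, 8))) (.node (.leaf (5, 27, 2)) (.leaf (4, 474, 1))))) (.node (.node (.node (.leaf (1, 310, 1)) (.leaf (5, 252, 6))) (.node (.leaf (2, 112, 3)) (.leaf (3, 316, 5)))) (.node (.node (.leaf (4, 33, 4)) (.leaf (6, 700, 2))) (.leaf (2, 42, 2)))))) (.node (.node (.node (.node (.node (.leaf (1, 51, 1)) (.leaf (3, 312, 1))) (.node (.leaf (2, 94, 1)) (.leaf (1, 682, 0)))) (.node (.node (.leaf (1, 500, 1)) (.leaf (5, 815, 4))) (.node (.leaf (3, 224, 7)) (.leaf (4, 136, 3))))) (.node (.node (.node (.leaf (1, 261, 1)) (.leaf (5, 107, 2))) (.node (.leaf (4, 580, 0)) (.leaf (3, 183, 5)))) (.node (.node (.leaf (3, 4, 5)) (.leaf (6, 564, 6))) (.leaf (0, 50, 2))))) (.node (.node (.node (.node (.leaf (1, 157, 1)) (.leaf (4, 303, 4))) (.node (.leaf (0, 7,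 3)) (.leaf (2, 476, 0)))) (.node (.node (.leaf (1, 695, 1)) (.leaf (6, 229, 8))) (.node (.leaf (5, 337, 0)) (.leaf (5, 258, 4))))) (.node (.node (.node (.leaf (1, 371, 1)) (.leaf (5, 416, 5))) (.node (.leaf (5, 26, 8)) (.leaf (3, 493, 1)))) (.node (.node (.leaf (5, 365, 9)) (.leaf (6, 914, 8))) (.leaf (2, 259, 1))))))) (.node (.node (.node (.node (.node (.node (.leaf (1, 27, 1)) (.leaf (3, 189, 3))) (.node (.leaf (2, 30, 1)) (.leaf (0, 552, 1)))) (.node (.node (.leaf (1, 468, 1)) (.leaf (5, 684, 4))) (.node (.leaf (3, 2, 3)) (.leaf (3, 902, 7))))) (.node (.node (.node (.leaf (1, 238, 1)) (.leaf (5, 46, 2))) (.node (.leaf (3, 175, 3)) (.leaf (3, 93, 3)))) (.node (.node (.leaf (2, 18, 3)) (.leaf (6, 461, 0))) (.node (.leaf (6, 386, 4)) (.leaf (5, 967, 2)))))) (.node (.node (.node (.node (.leaf (1, 128, 1)) (.leaf (4, 156, 4))) (.node (.leaf (6, 11, 2)) (.leaf (2, 348, 1)))) (.node (.node (.leaf (1, 645, 1)) (.leaf (6, 167, 5))) (.node (.leaf (5, 156,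 2)) (.leaf (4, 714, 8))))) (.node (.node (.node (.leaf (1, 340, 1)) (.leaf (5, 335, 8))) (.node (.leaf (3, 163, 2)) (.leaf (3, 402, 0)))) (.node (.node (.leaf (4, 170, 4)) (.leaf (6, 804, 8))) (.leaf (2, 159, 1)))))) (.node (.node (.node (.node (.node (.leaf (1, 76, 1)) (.leaf (3, 439, 5))) (.node (.leaf (3, 25, 3)) (.leaf (2, 118, 2)))) (.node (.node (.leaf (1, 536, 1)) (.leaf (6, 25, 3))) (.node (.leaf (4, 75, 4)) (.leaf (4, 292, 4))))) (.node (.node (.node (.leaf (1, 287, 1)) (.leaf (5, 190, 7))) (.node (.leaf (5, 727, 5)) (.leaf (3, 237, 5)))) (.node (.node (.leaf (4, 0, 4)) (.leaf (6, 634, 5))) (.leaf (0, 373, 1))))) (.node (.node (.node (.node (.leaf (1, 179, 1)) (.leaf (4, 431, 2))) (.node (.leaf (1, 197, 0)) (.leaf (2, 602, 0)))) (.node (.node (.leaf (1, 744, 1)) (.leaf (6, 318, 0))) (.node (.leaf (5, 834, 9)) (.leaf (5, 453, 2))))) (.node (.node (.node (.leaf (1, 411, 1)) (.leaf (5, 508, 5))) (.node (.leaf (6, 363, 0)) (.leaf (3, 596, 7))))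 (.node (.node (.leaf (0, 6, 2)) (.leaf (0, 171, 2))) (.leaf (2, 465, 3)))))))) (.node (.node (.node (.node (.node (.node (.node (.leaf (1, 16, 1)) (.leaf (3, 136, 5))) (.node (.leaf (2, 2, 1)) (.leaf (0, 437, 2)))) (.node (.node (.leaf (1, 457, 1)) (.leaf (5, 622, 5))) (.node (.leaf (2, 108, 1)) (.leaf (3, 813, 5))))) (.node (.node (.node (.leaf (1, 221, 1)) (.leaf (5, 4, 2))) (.node (.leaf (2, 491, 1)) (.leaf (2, 917, 2)))) (.node (.node (.leaf (2, 0, 3)) (.leaf (6, 434, 8))) (.node (.leaf (6, 296, 1)) (.leaf (5, 775, 0)))))) (.node (.node (.node (.node (.leaf (1, 111, 1)) (.leaf (4, 102, 4))) (.node (.leaf (4, 390, 3)) (.leaf (2, 300, 2)))) (.node (.node (.leaf (1, 616, 1)) (.leaf (6, 135, 4))) (.node (.leaf (5, 68, 7)) (.leaf (4, 529, 4))))) (.node (.node (.node (.leaf (1, 322, 1)) (.leaf (5, 292, 2))) (.node (.leaf (2, 386, 2)) (.leaf (3, 361, 3)))) (.node (.node (.leaf (4, 74, 1)) (.leaf (6, 741, 7))) (.leaf (2, 117, 1)))))) (.node (.node (.node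 (.node (.node (.leaf (1, 61, 1)) (.leaf (3, 351, 6))) (.node (.leaf (2, 201, 2)) (.leaf (1, 890, 0)))) (.node (.node (.leaf (1, 516, 1)) (.leaf (5, 862, 5))) (.node (.leaf (3, 587, 3)) (.leaf (4, 189, 6))))) (.node (.node (.node (.leaf (1, 270, 1)) (.leaf (5, 152, 2))) (.node (.leaf (5, 184, 4)) (.leaf (3, 207, 4)))) (.node (.node (.leaf (3, 31, 6)) (.leaf (6, 597, 1))) (.leaf (0, 185, 3))))) (.node (.node (.node (.node (.leaf (1, 168, 1)) (.leaf (4, 350, 7))) (.node (.leaf (0, 93, 3)) (.leaf (2, 545, 2)))) (.node (.node (.leaf (1, 713, 1)) (.leaf (6, 272, 4))) (.node (.leaf (5, 559, 5)) (.leaf (5, 345, 2))))) (.node (.node (.node (.leaf (1, 389, 1)) (.leaf (5, 450, 0))) (.node (.leaf (5, 367, 1)) (.leaf (3, 547, 7)))) (.node (.node (.leaf (6, 67, 0)) (.leaf (0, 89, 3))) (.leaf (2, 355, 1))))))) (.node (.node (.node (.node (.node (.node (.leaf (1, 39, 1)) (.leaf (3, 276, 5))) (.node (.leaf (2, 53, 2)) (.leaf (1, 363, 0)))) (.node (.node (.leaf (1,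 483, 1)) (.leaf (5, 745, 2))) (.node (.leaf (3, 97, 3)) (.leaf (3, 965, 0))))) (.node (.node (.node (.leaf (1, 250, 1)) (.leaf (5, 75, 7))) (.node (.leaf (4, 30, 6)) (.leaf (3, 151, 7)))) (.node (.node (.leaf (2, 68, 3)) (.leaf (6, 497, 2))) (.leaf (6, 754, 7))))) (.node (.node (.node (.node (.leaf (1, 146, 1)) (.leaf (4, 222, 3))) (.node (.leaf (6, 69, 8)) (.leaf (2, 411, 3)))) (.node (.node (.leaf (1, 675, 1)) (.leaf (6, 209, 4))) (.node (.leaf (5, 250, 0)) (.leaf (4, 913, 7))))) (.node (.node (.node (.leaf (1, 354, 1)) (.leaf (5, 357, 2))) (.node (.leaf (4, 21, 4)) (.leaf (3, 442, 1)))) (.node (.node (.leaf (4, 423, 4)) (.leaf (6, 853, 3))) (.leaf (2, 210, 1)))))) (.node (.node (.node (.node (.node (.leaf (1, 87, 1)) (.leaf (3, 728, 7))) (.node (.leaf (3, 67, 3)) (.leaf (2, 176, 3)))) (.node (.node (.leaf (1, 556, 1)) (.leaf (6, 52, 2))) (.node (.leaf (4, 610, 0)) (.leaf (4, 385, 4))))) (.node (.node (.node (.leaf (1, 299, 1)) (.leaf (5, 229,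 5))) (.node (.leaf (0, 130, 3)) (.leaf (3, 255, 4)))) (.node (.node (.leaf (4, 11, 4)) (.leaf (6, 652, 3))) (.leaf (1, 583, 1))))) (.node (.node (.node (.node (.leaf (1, 192, 1)) (.leaf (4, 612, 4))) (.node (.leaf (2, 63, 2)) (.leaf (2, 641, 0)))) (.node (.node (.leaf (1, 796, 1)) (.leaf (6, 356, 2))) (.node (.leaf (6, 97, 2)) (.leaf (5, 548, 0))))) (.node (.node (.node (.leaf (1, 424, 1)) (.leaf (5, 552, 1))) (.node (.leaf (0, 174, 2)) (.leaf (3, 643, 1)))) (.node (.node (.leaf (0, 28, 2)) (.leaf (0, 247, 1))) (.leaf (3, 17, 5)))))))))) (.node (.node (.node (.node (.node (.node (.node (.node (.node (.leaf (1, 2, 1)) (.leaf (3, 66, 5))) (.node (.leaf (0, 57, 2)) (.leaf (0, 317, 2)))) (.node (.node (.leaf (1, 432, 1)) (.leaf (5, 572, 2))) (.node (.leaf (1, 437, 0)) (.leaf (3, 692, 1))))) (.node (.node (.node (.leaf (1, 201, 1)) (.leaf (4, 662, 3))) (.node (.leaf (2, 173, 2)) (.leaf (2, 701, 2)))) (.node (.node (.leaf (1, 836, 1)) (.leaf (6, 384, 8)))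 (.node (.leaf (6, 154, 2)) (.leaf (5, 641, 2)))))) (.node (.node (.node (.node (.leaf (1, 96, 1)) (.leaf (4, 24, 4))) (.node (.leaf (3, 111, 3)) (.leaf (2, 229, 2)))) (.node (.node (.leaf (1, 580, 1)) (.leaf (6, 89, 2))) (.node (.leaf (5, 10, 2)) (.leaf (4, 457, 3))))) (.node (.node (.node (.leaf (1, 307, 1)) (.leaf (5, 248, 7))) (.node (.leaf (2, 78, 2)) (.leaf (3, 300, 6)))) (.node (.node (.leaf (4, 20, 1)) (.leaf (6, 684, 7))) (.leaf (2, 39, 1)))))) (.node (.node (.node (.node (.node (.leaf (1, 48, 1)) (.leaf (3, 303, 1))) (.node (.leaf (2, 83, 3)) (.leaf (1, 639, 1)))) (.node (.node (.leaf (1, 495, 1)) (.leaf (5, 805, 5))) (.node (.leaf (3, 208, 3)) (.leaf (4, 122, 4))))) (.node (.node (.node (.leaf (1, 258, 1)) (.leaf (5, 101, 5))) (.node (.leaf (4, 210, 3)) (.leaf (3, 181, 4)))) (.node (.node (.leaf (3, 1, 5)) (.leaf (6, 542, 9))) (.leaf (0, 42, 1))))) (.node (.node (.node (.node (.leaf (1, 155, 1)) (.leaf (4, 258, 1))) (.node (.leaf (6, 275,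 0)) (.leaf (2, 435, 2)))) (.node (.node (.leaf (1, 691, 1)) (.leaf (6, 226, 8))) (.node (.leaf (5, 326, 2)) (.leaf (5, 236, 2))))) (.node (.node (.node (.leaf (1, 368, 1)) (.leaf (5, 399, 4))) (.node (.leaf (4, 524, 4)) (.leaf (3, 465, 3)))) (.node (.node (.leaf (5, 143, 7)) (.leaf (6, 906, 8))) (.leaf (2, 246, 3))))))) (.node (.node (.node (.node (.node (.node (.leaf (1, 25, 1)) (.leaf (3, 165, 7))) (.node (.leaf (2, 25, 1)) (.leaf (0, 533, 3)))) (.node (.node (.leaf (1, 464, 1)) (.leaf (5, 677, 4))) (.node (.leaf (2, 472, 0)) (.leaf (3, 883, 3))))) (.node (.node (.node (.leaf (1, 235, 1)) (.leaf (5, 39, 4))) (.node (.leaf (3, 133, 5)) (.leaf (3, 86, 5)))) (.node (.node (.leaf (2, 10, 3)) (.leaf (6, 454, 7))) (.node (.leaf (6, 367, 2)) (.leaf (5, 930, 0)))))) (.node (.node (.node (.node (.leaf (1, 126, 1)) (.leaf (4, 130, 3))) (.node (.leaf (5, 553, 8)) (.leaf (2, 335, 1)))) (.node (.node (.leaf (1, 641, 1)) (.leaf (6, 157, 8))) (.node (.leaf (5,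 150, 7)) (.leaf (4, 695, 4))))) (.node (.node (.node (.leaf (1, 334, 1)) (.leaf (5, 332, 6))) (.node (.leaf (3, 65, 7)) (.leaf (3, 398, 5)))) (.node (.node (.leaf (4, 154, 4)) (.leaf (6, 796, 6))) (.leaf (2, 138, 0)))))) (.node (.node (.node (.node (.node (.leaf (1, 73, 1)) (.leaf (3, 413, 7))) (.node (.leaf (3, 11, 3)) (.leaf (2, 89, 2)))) (.node (.node (.leaf (1, 534, 1)) (.leaf (5, 955, 4))) (.node (.leaf (4, 47, 3)) (.leaf (4, 287, 1))))) (.node (.node (.node (.leaf (1, 285, 1)) (.leaf (5, 172, 2))) (.node (.leaf (5, 500, 2)) (.leaf (3, 235, 6)))) (.node (.node (.leaf (3, 172, 2)) (.leaf (6, 624, 8))) (.leaf (0, 306, 2))))) (.node (.node (.node (.node (.leaf (1, 176, 1)) (.leaf (4, 411, 0))) (.node (.leaf (0, 173, 2)) (.leaf (2, 598, 2)))) (.node (.node (.leaf (1, 737, 1)) (.leaf (6, 303, 4))) (.node (.leaf (5, 765, 9)) (.leaf (5, 439, 0))))) (.node (.node (.node (.leaf (1, 405, 1)) (.leaf (5, 498, 4))) (.node (.leaf (6, 27, 2)) (.leaf (3, 579,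 3)))) (.node (.node (.leaf (0, 3, 2)) (.leaf (0, 158, 0))) (.leaf (2, 395, 1)))))))) (.node (.node (.node (.node (.node (.node (.node (.leaf (1, 13, 1)) (.leaf (3, 121, 5))) (.node (.leaf (0, 195, 2)) (.leaf (0, 399, 3)))) (.node (.node (.leaf (1, 452, 1)) (.leaf (5, 618, 0))) (.node (.leaf (2, 100, 0)) (.leaf (3, 777, 1))))) (.node (.node (.node (.leaf (1, 219, 1)) (.leaf (4, 877, 3))) (.node (.leaf (2, 366, 0)) (.leaf (2, 816, 1)))) (.node (.node (.leaf (1, 953, 1)) (.leaf (6, 419, 4))) (.node (.leaf (6, 261, 0)) (.leaf (5, 748, 4)))))) (.node (.node (.node (.node (.leaf (1, 107, 1)) (.leaf (4, 90, 3))) (.node (.leaf (4, 29, 4)) (.leaf (2, 289, 1)))) (.node (.node (.leaf (1, 614, 1)) (.leaf (6, 129, 2))) (.node (.leaf (5, 62, 5)) (.leaf (4, 500, 2))))) (.node (.node (.node (.leaf (1, 320, 1)) (.leaf (5, 281, 2))) (.node (.leaf (2, 321, 1)) (.leaf (3, 335, 3)))) (.node (.node (.leaf (4, 50, 4)) (.leaf (6, 734, 2))) (.leaf (2, 87, 3)))))) (.node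 (.node (.node (.node (.node (.leaf (1, 59, 1)) (.leaf (3, 346, 3))) (.node (.leaf (2, 133, 2)) (.leaf (1, 880, 0)))) (.node (.node (.leaf (1, 508, 1)) (.leaf (5, 843, 2))) (.node (.leaf (3, 341, 3)) (.leaf (4, 160, 2))))) (.node (.node (.node (.leaf (1, 268, 1)) (.leaf (5, 144, 2))) (.node (.leaf (5, 120, 4)) (.leaf (3, 201, 4)))) (.node (.node (.leaf (3, 24, 5)) (.leaf (6, 589, 2))) (.leaf (0, 138, 3))))) (.node (.node (.node (.node (.leaf (1, 165, 1)) (.leaf (4, 346, 1))) (.node (.leaf (0, 63, 3)) (.leaf (2, 517, 1)))) (.node (.node (.leaf (1, 710, 1)) (.leaf (6, 259, 4))) (.node (.leaf (5, 419, 0)) (.leaf (5, 309, 0))))) (.node (.node (.node (.leaf (1, 385, 1)) (.leaf (5, 447, 4))) (.node (.leaf (5, 241, 1)) (.leaf (3, 521, 7)))) (.node (.node (.leaf (6, 13, 2)) (.leaf (6, 956, 8))) (.leaf (2, 323, 2))))))) (.node (.node (.node (.node (.node (.node (.leaf (1, 37, 1)) (.leaf (3, 229, 7))) (.node (.leaf (2, 45, 2)) (.leaf (1, 277, 1)))) (.node (.node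 (.leaf (1, 477, 1)) (.leaf (5, 722, 0))) (.node (.leaf (3, 61, 1)) (.leaf (3, 948, 3))))) (.node (.node (.node (.leaf (1, 248, 1)) (.leaf (5, 69, 7))) (.node (.leaf (3, 921, 0)) (.leaf (3, 147, 1)))) (.node (.node (.leaf (2, 54, 3)) (.leaf (6, 477, 8))) (.leaf (6, 553, 8))))) (.node (.node (.node (.node (.leaf (1, 138, 1)) (.leaf (4, 205, 4))) (.node (.leaf (6, 47, 7)) (.leaf (2, 388, 1)))) (.node (.node (.leaf (1, 666, 1)) (.leaf (6, 202, 8))) (.node (.leaf (5, 209, 6)) (.leaf (4, 838, 1))))) (.node (.node (.node (.leaf (1, 351, 1)) (.leaf (5, 355, 2))) (.node (.leaf (3, 472, 3)) (.leaf (3, 428, 5)))) (.node (.node (.leaf (4, 383, 1)) (.leaf (6, 829, 4))) (.leaf (2, 204, 2)))))) (.node (.node (.node (.node (.node (.leaf (1, 84, 1)) (.leaf (3, 666, 1))) (.node (.leaf (3, 59, 3)) (.leaf (2, 160, 2)))) (.node (.node (.leaf (1, 550, 1)) (.leaf (6, 48, 7))) (.node (.leaf (4, 368, 1)) (.leaf (4, 328, 4))))) (.node (.node (.node (.leaf (1, 297, 1)) (.leaf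 (5, 222, 4))) (.node (.leaf (6, 381, 2)) (.leaf (3, 248, 3)))) (.node (.node (.leaf (4, 7, 4)) (.leaf (6, 649, 0))) (.leaf (1, 554, 1))))) (.node (.node (.node (.node (.leaf (1, 189, 1)) (.leaf (4, 571, 3))) (.node (.leaf (2, 58, 0)) (.leaf (2, 631, 2)))) (.node (.node (.leaf (1, 789, 1)) (.leaf (6, 353, 8))) (.node (.leaf (6, 58, 2)) (.leaf (5, 525, 0))))) (.node (.node (.node (.leaf (1, 421, 1)) (.leaf (5, 541, 4))) (.node (.leaf (0, 119, 3)) (.leaf (3, 632, 5)))) (.node (.node (.leaf (0, 24, 2)) (.leaf (0, 240, 2))) (.leaf (3, 8, 4))))))))) (.node (.node (.node (.node (.node (.node (.node (.node (.leaf (1, 8, 1)) (.leaf (3, 103, 2))) (.node (.leaf (0, 98, 1)) (.leaf (0, 349, 2)))) (.node (.node (.leaf (1, 439, 1)) (.leaf (5, 594, 9))) (.node (.leaf (2, 40, 2)) (.leaf (3, 737, 5))))) (.node (.node (.node (.leaf (1, 210, 1)) (.leaf (4, 783, 0))) (.node (.leaf (2, 261, 1)) (.leaf (2, 782, 2)))) (.node (.node (.leaf (1, 907, 1)) (.leaf (6, 396, 9)))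 (.node (.leaf (6, 193, 3)) (.leaf (5, 683, 5)))))) (.node (.node (.node (.node (.leaf (1, 101, 1)) (.leaf (4, 70, 3))) (.node (.leaf (3, 272, 7)) (.leaf (2, 258, 2)))) (.node (.node (.leaf (1, 597, 1)) (.leaf (6, 109, 4))) (.node (.leaf (5, 31, 2)) (.leaf (4, 477, 1))))) (.node (.node (.node (.leaf (1, 313, 1)) (.leaf (5, 261, 7))) (.node (.leaf (2, 223, 2)) (.leaf (3, 327, 5)))) (.node (.node (.leaf (4, 36, 4)) (.leaf (6, 703, 8))) (.leaf (2, 50, 2)))))) (.node (.node (.node (.node (.node (.leaf (1, 54, 1)) (.leaf (3, 324, 1))) (.node (.leaf (2, 104, 1)) (.leaf (1, 731, 1)))) (.node (.node (.leaf (1, 502, 1)) (.leaf (5, 824, 9))) (.node (.leaf (3, 251, 2)) (.leaf (4, 147, 1))))) (.node (.node (.node (.leaf (1, 263, 1)) (.leaf (5, 122, 5))) (.node (.leaf (5, 22, 5)) (.leaf (3, 186, 5)))) (.node (.node (.leaf (3, 9, 6)) (.leaf (6, 575, 2))) (.leaf (0, 62, 3))))) (.node (.node (.node (.node (.leaf (1, 160, 1)) (.leaf (4, 314, 4))) (.node (.leaf (0,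 33, 2)) (.leaf (2, 504, 3)))) (.node (.node (.leaf (1, 697, 1)) (.leaf (6, 248, 8))) (.node (.leaf (5, 339, 5)) (.leaf (5, 268, 4))))) (.node (.node (.node (.leaf (1, 374, 1)) (.leaf (5, 421, 6))) (.node (.leaf (5, 37, 2)) (.leaf (3, 514, 7)))) (.node (.node (.leaf (6, 1, 4)) (.leaf (6, 927, 5))) (.leaf (2, 285, 2))))))) (.node (.node (.node (.node (.node (.node (.leaf (1, 30, 1)) (.leaf (3, 197, 3))) (.node (.leaf (2, 35, 1)) (.leaf (0, 610, 2)))) (.node (.node (.leaf (1, 470, 1)) (.leaf (5, 703, 6))) (.node (.leaf (3, 37, 2)) (.leaf (3, 918, 7))))) (.node (.node (.node (.leaf (1, 242, 1)) (.leaf (5, 56, 5))) (.node (.leaf (3, 317, 3)) (.leaf (3, 105, 5)))) (.node (.node (.leaf (2, 24, 3)) (.leaf (6, 464, 1))) (.node (.leaf (6, 436, 8)) (.leaf (6, 162, 4)))))) (.node (.node (.node (.node (.leaf (1, 131, 1)) (.leaf (4, 173, 4))) (.node (.leaf (6, 19, 2)) (.leaf (2, 350, 2)))) (.node (.node (.leaf (1, 648, 1)) (.leaf (6, 187, 5))) (.node (.leaf (5,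 178, 5)) (.leaf (4, 738, 7))))) (.node (.node (.node (.leaf (1, 343, 1)) (.leaf (5, 343, 0))) (.node (.leaf (3, 223, 5)) (.leaf (3, 407, 5)))) (.node (.node (.leaf (4, 211, 1)) (.leaf (6, 811, 8))) (.leaf (2, 181, 2)))))) (.node (.node (.node (.node (.node (.leaf (1, 79, 1)) (.leaf (3, 471, 1))) (.node (.leaf (3, 34, 3)) (.leaf (2, 125, 2)))) (.node (.node (.leaf (1, 538, 1)) (.leaf (6, 33, 4))) (.node (.leaf (4, 163, 3)) (.leaf (4, 309, 3))))) (.node (.node (.node (.leaf (1, 291, 1)) (.leaf (5, 197, 8))) (.node (.leaf (6, 113, 8)) (.leaf (3, 242, 3)))) (.node (.node (.leaf (4, 2, 4)) (.leaf (6, 638, 3))) (.leaf (0, 479, 2))))) (.node (.node (.node (.node (.leaf (1, 182, 1)) (.leaf (4, 448, 2))) (.node (.leaf (1, 832, 1)) (.leaf (2, 618, 2)))) (.node (.node (.leaf (1, 761, 1)) (.leaf (6, 321, 5))) (.node (.leaf (6, 24, 7)) (.leaf (5, 486, 0))))) (.node (.node (.node (.leaf (1, 417, 1)) (.leaf (5, 530, 3))) (.node (.leaf (6, 615, 8)) (.leaf (3, 615,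 3)))) (.node (.node (.leaf (0, 10, 2)) (.leaf (0, 202, 3))) (.leaf (2, 526, 0)))))))) (.node (.node (.node (.node (.node (.node (.node (.leaf (1, 19, 1)) (.leaf (3, 139, 7))) (.node (.leaf (2, 11, 1)) (.leaf (0, 507, 1)))) (.node (.node (.leaf (1, 459, 1)) (.leaf (5, 635, 9))) (.node (.leaf (2, 135, 0)) (.leaf (3, 837, 4))))) (.node (.node (.node (.leaf (1, 226, 1)) (.leaf (5, 17, 2))) (.node (.leaf (3, 15, 3)) (.leaf (3, 63, 3)))) (.node (.node (.leaf (2, 3, 3)) (.leaf (6, 441, 4))) (.node (.leaf (6, 342, 2)) (.leaf (5, 802, 4)))))) (.node (.node (.node (.node (.leaf (1, 117, 1)) (.leaf (4, 109, 4))) (.node (.leaf (5, 41, 5)) (.leaf (2, 311, 0)))) (.node (.node (.leaf (1, 625, 1)) (.leaf (6, 138, 3))) (.node (.leaf (5, 92, 2)) (.leaf (4, 549, 3))))) (.node (.node (.node (.leaf (1, 327, 1)) (.leaf (5, 305, 5))) (.node (.leaf (2, 519, 2)) (.leaf (3, 370, 6)))) (.node (.node (.leaf (4, 85, 1)) (.leaf (6, 760, 0))) (.leaf (2, 124, 2)))))) (.node (.node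 (.node (.node (.node (.leaf (1, 64, 1)) (.leaf (3, 365, 3))) (.node (.leaf (2, 221, 2)) (.leaf (1, 901, 1)))) (.node (.node (.leaf (1, 520, 1)) (.leaf (5, 878, 1))) (.node (.leaf (3, 823, 7)) (.leaf (4, 243, 3))))) (.node (.node (.node (.leaf (1, 273, 1)) (.leaf (5, 165, 6))) (.node (.leaf (5, 350, 2)) (.leaf (3, 214, 5)))) (.node (.node (.leaf (3, 47, 6)) (.leaf (6, 610, 8))) (.leaf (0, 212, 3))))) (.node (.node (.node (.node (.leaf (1, 171, 1)) (.leaf (4, 378, 4))) (.node (.leaf (0, 107, 3)) (.leaf (2, 550, 1)))) (.node (.node (.leaf (1, 726, 1)) (.leaf (6, 287, 2))) (.node (.leaf (5, 588, 0)) (.leaf (5, 351, 2))))) (.node (.node (.node (.leaf (1, 396, 1)) (.leaf (5, 472, 0))) (.node (.leaf (5, 585, 9)) (.leaf (3, 554, 4)))) (.node (.node (.leaf (6, 442, 0)) (.leaf (0, 118, 3))) (.leaf (2, 371, 1))))))) (.node (.node (.node (.node (.node (.node (.leaf (1, 43, 1)) (.leaf (3, 285, 5))) (.node (.leaf (2, 76, 3)) (.leaf (1, 532, 0)))) (.node (.node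 (.leaf (1, 486, 1)) (.leaf (5, 747, 1))) (.node (.leaf (3, 102, 5)) (.leaf (4, 93, 4))))) (.node (.node (.node (.leaf (1, 252, 1)) (.leaf (5, 82, 4))) (.node (.leaf (4, 77, 3)) (.leaf (3, 168, 4)))) (.node (.node (.leaf (2, 99, 3)) (.leaf (6, 507, 0))) (.leaf (6, 950, 0))))) (.node (.node (.node (.node (.leaf (1, 149, 1)) (.leaf (4, 235, 1))) (.node (.leaf (6, 156, 1)) (.leaf (2, 418, 0)))) (.node (.node (.leaf (1, 678, 1)) (.leaf (6, 214, 8))) (.node (.leaf (5, 280, 7)) (.leaf (5, 115, 2))))) (.node (.node (.node (.leaf (1, 357, 1)) (.leaf (5, 382, 5))) (.node (.leaf (4, 146, 1)) (.leaf (3, 452, 3)))) (.node (.node (.leaf (4, 669, 4)) (.leaf (6, 859, 4))) (.leaf (2, 217, 1)))))) (.node (.node (.node (.node (.node (.leaf (1, 90, 1)) (.leaf (3, 810, 2))) (.node (.leaf (3, 80, 3)) (.leaf (2, 194, 3)))) (.node (.node (.leaf (1, 568, 1)) (.leaf (6, 68, 7))) (.node (.leaf (4, 717, 4)) (.leaf (4, 421, 6))))) (.node (.node (.node (.leaf (1, 301, 1)) (.leaf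 (5, 235, 7))) (.node (.leaf (0, 223, 3)) (.leaf (3, 271, 3)))) (.node (.node (.leaf (4, 14, 4)) (.leaf (6, 662, 8))) (.leaf (1, 742, 1))))) (.node (.node (.node (.node (.leaf (1, 195, 1)) (.leaf (4, 638, 3))) (.node (.leaf (2, 92, 2)) (.leaf (2, 667, 1)))) (.node (.node (.leaf (1, 802, 1)) (.leaf (6, 366, 2))) (.node (.leaf (6, 103, 2)) (.leaf (5, 595, 0))))) (.node (.node (.node (.leaf (1, 428, 1)) (.leaf (5, 558, 2))) (.node (.leaf (0, 273, 2)) (.leaf (3, 658, 5)))) (.node (.node (.leaf (0, 45, 3)) (.leaf (0, 295, 3))) (.leaf (3, 27, 3))))))))))) (.node (.node (.node (.node (.node (.node (.node (.node (.node (.node (.leaf (1, 1, 1)) (.leaf (3, 62, 5))) (.node (.leaf (0, 54, 2)) (.leaf (0, 312, 2)))) (.node (.node (.leaf (1, 431, 1)) (.leaf (5, 566, 1))) (.node (.leaf (1, 382, 0)) (.leaf (3, 686, 1))))) (.node (.node (.node (.leaf (1, 200, 1)) (.leaf (4, 661, 7))) (.node (.leaf (2, 170, 2)) (.leaf (2, 688, 0)))) (.node (.node (.leaf (1, 817, 1))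 (.leaf (6, 375, 2))) (.node (.leaf (6, 145, 2)) (.leaf (5, 634, 2)))))) (.node (.node (.node (.node (.leaf (1, 94, 1)) (.leaf (3, 932, 0))) (.node (.leaf (3, 104, 3)) (.leaf (2, 225, 2)))) (.node (.node (.leaf (1, 579, 1)) (.leaf (6, 81, 5))) (.node (.leaf (5, 6, 4)) (.leaf (4, 442, 4))))) (.node (.node (.node (.leaf (1, 305, 1)) (.leaf (5, 243, 2))) (.node (.leaf (0, 519, 2)) (.leaf (3, 297, 3)))) (.node (.node (.leaf (4, 19, 4)) (.leaf (6, 681, 9))) (.leaf (2, 23, 2)))))) (.node (.node (.node (.node (.node (.leaf (1, 46, 1)) (.leaf (3, 296, 2))) (.node (.leaf (2, 81, 1)) (.leaf (1, 626, 0)))) (.node (.node (.leaf (1, 493, 1)) (.leaf (5, 797, 5))) (.node (.leaf (3, 180, 3)) (.leaf (4, 115, 4))))) (.node (.node (.node (.leaf (1, 256, 1)) (.leaf (5, 96, 6))) (.node (.leaf (4, 126, 7)) (.leaf (3, 179, 7)))) (.node (.node (.leaf (3, 0, 5)) (.leaf (6, 537, 3))) (.leaf (0, 40, 1))))) (.node (.node (.node (.node (.leaf (1, 153, 1)) (.leaf (4, 247, 4)))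 (.node (.leaf (6, 244, 1)) (.leaf (2, 432, 0)))) (.node (.node (.leaf (1, 688, 1)) (.leaf (6, 224, 3))) (.node (.leaf (5, 324, 7)) (.leaf (5, 232, 2))))) (.node (.node (.node (.leaf (1, 366, 1)) (.leaf (5, 395, 4))) (.node (.leaf (4, 270, 1)) (.leaf (3, 463, 5)))) (.node (.node (.leaf (5, 110, 2)) (.leaf (6, 878, 3))) (.leaf (2, 245, 2))))))) (.node (.node (.node (.node (.node (.node (.leaf (1, 24, 1)) (.leaf (3, 159, 3))) (.node (.leaf (2, 19, 1)) (.leaf (0, 531, 3)))) (.node (.node (.leaf (1, 463, 1)) (.leaf (5, 665, 4))) (.node (.leaf (2, 330, 1)) (.leaf (3, 881, 0))))) (.node (.node (.node (.leaf (1, 230, 1)) (.leaf (5, 32, 4))) (.node (.leaf (3, 113, 4)) (.leaf (3, 81, 3)))) (.node (.node (.leaf (2, 9, 3)) (.leaf (6, 451, 2))) (.node (.leaf (6, 365, 4)) (.leaf (5, 873, 4)))))) (.node (.node (.node (.node (.leaf (1, 123, 1)) (.leaf (4, 125, 1))) (.node (.leaf (5, 141, 5)) (.leaf (2, 334, 1)))) (.node (.node (.leaf (1, 638, 1)) (.leaf (6, 155,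 3))) (.node (.leaf (5, 145, 2)) (.leaf (4, 627, 6))))) (.node (.node (.node (.leaf (1, 333, 1)) (.leaf (5, 330, 7))) (.node (.leaf (3, 51, 5)) (.leaf (3, 389, 3)))) (.node (.node (.leaf (4, 118, 1)) (.leaf (6, 786, 9))) (.leaf (2, 137, 2)))))) (.node (.node (.node (.node (.node (.leaf (1, 72, 1)) (.leaf (3, 395, 1))) (.node (.leaf (2, 397, 2)) (.leaf (2, 88, 2)))) (.node (.node (.leaf (1, 530, 1)) (.leaf (5, 950, 2))) (.node (.leaf (4, 28, 3)) (.leaf (4, 277, 6))))) (.node (.node (.node (.leaf (1, 284, 1)) (.leaf (5, 171, 2))) (.node (.leaf (5, 423, 2)) (.leaf (3, 234, 5)))) (.node (.node (.leaf (3, 156, 2)) (.leaf (6, 617, 0))) (.leaf (0, 267, 2))))) (.node (.node (.node (.node (.leaf (1, 175, 1)) (.leaf (4, 399, 3))) (.node (.leaf (0, 170, 3)) (.leaf (2, 595, 0)))) (.node (.node (.leaf (1, 736, 1)) (.leaf (6, 299, 8))) (.node (.leaf (5, 705, 9)) (.leaf (5, 430, 4))))) (.node (.node (.node (.leaf (1, 403, 1)) (.leaf (5, 490, 5))) (.node (.leaf (6,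 22, 8)) (.leaf (3, 563, 7)))) (.node (.node (.leaf (0, 1, 2)) (.leaf (0, 148, 3))) (.leaf (2, 385, 0)))))))) (.node (.node (.node (.node (.node (.node (.node (.leaf (1, 12, 1)) (.leaf (3, 120, 3))) (.node (.leaf (0, 142, 2)) (.leaf (0, 388, 2)))) (.node (.node (.leaf (1, 449, 1)) (.leaf (5, 611, 5))) (.node (.leaf (2, 82, 3)) (.leaf (3, 759, 3))))) (.node (.node (.node (.leaf (1, 216, 1)) (.leaf (4, 800, 7))) (.node (.leaf (2, 340, 1)) (.leaf (2, 815, 3)))) (.node (.node (.leaf (1, 930, 1)) (.leaf (6, 407, 2))) (.node (.leaf (6, 250, 7)) (.leaf (5, 698, 0)))))) (.node (.node (.node (.node (.leaf (1, 105, 1)) (.leaf (4, 86, 4))) (.node (.leaf (3, 663, 6)) (.leaf (2, 288, 3)))) (.node (.node (.leaf (1, 610, 1)) (.leaf (6, 123, 2))) (.node (.leaf (5, 58, 2)) (.leaf (4, 499, 1))))) (.node (.node (.node (.leaf (1, 318, 1)) (.leaf (5, 277, 8))) (.node (.leaf (2, 276, 3)) (.leaf (3, 334, 5)))) (.node (.node (.leaf (4, 39, 1)) (.leaf (6, 727, 8))) (.leaf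 (2, 77, 2)))))) (.node (.node (.node (.node (.node (.leaf (1, 58, 1)) (.leaf (3, 340, 1))) (.node (.leaf (2, 127, 1)) (.leaf (1, 879, 0)))) (.node (.node (.leaf (1, 506, 1)) (.leaf (5, 842, 0))) (.node (.leaf (3, 326, 7)) (.leaf (4, 159, 3))))) (.node (.node (.node (.leaf (1, 267, 1)) (.leaf (5, 134, 2))) (.node (.leaf (5, 112, 9)) (.leaf (3, 195, 6)))) (.node (.node (.leaf (3, 19, 2)) (.leaf (6, 588, 4))) (.leaf (0, 137, 3))))) (.node (.node (.node (.node (.leaf (1, 163, 1)) (.leaf (4, 339, 6))) (.node (.leaf (0, 58, 2)) (.leaf (2, 516, 3)))) (.node (.node (.leaf (1, 707, 1)) (.leaf (6, 256, 2))) (.node (.leaf (5, 371, 0)) (.leaf (5, 289, 1))))) (.node (.node (.node (.leaf (1, 383, 1)) (.leaf (5, 445, 2))) (.node (.leaf (5, 164, 2)) (.leaf (3, 520, 5)))) (.node (.node (.leaf (6, 12, 4)) (.leaf (6, 942, 2))) (.leaf (2, 317, 2))))))) (.node (.node (.node (.node (.node (.node (.leaf (1, 35, 1)) (.leaf (3, 228, 5))) (.node (.leaf (2, 44, 1)) (.leaf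 (0, 758, 3)))) (.node (.node (.leaf (1, 476, 1)) (.leaf (5, 712, 2))) (.node (.leaf (3, 50, 7)) (.leaf (3, 947, 3))))) (.node (.node (.node (.leaf (1, 246, 1)) (.leaf (5, 65, 0))) (.node (.leaf (3, 804, 0)) (.leaf (3, 144, 3)))) (.node (.node (.leaf (2, 47, 3)) (.leaf (6, 475, 8))) (.leaf (6, 530, 5))))) (.node (.node (.node (.node (.leaf (1, 136, 1)) (.leaf (4, 200, 1))) (.node (.leaf (6, 38, 2)) (.leaf (2, 369, 3)))) (.node (.node (.leaf (1, 661, 1)) (.leaf (6, 200, 0))) (.node (.leaf (5, 202, 7)) (.leaf (4, 811, 1))))) (.node (.node (.node (.leaf (1, 350, 1)) (.leaf (5, 354, 1))) (.node (.leaf (3, 270, 1)) (.leaf (3, 425, 7)))) (.node (.node (.leaf (4, 257, 4)) (.leaf (6, 822, 8))) (.leaf (2, 196, 0)))))) (.node (.node (.node (.node (.node (.leaf (1, 83, 1)) (.leaf (3, 598, 3))) (.node (.leaf (3, 53, 5)) (.leaf (2, 148, 0)))) (.node (.node (.leaf (1, 545, 1)) (.leaf (6, 44, 4))) (.node (.leaf (4, 341, 4)) (.leaf (4, 320, 4))))) (.node (.node (.node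 (.leaf (1, 296, 1)) (.leaf (5, 215, 5))) (.node (.leaf (6, 273, 8)) (.leaf (3, 247, 3)))) (.node (.node (.leaf (4, 5, 4)) (.leaf (6, 647, 0))) (.leaf (1, 435, 0))))) (.node (.node (.node (.node (.leaf (1, 187, 1)) (.leaf (4, 558, 4))) (.node (.leaf (2, 48, 2)) (.leaf (2, 630, 2)))) (.node (.node (.leaf (1, 786, 1)) (.leaf (6, 346, 8))) (.node (.leaf (6, 56, 4)) (.leaf (5, 511, 0))))) (.node (.node (.node (.leaf (1, 420, 1)) (.leaf (5, 537, 0))) (.node (.leaf (0, 102, 3)) (.leaf (3, 631, 5)))) (.node (.node (.leaf (0, 21, 2)) (.leaf (0, 235, 3))) (.leaf (2, 738, 0))))))))) (.node (.node (.node (.node (.node (.node (.node (.node (.leaf (1, 7, 1)) (.leaf (3, 95, 7))) (.node (.leaf (0, 75, 2)) (.leaf (0, 348, 1)))) (.node (.node (.leaf (1, 438, 1)) (.leaf (5, 589, 0))) (.node (.leaf (2, 22, 3)) (.leaf (3, 731, 1))))) (.node (.node (.node (.leaf (1, 207, 1)) (.leaf (4, 753, 0))) (.node (.leaf (2, 203, 2)) (.leaf (2, 735, 0)))) (.node (.node (.leaf (1,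 885, 1)) (.leaf (6, 392, 8))) (.node (.leaf (6, 188, 7)) (.leaf (5, 667, 4)))))) (.node (.node (.node (.node (.leaf (1, 100, 1)) (.leaf (4, 67, 4))) (.node (.leaf (3, 217, 6)) (.leaf (2, 247, 2)))) (.node (.node (.leaf (1, 594, 1)) (.leaf (6, 96, 4))) (.node (.leaf (5, 29, 6)) (.leaf (4, 475, 1))))) (.node (.node (.node (.leaf (1, 312, 1)) (.leaf (5, 256, 0))) (.node (.leaf (2, 130, 2)) (.leaf (3, 321, 3)))) (.node (.node (.leaf (4, 34, 4)) (.leaf (6, 701, 7))) (.leaf (2, 43, 2)))))) (.node (.node (.node (.node (.node (.leaf (1, 52, 1)) (.leaf (3, 318, 1))) (.node (.leaf (2, 98, 2)) (.leaf (1, 683, 0)))) (.node (.node (.leaf (1, 501, 1)) (.leaf (5, 818, 2))) (.node (.leaf (3, 241, 6)) (.leaf (4, 141, 3))))) (.node (.node (.node (.leaf (1, 262, 1)) (.leaf (5, 109, 0))) (.node (.leaf (4, 849, 3)) (.leaf (3, 184, 2)))) (.node (.node (.leaf (3, 6, 6)) (.leaf (6, 572, 2))) (.leaf (0, 56, 2))))) (.node (.node (.node (.node (.leaf (1, 158, 1)) (.leaf (4,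 310, 3))) (.node (.leaf (0, 29, 3)) (.leaf (2, 483, 0)))) (.node (.node (.leaf (1, 696, 1)) (.leaf (6, 242, 8))) (.node (.leaf (5, 338, 1)) (.leaf (5, 262, 2))))) (.node (.node (.node (.leaf (1, 373, 1)) (.leaf (5, 417, 7))) (.node (.leaf (5, 28, 2)) (.leaf (3, 504, 3)))) (.node (.node (.leaf (6, 0, 4)) (.leaf (6, 917, 8))) (.leaf (2, 277, 2))))))) (.node (.node (.node (.node (.node (.node (.leaf (1, 29, 1)) (.leaf (3, 191, 7))) (.node (.leaf (2, 34, 2)) (.leaf (0, 579, 3)))) (.node (.node (.leaf (1, 469, 1)) (.leaf (5, 701, 9))) (.node (.leaf (3, 18, 5)) (.leaf (3, 916, 7))))) (.node (.node (.node (.leaf (1, 241, 1)) (.leaf (5, 55, 2))) (.node (.leaf (3, 206, 3)) (.leaf (3, 99, 5)))) (.node (.node (.leaf (2, 21, 3)) (.leaf (6, 462, 5))) (.node (.leaf (6, 424, 0)) (.leaf (5, 969, 0)))))) (.node (.node (.node (.node (.leaf (1, 129, 1)) (.leaf (4, 165, 6))) (.node (.leaf (6, 15, 7)) (.leaf (2, 349, 2)))) (.node (.node (.leaf (1, 647, 1)) (.leaf (6,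 180, 5))) (.node (.leaf (5, 162, 8)) (.leaf (4, 732, 3))))) (.node (.node (.node (.leaf (1, 342, 1)) (.leaf (5, 340, 5))) (.node (.leaf (3, 178, 4)) (.leaf (3, 403, 1)))) (.node (.node (.leaf (4, 194, 4)) (.leaf (6, 810, 8))) (.leaf (2, 166, 1)))))) (.node (.node (.node (.node (.node (.leaf (1, 78, 1)) (.leaf (3, 449, 5))) (.node (.leaf (3, 26, 5)) (.leaf (2, 122, 2)))) (.node (.node (.leaf (1, 537, 1)) (.leaf (6, 29, 5))) (.node (.leaf (4, 116, 4)) (.leaf (4, 308, 3))))) (.node (.node (.node (.leaf (1, 289, 1)) (.leaf (5, 196, 0))) (.node (.leaf (6, 84, 8)) (.leaf (3, 239, 3)))) (.node (.node (.leaf (4, 1, 4)) (.leaf (6, 637, 7))) (.leaf (0, 416, 1))))) (.node (.node (.node (.node (.leaf (1, 180, 1)) (.leaf (4, 444, 3))) (.node (.leaf (1, 379, 0)) (.leaf (2, 610, 2)))) (.node (.node (.leaf (1, 758, 1)) (.leaf (6, 319, 8))) (.node (.leaf (5, 942, 5)) (.leaf (5, 468, 2))))) (.node (.node (.node (.leaf (1, 415, 1)) (.leaf (5, 517, 8))) (.node (.leaf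 (6, 585, 8)) (.leaf (3, 611, 7)))) (.node (.node (.leaf (0, 9, 2)) (.leaf (0, 198, 3))) (.leaf (2, 523, 3)))))))) (.node (.node (.node (.node (.node (.node (.node (.leaf (1, 18, 1)) (.leaf (3, 137, 6))) (.node (.leaf (2, 8, 1)) (.leaf (0, 465, 2)))) (.node (.node (.leaf (1, 458, 1)) (.leaf (5, 631, 9))) (.node (.leaf (2, 119, 2)) (.leaf (3, 830, 7))))) (.node (.node (.node (.leaf (1, 222, 1)) (.leaf (5, 11, 4))) (.node (.leaf (3, 7, 3)) (.leaf (2, 947, 0)))) (.node (.node (.leaf (2, 1, 3)) (.leaf (6, 438, 5))) (.node (.leaf (6, 337, 2)) (.leaf (5, 792, 4)))))) (.node (.node (.node (.node (.leaf (1, 114, 1)) (.leaf (4, 108, 6))) (.node (.leaf (5, 7, 5)) (.leaf (2, 301, 0)))) (.node (.node (.leaf (1, 623, 1)) (.leaf (6, 137, 7))) (.node (.leaf (5, 83, 0)) (.leaf (4, 531, 5))))) (.node (.node (.node (.leaf (1, 324, 1)) (.leaf (5, 296, 2))) (.node (.leaf (2, 479, 1)) (.leaf (3, 364, 6)))) (.node (.node (.leaf (4, 82, 4)) (.leaf (6, 747, 3))) (.leaf (2,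 121, 2)))))) (.node (.node (.node (.node (.node (.leaf (1, 63, 1)) (.leaf (3, 359, 7))) (.node (.leaf (2, 216, 1)) (.leaf (1, 897, 0)))) (.node (.node (.leaf (1, 518, 1)) (.leaf (5, 864, 8))) (.node (.leaf (3, 729, 6)) (.leaf (4, 238, 7))))) (.node (.node (.node (.leaf (1, 271, 1)) (.leaf (5, 160, 7))) (.node (.leaf (5, 276, 9)) (.leaf (3, 212, 3)))) (.node (.node (.leaf (3, 38, 2)) (.leaf (6, 598, 8))) (.leaf (0, 188, 2))))) (.node (.node (.node (.node (.leaf (1, 169, 1)) (.leaf (4, 374, 6))) (.node (.leaf (0, 103, 2)) (.leaf (2, 548, 2)))) (.node (.node (.leaf (1, 716, 1)) (.leaf (6, 282, 7))) (.node (.leaf (5, 582, 4)) (.leaf (5, 348, 2))))) (.node (.node (.node (.leaf (1, 395, 1)) (.leaf (5, 458, 2))) (.node (.leaf (5, 372, 8)) (.leaf (3, 548, 5)))) (.node (.node (.leaf (6, 111, 0)) (.leaf (0, 109, 2))) (.leaf (2, 368, 2))))))) (.node (.node (.node (.node (.node (.node (.leaf (1, 41, 1)) (.leaf (3, 280, 0))) (.node (.leaf (2, 60, 2)) (.leaf (1,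 510, 0)))) (.node (.node (.leaf (1, 484, 1)) (.leaf (5, 746, 0))) (.node (.leaf (3, 101, 3)) (.leaf (4, 27, 3))))) (.node (.node (.node (.leaf (1, 251, 1)) (.leaf (5, 79, 7))) (.node (.leaf (4, 49, 6)) (.leaf (3, 153, 3)))) (.node (.node (.leaf (2, 75, 3)) (.leaf (6, 505, 7))) (.leaf (6, 834, 8))))) (.node (.node (.node (.node (.leaf (1, 147, 1)) (.leaf (4, 228, 3))) (.node (.leaf (6, 152, 2)) (.leaf (2, 415, 0)))) (.node (.node (.leaf (1, 677, 1)) (.leaf (6, 210, 2))) (.node (.leaf (5, 267, 4)) (.leaf (4, 946, 7))))) (.node (.node (.node (.leaf (1, 356, 1)) (.leaf (5, 375, 4))) (.node (.leaf (4, 44, 3)) (.leaf (3, 447, 4)))) (.node (.node (.leaf (4, 425, 4)) (.leaf (6, 854, 8))) (.leaf (2, 212, 2)))))) (.node (.node (.node (.node (.node (.leaf (1, 89, 1)) (.leaf (3, 734, 6))) (.node (.leaf (3, 79, 3)) (.leaf (2, 183, 2)))) (.node (.node (.leaf (1, 558, 1)) (.leaf (6, 61, 2))) (.node (.leaf (4, 617, 3)) (.leaf (4, 417, 1))))) (.node (.node (.node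 (.leaf (1, 300, 1)) (.leaf (5, 230, 5))) (.node (.leaf (0, 164, 2)) (.leaf (3, 258, 5)))) (.node (.node (.leaf (4, 13, 4)) (.leaf (6, 653, 4))) (.leaf (1, 586, 1))))) (.node (.node (.node (.node (.leaf (1, 193, 1)) (.leaf (4, 615, 6))) (.node (.leaf (2, 69, 2)) (.leaf (2, 663, 1)))) (.node (.node (.leaf (1, 801, 1)) (.leaf (6, 359, 0))) (.node (.leaf (6, 101, 4)) (.leaf (5, 562, 2))))) (.node (.node (.node (.leaf (1, 426, 1)) (.leaf (5, 557, 9))) (.node (.leaf (0, 186, 2)) (.leaf (3, 655, 0)))) (.node (.node (.leaf (0, 31, 2)) (.leaf (0, 294, 2))) (.leaf (3, 23, 5)))))))))) (.node (.node (.node (.node (.node (.node (.node (.node (.node (.leaf (1, 4, 1)) (.leaf (3, 77, 5))) (.node (.leaf (0, 60, 1)) (.leaf (0, 320, 3)))) (.node (.node (.leaf (1, 433, 1)) (.leaf (5, 575, 1))) (.node (.leaf (1, 471, 1)) (.leaf (3, 702, 5))))) (.node (.node (.node (.leaf (1, 203, 1)) (.leaf (4, 674, 4))) (.node (.leaf (2, 175, 1)) (.leaf (2, 724, 2)))) (.node (.node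 (.leaf (1, 843, 1)) (.leaf (6, 385, 1))) (.node (.leaf (6, 169, 0)) (.leaf (5, 647, 4)))))) (.node (.node (.node (.node (.leaf (1, 97, 1)) (.leaf (4, 41, 6))) (.node (.leaf (3, 123, 3)) (.leaf (2, 235, 2)))) (.node (.node (.leaf (1, 589, 1)) (.leaf (6, 91, 3))) (.node (.leaf (5, 12, 4)) (.leaf (4, 459, 0))))) (.node (.node (.node (.leaf (1, 308, 1)) (.leaf (5, 251, 2))) (.node (.leaf (2, 84, 2)) (.leaf (3, 308, 5)))) (.node (.node (.leaf (4, 31, 4)) (.leaf (6, 695, 1))) (.leaf (2, 41, 3)))))) (.node (.node (.node (.node (.node (.leaf (1, 49, 1)) (.leaf (3, 305, 2))) (.node (.leaf (2, 90, 1)) (.leaf (1, 681, 0)))) (.node (.node (.leaf (1, 497, 1)) (.leaf (5, 809, 5))) (.node (.leaf (3, 209, 7)) (.leaf (4, 135, 4))))) (.node (.node (.node (.leaf (1, 260, 1)) (.leaf (5, 105, 2))) (.node (.leaf (4, 272, 4)) (.leaf (3, 182, 2)))) (.node (.node (.leaf (3, 3, 6)) (.leaf (6, 558, 3))) (.leaf (0, 43, 3))))) (.node (.node (.node (.node (.leaf (1, 156, 1))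 (.leaf (4, 289, 7))) (.node (.leaf (6, 286, 8)) (.leaf (2, 455, 3)))) (.node (.node (.leaf (1, 692, 1)) (.leaf (6, 228, 5))) (.node (.leaf (5, 336, 0)) (.leaf (5, 249, 2))))) (.node (.node (.node (.leaf (1, 369, 1)) (.leaf (5, 413, 0))) (.node (.leaf (5, 8, 2)) (.leaf (3, 477, 1)))) (.node (.node (.leaf (5, 155, 2)) (.leaf (6, 908, 0))) (.leaf (2, 250, 2))))))) (.node (.node (.node (.node (.node (.node (.leaf (1, 26, 1)) (.leaf (3, 169, 1))) (.node (.leaf (2, 26, 2)) (.leaf (0, 537, 3)))) (.node (.node (.leaf (1, 466, 1)) (.leaf (5, 682, 0))) (.node (.leaf (2, 818, 1)) (.leaf (3, 895, 0))))) (.node (.node (.node (.leaf (1, 236, 1)) (.leaf (5, 40, 7))) (.node (.leaf (3, 170, 5)) (.leaf (3, 88, 4)))) (.node (.node (.leaf (2, 14, 3)) (.leaf (6, 460, 0))) (.node (.leaf (6, 382, 8)) (.leaf (5, 933, 6)))))) (.node (.node (.node (.node (.leaf (1, 127, 1)) (.leaf (4, 143, 6))) (.node (.leaf (6, 2, 2)) (.leaf (2, 344, 2)))) (.node (.node (.leaf (1, 643, 1))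 (.leaf (6, 160, 7))) (.node (.leaf (5, 153, 5)) (.leaf (4, 712, 2))))) (.node (.node (.node (.leaf (1, 337, 1)) (.leaf (5, 334, 7))) (.node (.leaf (3, 130, 5)) (.leaf (3, 399, 4)))) (.node (.node (.leaf (4, 167, 4)) (.leaf (6, 803, 0))) (.leaf (2, 144, 1)))))) (.node (.node (.node (.node (.node (.leaf (1, 74, 1)) (.leaf (3, 429, 2))) (.node (.leaf (3, 13, 3)) (.leaf (2, 93, 2)))) (.node (.node (.leaf (1, 535, 1)) (.leaf (5, 956, 0))) (.node (.leaf (4, 61, 4)) (.leaf (4, 290, 4))))) (.node (.node (.node (.leaf (1, 286, 1)) (.leaf (5, 177, 2))) (.node (.leaf (5, 519, 0)) (.leaf (3, 236, 7)))) (.node (.node (.leaf (3, 244, 2)) (.leaf (6, 627, 5))) (.leaf (0, 371, 1))))) (.node (.node (.node (.node (.leaf (1, 177, 1)) (.leaf (4, 413, 1))) (.node (.leaf (0, 203, 3)) (.leaf (2, 601, 0)))) (.node (.node (.leaf (1, 738, 1)) (.leaf (6, 308, 0))) (.node (.leaf (5, 817, 5)) (.leaf (5, 452, 2))))) (.node (.node (.node (.leaf (1, 410, 1)) (.leaf (5, 503, 4)))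 (.node (.leaf (6, 241, 2)) (.leaf (3, 582, 7)))) (.node (.node (.leaf (0, 4, 2)) (.leaf (0, 162, 2))) (.leaf (2, 436, 2)))))))) (.node (.node (.node (.node (.node (.node (.node (.leaf (1, 15, 1)) (.leaf (3, 128, 6))) (.node (.leaf (0, 201, 1)) (.leaf (0, 404, 0)))) (.node (.node (.leaf (1, 456, 1)) (.leaf (5, 619, 0))) (.node (.leaf (2, 102, 2)) (.leaf (3, 789, 1))))) (.node (.node (.node (.leaf (1, 220, 1)) (.leaf (4, 950, 6))) (.node (.leaf (2, 448, 1)) (.leaf (2, 864, 1)))) (.node (.node (.leaf (1, 958, 1)) (.leaf (6, 421, 8))) (.node (.leaf (6, 277, 8)) (.leaf (5, 757, 5)))))) (.node (.node (.node (.node (.leaf (1, 108, 1)) (.leaf (4, 100, 4))) (.node (.leaf (4, 190, 6)) (.leaf (2, 297, 1)))) (.node (.node (.leaf (1, 615, 1)) (.leaf (6, 132, 3))) (.node (.leaf (5, 67, 2)) (.leaf (4, 528, 0))))) (.node (.node (.node (.leaf (1, 321, 1)) (.leaf (5, 283, 6))) (.node (.leaf (2, 365, 2)) (.leaf (3, 345, 1)))) (.node (.node (.leaf (4, 53, 4)) (.leaf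 (6, 738, 0))) (.leaf (2, 106, 2)))))) (.node (.node (.node (.node (.node (.leaf (1, 60, 1)) (.leaf (3, 349, 7))) (.node (.leaf (2, 187, 1)) (.leaf (1, 886, 0)))) (.node (.node (.leaf (1, 514, 1)) (.leaf (5, 859, 0))) (.node (.leaf (3, 420, 1)) (.leaf (4, 161, 2))))) (.node (.node (.node (.leaf (1, 269, 1)) (.leaf (5, 146, 2))) (.node (.leaf (5, 163, 2)) (.leaf (3, 204, 5)))) (.node (.node (.leaf (3, 28, 6)) (.leaf (6, 590, 8))) (.leaf (0, 159, 1))))) (.node (.node (.node (.node (.leaf (1, 166, 1)) (.leaf (4, 347, 6))) (.node (.leaf (0, 92, 2)) (.leaf (2, 531, 1)))) (.node (.node (.leaf (1, 712, 1)) (.leaf (6, 266, 0))) (.node (.leaf (5, 489, 0)) (.leaf (5, 314, 2))))) (.node (.node (.node (.leaf (1, 387, 1)) (.leaf (5, 449, 2))) (.node (.leaf (5, 310, 2)) (.leaf (3, 534, 5)))) (.node (.node (.leaf (6, 32, 2)) (.leaf (0, 17, 2))) (.leaf (2, 325, 1))))))) (.node (.node (.node (.node (.node (.node (.leaf (1, 38, 1)) (.leaf (3, 233, 1))) (.node (.leaf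 (2, 49, 1)) (.leaf (1, 362, 0)))) (.node (.node (.leaf (1, 480, 1)) (.leaf (5, 740, 4))) (.node (.leaf (3, 68, 6)) (.leaf (3, 954, 1))))) (.node (.node (.node (.leaf (1, 249, 1)) (.leaf (5, 71, 2))) (.node (.leaf (4, 16, 4)) (.leaf (3, 149, 7)))) (.node (.node (.leaf (2, 57, 3)) (.leaf (6, 479, 7))) (.leaf (6, 623, 8))))) (.node (.node (.node (.node (.leaf (1, 144, 1)) (.leaf (4, 218, 1))) (.node (.leaf (6, 49, 5)) (.leaf (2, 406, 2)))) (.node (.node (.leaf (1, 673, 1)) (.leaf (6, 205, 3))) (.node (.leaf (5, 218, 4)) (.leaf (4, 885, 7))))) (.node (.node (.node (.leaf (1, 352, 1)) (.leaf (5, 356, 1))) (.node (.leaf (3, 650, 0)) (.leaf (3, 433, 4)))) (.node (.node (.leaf (4, 393, 3)) (.leaf (6, 842, 7))) (.leaf (2, 209, 2)))))) (.node (.node (.node (.node (.node (.leaf (1, 85, 1)) (.leaf (3, 677, 4))) (.node (.leaf (3, 60, 5)) (.leaf (2, 162, 2)))) (.node (.node (.leaf (1, 551, 1)) (.leaf (6, 51, 4))) (.node (.leaf (4, 541, 4)) (.leaf (4, 363, 6)))))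 (.node (.node (.node (.leaf (1, 298, 1)) (.leaf (5, 227, 9))) (.node (.leaf (0, 78, 3)) (.leaf (3, 252, 3)))) (.node (.node (.leaf (4, 9, 4)) (.leaf (6, 651, 3))) (.leaf (1, 562, 0))))) (.node (.node (.node (.node (.leaf (1, 190, 1)) (.leaf (4, 582, 1))) (.node (.leaf (2, 59, 1)) (.leaf (2, 640, 0)))) (.node (.node (.leaf (1, 791, 1)) (.leaf (6, 354, 3))) (.node (.leaf (6, 62, 7)) (.leaf (5, 545, 2))))) (.node (.node (.node (.leaf (1, 422, 1)) (.leaf (5, 551, 0))) (.node (.leaf (0, 154, 2)) (.leaf (3, 639, 5)))) (.node (.node (.leaf (0, 26, 3)) (.leaf (0, 243, 1))) (.leaf (3, 12, 5))))))))) (.node (.node (.node (.node (.node (.node (.node (.node (.leaf (1, 10, 1)) (.leaf (3, 106, 5))) (.node (.leaf (0, 99, 2)) (.leaf (0, 350, 3)))) (.node (.node (.leaf (1, 442, 1)) (.leaf (5, 598, 8))) (.node (.leaf (2, 65, 2)) (.leaf (3, 740, 7))))) (.node (.node (.node (.leaf (1, 211, 1)) (.leaf (4, 787, 1))) (.node (.leaf (2, 264, 1)) (.leaf (2, 796, 2)))) (.node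 (.node (.leaf (1, 913, 1)) (.leaf (6, 398, 9))) (.node (.leaf (6, 220, 9)) (.leaf (5, 691, 2)))))) (.node (.node (.node (.node (.leaf (1, 103, 1)) (.leaf (4, 76, 6))) (.node (.leaf (3, 275, 3)) (.leaf (2, 270, 1)))) (.node (.node (.leaf (1, 602, 1)) (.leaf (6, 117, 2))) (.node (.leaf (5, 43, 5)) (.leaf (4, 481, 4))))) (.node (.node (.node (.leaf (1, 314, 1)) (.leaf (5, 265, 7))) (.node (.leaf (2, 272, 2)) (.leaf (3, 329, 7)))) (.node (.node (.leaf (4, 37, 4)) (.leaf (6, 705, 4))) (.leaf (2, 62, 2)))))) (.node (.node (.node (.node (.node (.leaf (1, 55, 1)) (.leaf (3, 337, 1))) (.node (.leaf (2, 105, 2)) (.leaf (1, 777, 1)))) (.node (.node (.leaf (1, 504, 1)) (.leaf (5, 835, 4))) (.node (.leaf (3, 260, 2)) (.leaf (4, 148, 4))))) (.node (.node (.node (.leaf (1, 264, 1)) (.leaf (5, 126, 2))) (.node (.leaf (5, 54, 2)) (.leaf (3, 190, 3)))) (.node (.node (.leaf (3, 10, 5)) (.leaf (6, 577, 8))) (.leaf (0, 83, 2))))) (.node (.node (.node (.node (.leaf (1,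 161, 1)) (.leaf (4, 324, 1))) (.node (.leaf (0, 37, 2)) (.leaf (2, 505, 2)))) (.node (.node (.leaf (1, 699, 1)) (.leaf (6, 252, 8))) (.node (.leaf (5, 342, 2)) (.leaf (5, 270, 4))))) (.node (.node (.node (.leaf (1, 377, 1)) (.leaf (5, 429, 0))) (.node (.leaf (5, 91, 2)) (.leaf (3, 516, 1)))) (.node (.node (.leaf (6, 4, 4)) (.leaf (6, 932, 3))) (.leaf (2, 303, 0))))))) (.node (.node (.node (.node (.node (.node (.leaf (1, 32, 1)) (.leaf (3, 213, 1))) (.node (.leaf (2, 37, 3)) (.leaf (0, 658, 0)))) (.node (.node (.leaf (1, 473, 1)) (.leaf (5, 706, 4))) (.node (.leaf (3, 40, 5)) (.leaf (3, 926, 7))))) (.node (.node (.node (.leaf (1, 244, 1)) (.leaf (5, 60, 2))) (.node (.leaf (3, 444, 5)) (.leaf (3, 108, 4)))) (.node (.node (.leaf (2, 28, 3)) (.leaf (6, 471, 4))) (.node (.leaf (6, 457, 1)) (.leaf (6, 232, 4)))))) (.node (.node (.node (.node (.leaf (1, 134, 1)) (.leaf (4, 181, 4))) (.node (.leaf (6, 28, 7)) (.leaf (2, 357, 2)))) (.node (.node (.leaf (1,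 653, 1)) (.leaf (6, 189, 8))) (.node (.leaf (5, 185, 7)) (.leaf (4, 775, 8))))) (.node (.node (.node (.leaf (1, 345, 1)) (.leaf (5, 347, 2))) (.node (.leaf (3, 261, 3)) (.leaf (3, 417, 3)))) (.node (.node (.leaf (4, 217, 3)) (.leaf (6, 813, 4))) (.leaf (2, 185, 2)))))) (.node (.node (.node (.node (.node (.leaf (1, 80, 1)) (.leaf (3, 482, 7))) (.node (.leaf (3, 44, 2)) (.leaf (2, 143, 2)))) (.node (.node (.leaf (1, 540, 1)) (.leaf (6, 35, 4))) (.node (.leaf (4, 285, 7)) (.leaf (4, 311, 4))))) (.node (.node (.node (.leaf (1, 293, 1)) (.leaf (5, 201, 8))) (.node (.leaf (6, 199, 2)) (.leaf (3, 245, 1)))) (.node (.node (.leaf (4, 3, 4)) (.leaf (6, 643, 3))) (.leaf (0, 498, 2))))) (.node (.node (.node (.node (.leaf (1, 184, 1)) (.leaf (4, 494, 1))) (.node (.leaf (2, 7, 2)) (.leaf (2, 619, 2)))) (.node (.node (.leaf (1, 771, 1)) (.leaf (6, 332, 8))) (.node (.leaf (6, 31, 3)) (.leaf (5, 495, 4))))) (.node (.node (.node (.leaf (1, 418, 1)) (.leaf (5, 534,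 9))) (.node (.leaf (6, 885, 0)) (.leaf (3, 627, 3)))) (.node (.node (.leaf (0, 14, 2)) (.leaf (0, 205, 3))) (.leaf (2, 541, 2)))))))) (.node (.node (.node (.node (.node (.node (.node (.leaf (1, 20, 1)) (.leaf (3, 140, 3))) (.node (.leaf (2, 15, 2)) (.leaf (0, 522, 3)))) (.node (.node (.leaf (1, 460, 1)) (.leaf (5, 639, 0))) (.node (.leaf (2, 154, 1)) (.leaf (3, 840, 1))))) (.node (.node (.node (.leaf (1, 227, 1)) (.leaf (5, 19, 4))) (.node (.leaf (3, 29, 3)) (.leaf (3, 74, 5)))) (.node (.node (.leaf (2, 4, 3)) (.leaf (6, 443, 2))) (.node (.leaf (6, 347, 3)) (.leaf (5, 866, 4)))))) (.node (.node (.node (.node (.leaf (1, 118, 1)) (.leaf (4, 114, 3))) (.node (.leaf (5, 66, 2)) (.leaf (2, 316, 0)))) (.node (.node (.leaf (1, 627, 1)) (.leaf (6, 139, 5))) (.node (.leaf (5, 106, 7)) (.leaf (4, 603, 0))))) (.node (.node (.node (.leaf (1, 330, 1)) (.leaf (5, 317, 4))) (.node (.leaf (3, 32, 3)) (.leaf (3, 373, 5)))) (.node (.node (.leaf (4, 95, 4)) (.leaf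 (6, 767, 0))) (.leaf (2, 128, 3)))))) (.node (.node (.node (.node (.node (.leaf (1, 67, 1)) (.leaf (3, 366, 1))) (.node (.leaf (2, 267, 3)) (.leaf (1, 945, 0)))) (.node (.node (.leaf (1, 523, 1)) (.leaf (5, 883, 2))) (.node (.leaf (4, 10, 4)) (.leaf (4, 248, 2))))) (.node (.node (.node (.leaf (1, 275, 1)) (.leaf (5, 166, 2))) (.node (.leaf (5, 366, 0)) (.leaf (3, 216, 3)))) (.node (.node (.leaf (3, 55, 2)) (.leaf (6, 614, 0))) (.leaf (0, 250, 2))))) (.node (.node (.node (.node (.leaf (1, 172, 1)) (.leaf (4, 386, 1))) (.node (.leaf (0, 124, 2)) (.leaf (2, 577, 2)))) (.node (.node (.leaf (1, 733, 1)) (.leaf (6, 290, 2))) (.node (.leaf (5, 613, 5)) (.leaf (5, 362, 2))))) (.node (.node (.node (.leaf (1, 397, 1)) (.leaf (5, 474, 8))) (.node (.leaf (5, 615, 8)) (.leaf (3, 557, 3)))) (.node (.node (.leaf (6, 686, 0)) (.leaf (0, 134, 2))) (.leaf (2, 372, 3))))))) (.node (.node (.node (.node (.node (.node (.leaf (1, 44, 1)) (.leaf (3, 291, 3))) (.node (.leaf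 (2, 79, 1)) (.leaf (1, 547, 0)))) (.node (.node (.leaf (1, 487, 1)) (.leaf (5, 776, 5))) (.node (.leaf (3, 119, 5)) (.leaf (4, 111, 3))))) (.node (.node (.node (.leaf (1, 253, 1)) (.leaf (5, 85, 4))) (.node (.leaf (4, 81, 6)) (.leaf (3, 171, 5)))) (.node (.node (.leaf (2, 142, 3)) (.leaf (6, 513, 3))) (.leaf (0, 23, 3))))) (.node (.node (.node (.node (.leaf (1, 151, 1)) (.leaf (4, 241, 3))) (.node (.leaf (6, 178, 8)) (.leaf (2, 421, 2)))) (.node (.node (.leaf (1, 679, 1)) (.leaf (6, 215, 2))) (.node (.leaf (5, 321, 1)) (.leaf (5, 136, 2))))) (.node (.node (.node (.leaf (1, 358, 1)) (.leaf (5, 384, 8))) (.node (.leaf (4, 177, 7)) (.leaf (3, 456, 3)))) (.node (.node (.leaf (5, 15, 5)) (.leaf (6, 862, 8))) (.leaf (2, 218, 2)))))) (.node (.node (.node (.node (.node (.leaf (1, 91, 1)) (.leaf (3, 822, 1))) (.node (.leaf (3, 90, 2)) (.leaf (2, 198, 2)))) (.node (.node (.leaf (1, 571, 1)) (.leaf (6, 75, 4))) (.node (.leaf (4, 818, 1)) (.leaf (4, 426, 1)))))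 (.node (.node (.node (.leaf (1, 303, 1)) (.leaf (5, 238, 2))) (.node (.leaf (0, 245, 3)) (.leaf (3, 278, 3)))) (.node (.node (.leaf (4, 15, 4)) (.leaf (6, 669, 8))) (.leaf (2, 17, 3))))) (.node (.node (.node (.node (.leaf (1, 196, 1)) (.leaf (4, 644, 0))) (.node (.leaf (2, 103, 0)) (.leaf (2, 674, 3)))) (.node (.node (.leaf (1, 814, 1)) (.leaf (6, 373, 2))) (.node (.leaf (6, 106, 7)) (.leaf (5, 625, 4))))) (.node (.node (.node (.leaf (1, 429, 1)) (.leaf (5, 564, 9))) (.node (.leaf (0, 385, 3)) (.leaf (3, 672, 3)))) (.node (.node (.leaf (0, 47, 2)) (.leaf (0, 300, 3))) (.leaf (3, 42, 5)))))))))))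

/-- data -/
def pot4 : Trie (Vec) := .node (.node (.node (.node (.node (.node (.node (.node (.node (.node (.leaf ([])) (.leaf ([26, 38]))) (.node (.leaf ([19, 34])) (.leaf ([35, 50])))) (.node (.node (.leaf ([14, 26])) (.leaf ([30, 42]))) (.node (.leaf ([21, 36])) (.leaf ([31, 52]))))) (.node (.node (.node (.leaf ([21, 30])) (.leaf ([30, 42]))) (.node (.leaf ([20, 32])) (.leaf ([35, 50])))) (.node (.node (.leaf ([10, 28])) (.leaf ([31, 46]))) (.node (.leaf ([24, 42])) (.leaf ([37, 52])))))) (.node (.node (.node (.node (.leaf ([8, 20])) (.leaf ([24, 42]))) (.node (.leaf ([24, 36])) (.leaf ([35, 50])))) (.node (.node (.leaf ([19, 28])) (.leaf ([26, 44]))) (.node (.leaf ([25, 40])) (.leaf ([35, 56]))))) (.node (.node (.node (.leaf ([9, 24])) (.leaf ([26, 38]))) (.node (.leaf ([24, 36])) (.leaf ([40, 52])))) (.node (.node (.leaf ([24, 36])) (.leaf ([26, 44]))) (.leaf ([16, 34])))))) (.node (.node (.node (.node (.node (.leaf ([11, 20])) (.leaf ([20,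 38]))) (.node (.leaf ([20, 32])) (.leaf ([31, 46])))) (.node (.node (.leaf ([22, 34])) (.leaf ([30, 42]))) (.node (.leaf ([25, 40])) (.leaf ([27, 48]))))) (.node (.node (.node (.leaf ([9, 24])) (.leaf ([25, 40]))) (.node (.leaf ([16, 28])) (.leaf ([27, 42])))) (.node (.node (.leaf ([20, 32])) (.leaf ([26, 44]))) (.leaf ([24, 42]))))) (.node (.node (.node (.node (.leaf ([13, 22])) (.leaf ([29, 44]))) (.node (.leaf ([20, 32])) (.leaf ([26, 44])))) (.node (.node (.leaf ([19, 28])) (.leaf ([25, 46]))) (.node (.leaf ([25, 40])) (.leaf ([32, 50]))))) (.node (.node (.node (.leaf ([15, 24])) (.leaf ([35, 44]))) (.node (.leaf ([25, 34])) (.leaf ([22, 46])))) (.node (.node (.leaf ([24, 36])) (.leaf ([35, 50]))) (.leaf ([30, 42]))))))) (.node (.node (.node (.node (.node (.node (.leaf ([10, 16])) (.leaf ([20, 38]))) (.node (.leaf ([24, 36])) (.leaf ([22, 40])))) (.node (.node (.leaf ([22, 34])) (.leaf ([25, 40]))) (.node (.leaf ([25, 40])) (.leaf ([28, 46])))))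 (.node (.node (.node (.leaf ([14, 20])) (.leaf ([30, 42]))) (.node (.leaf ([20, 32])) (.leaf ([35, 50])))) (.node (.node (.leaf ([23, 38])) (.leaf ([22, 40]))) (.node (.leaf ([29, 44])) (.leaf ([41, 62])))))) (.node (.node (.node (.node (.leaf ([13, 22])) (.leaf ([30, 42]))) (.node (.leaf ([19, 34])) (.leaf ([35, 50])))) (.node (.node (.leaf ([14, 26])) (.leaf ([17, 38]))) (.node (.leaf ([16, 34])) (.leaf ([33, 48]))))) (.node (.node (.node (.leaf ([22, 34])) (.leaf ([30, 42]))) (.node (.leaf ([28, 40])) (.leaf ([36, 48])))) (.node (.node (.leaf ([15, 30])) (.leaf ([26, 44]))) (.leaf ([30, 42])))))) (.node (.node (.node (.node (.node (.leaf ([12, 18])) (.leaf ([25, 40]))) (.node (.leaf ([20, 32])) (.leaf ([27, 42])))) (.node (.node (.leaf ([14, 26])) (.leaf ([21, 42]))) (.node (.leaf ([20, 38])) (.leaf ([28, 46]))))) (.node (.node (.node (.leaf ([18, 30])) (.leaf ([25, 40]))) (.node (.leaf ([25, 34])) (.leaf ([32, 44])))) (.node (.node (.leaf ([24,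 36])) (.leaf ([25, 46]))) (.leaf ([21, 36]))))) (.node (.node (.node (.node (.leaf ([12, 24])) (.leaf ([30, 42]))) (.node (.leaf ([28, 40])) (.leaf ([31, 46])))) (.node (.node (.leaf ([14, 32])) (.leaf ([22, 40]))) (.node (.leaf ([21, 36])) (.leaf ([37, 52]))))) (.node (.node (.node (.leaf ([18, 30])) (.leaf ([29, 44]))) (.node (.leaf ([16, 34])) (.leaf ([28, 46])))) (.node (.node (.leaf ([20, 32])) (.leaf ([31, 46]))) (.leaf ([25, 40])))))))) (.node (.node (.node (.node (.node (.node (.node (.leaf ([2, 8])) (.leaf ([29, 44]))) (.node (.leaf ([24, 36])) (.leaf ([31, 46])))) (.node (.node (.leaf ([23, 32])) (.leaf ([34, 46]))) (.node (.leaf ([21, 36])) (.leaf ([35, 56]))))) (.node (.node (.node (.leaf ([14, 20])) (.leaf ([21, 36]))) (.node (.leaf ([20, 32])) (.leaf ([31, 46])))) (.node (.node (.leaf ([19, 34])) (.leaf ([27, 42]))) (.node (.leaf ([28, 46])) (.leaf ([29, 50])))))) (.node (.node (.node (.node (.leaf ([13, 22])) (.leaf ([33, 48]))) (.node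 (.leaf ([28, 40])) (.leaf ([31, 46])))) (.node (.node (.leaf ([20, 26])) (.leaf ([26, 44]))) (.node (.leaf ([21, 36])) (.leaf ([40, 58]))))) (.node (.node (.node (.leaf ([18, 30])) (.leaf ([30, 42]))) (.node (.leaf ([24, 36])) (.leaf ([31, 46])))) (.node (.node (.leaf ([23, 38])) (.leaf ([34, 52]))) (.leaf ([21, 36])))))) (.node (.node (.node (.node (.node (.leaf ([7, 16])) (.leaf ([24, 42]))) (.node (.leaf ([20, 32])) (.leaf ([26, 44])))) (.node (.node (.leaf ([23, 32])) (.leaf ([30, 42]))) (.node (.leaf ([25, 40])) (.leaf ([28, 46]))))) (.node (.node (.node (.leaf ([14, 26])) (.leaf ([25, 40]))) (.node (.leaf ([24, 36])) (.leaf ([27, 42])))) (.node (.node (.leaf ([20, 32])) (.leaf ([35, 50]))) (.leaf ([29, 44]))))) (.node (.node (.node (.node (.leaf ([12, 24])) (.leaf ([29, 44]))) (.node (.leaf ([23, 38])) (.leaf ([35, 50])))) (.node (.node (.leaf ([27, 36])) (.leaf ([29, 50]))) (.node (.leaf ([20, 38])) (.leaf ([32, 50]))))) (.node (.node (.node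 (.leaf ([15, 24])) (.leaf ([26, 38]))) (.node (.leaf ([33, 42])) (.leaf ([31, 52])))) (.node (.node (.leaf ([20, 32])) (.leaf ([22, 40]))) (.leaf ([21, 36]))))))) (.node (.node (.node (.node (.node (.node (.leaf ([3, 12])) (.leaf ([29, 44]))) (.node (.leaf ([19, 34])) (.leaf ([31, 46])))) (.node (.node (.leaf ([14, 26])) (.leaf ([34, 46]))) (.node (.leaf ([20, 38])) (.leaf ([32, 50]))))) (.node (.node (.node (.leaf ([17, 26])) (.leaf ([22, 34]))) (.node (.leaf ([25, 34])) (.leaf ([35, 50])))) (.node (.node (.leaf ([23, 38])) (.leaf ([30, 48]))) (.leaf ([21, 36]))))) (.node (.node (.node (.node (.leaf ([17, 26])) (.leaf ([20, 38]))) (.node (.leaf ([19, 34])) (.leaf ([30, 48])))) (.node (.node (.leaf ([23, 32])) (.leaf ([22, 40]))) (.node (.leaf ([25, 40])) (.leaf ([32, 50]))))) (.node (.node (.node (.leaf ([22, 34])) (.leaf ([30, 42]))) (.node (.leaf ([25, 34])) (.leaf ([36, 48])))) (.node (.node (.leaf ([19, 34])) (.leaf ([31, 46]))) (.leaf ([26,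 38])))))) (.node (.node (.node (.node (.node (.leaf ([13, 16])) (.leaf ([24, 42]))) (.node (.leaf ([28, 40])) (.leaf ([34, 52])))) (.node (.node (.leaf ([19, 28])) (.leaf ([17, 38]))) (.node (.leaf ([25, 40])) (.leaf ([32, 50]))))) (.node (.node (.node (.leaf ([15, 24])) (.leaf ([30, 42]))) (.node (.leaf ([20, 32])) (.leaf ([27, 42])))) (.node (.node (.leaf ([19, 34])) (.leaf ([26, 44]))) (.leaf ([25, 40]))))) (.node (.node (.node (.node (.leaf ([13, 22])) (.leaf ([34, 46]))) (.node (.leaf ([19, 34])) (.leaf ([34, 52])))) (.node (.node (.leaf ([16, 28])) (.leaf ([26, 44]))) (.node (.leaf ([24, 42])) (.leaf ([33, 48]))))) (.node (.node (.node (.leaf ([14, 26])) (.leaf ([34, 46]))) (.node (.leaf ([20, 38])) (.leaf ([32, 50])))) (.node (.node (.leaf ([20, 32])) (.leaf ([27, 42]))) (.leaf ([29, 44]))))))))) (.node (.node (.node (.node (.node (.node (.node (.node (.leaf ([5, 8])) (.leaf ([25, 40]))) (.node (.leaf ([20, 32])) (.leaf ([27, 42])))) (.node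 (.node (.leaf ([19, 28])) (.leaf ([34, 46]))) (.node (.leaf ([25, 40])) (.leaf ([30, 54]))))) (.node (.node (.node (.leaf ([9, 18])) (.leaf ([21, 36]))) (.node (.leaf ([20, 32])) (.leaf ([26, 44])))) (.node (.node (.leaf ([15, 30])) (.leaf ([27, 42]))) (.node (.leaf ([25, 40])) (.leaf ([28, 52])))))) (.node (.node (.node (.node (.leaf ([8, 20])) (.leaf ([29, 44]))) (.node (.leaf ([28, 40])) (.leaf ([26, 44])))) (.node (.node (.leaf ([15, 24])) (.leaf ([22, 40]))) (.node (.leaf ([25, 40])) (.leaf ([32, 50]))))) (.node (.node (.node (.leaf ([14, 26])) (.leaf ([21, 36]))) (.node (.leaf ([28, 40])) (.leaf ([31, 46])))) (.node (.node (.leaf ([19, 34])) (.leaf ([29, 50]))) (.leaf ([25, 40])))))) (.node (.node (.node (.node (.node (.leaf ([8, 14])) (.leaf ([25, 40]))) (.node (.leaf ([24, 36])) (.leaf ([35, 50])))) (.node (.node (.leaf ([19, 28])) (.leaf ([34, 46]))) (.node (.leaf ([24, 42])) (.leaf ([28, 46]))))) (.node (.node (.node (.leaf ([14, 26]))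 (.leaf ([30, 42]))) (.node (.leaf ([21, 30])) (.leaf ([27, 42])))) (.node (.node (.leaf ([20, 32])) (.leaf ([31, 46]))) (.leaf ([29, 44]))))) (.node (.node (.node (.node (.leaf ([18, 24])) (.leaf ([20, 38]))) (.node (.leaf ([25, 34])) (.leaf ([31, 46])))) (.node (.node (.leaf ([24, 30])) (.leaf ([22, 40]))) (.node (.leaf ([30, 42])) (.leaf ([32, 50]))))) (.node (.node (.node (.leaf ([18, 30])) (.leaf ([29, 44]))) (.node (.leaf ([29, 38])) (.leaf ([23, 44])))) (.node (.node (.leaf ([15, 30])) (.leaf ([31, 46]))) (.leaf ([21, 36]))))))) (.node (.node (.node (.node (.node (.node (.leaf ([7, 10])) (.leaf ([25, 40]))) (.node (.leaf ([29, 38])) (.leaf ([31, 46])))) (.node (.node (.leaf ([22, 34])) (.leaf ([30, 42]))) (.node (.leaf ([20, 38])) (.leaf ([28, 46]))))) (.node (.node (.node (.leaf ([13, 22])) (.leaf ([25, 40]))) (.node (.leaf ([28, 40])) (.leaf ([39, 54])))) (.node (.node (.leaf ([20, 32])) (.leaf ([26, 44]))) (.node (.leaf ([21, 36])) (.leaf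 ([34, 52])))))) (.node (.node (.node (.node (.leaf ([17, 26])) (.leaf ([24, 42]))) (.node (.leaf ([20, 32])) (.leaf ([36, 48])))) (.node (.node (.leaf ([19, 28])) (.leaf ([21, 42]))) (.node (.leaf ([21, 36])) (.leaf ([41, 56]))))) (.node (.node (.node (.leaf ([19, 28])) (.leaf ([26, 38]))) (.node (.leaf ([20, 32])) (.leaf ([31, 46])))) (.node (.node (.leaf ([20, 32])) (.leaf ([31, 46]))) (.leaf ([21, 36])))))) (.node (.node (.node (.node (.node (.leaf ([8, 14])) (.leaf ([29, 44]))) (.node (.leaf ([28, 40])) (.leaf ([27, 42])))) (.node (.node (.leaf ([19, 28])) (.leaf ([25, 46]))) (.node (.leaf ([21, 36])) (.leaf ([32, 50]))))) (.node (.node (.node (.leaf ([18, 30])) (.leaf ([26, 38]))) (.node (.leaf ([29, 38])) (.leaf ([27, 42])))) (.node (.node (.leaf ([19, 34])) (.leaf ([26, 44]))) (.leaf ([21, 36]))))) (.node (.node (.node (.node (.leaf ([17, 26])) (.leaf ([29, 44]))) (.node (.leaf ([28, 40])) (.leaf ([30, 48])))) (.node (.node (.leaf ([15, 30]))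 (.leaf ([27, 42]))) (.node (.leaf ([20, 38])) (.leaf ([28, 46]))))) (.node (.node (.node (.leaf ([19, 28])) (.leaf ([26, 38]))) (.node (.leaf ([20, 38])) (.leaf ([23, 44])))) (.node (.node (.leaf ([16, 28])) (.leaf ([27, 42]))) (.leaf ([29, 44])))))))) (.node (.node (.node (.node (.node (.node (.node (.leaf ([7, 10])) (.leaf ([30, 42]))) (.node (.leaf ([20, 32])) (.leaf ([35, 50])))) (.node (.node (.leaf ([18, 30])) (.leaf ([34, 46]))) (.node (.leaf ([25, 40])) (.leaf ([27, 48]))))) (.node (.node (.node (.leaf ([17, 26])) (.leaf ([25, 40]))) (.node (.leaf ([25, 34])) (.leaf ([31, 46])))) (.node (.node (.leaf ([19, 34])) (.leaf ([31, 46]))) (.node (.leaf ([25, 40])) (.leaf ([34, 52])))))) (.node (.node (.node (.node (.leaf ([13, 22])) (.leaf ([33, 48]))) (.node (.leaf ([28, 40])) (.leaf ([35, 50])))) (.node (.node (.leaf ([23, 32])) (.leaf ([22, 40]))) (.node (.leaf ([25, 40])) (.leaf ([28, 46]))))) (.node (.node (.node (.leaf ([18, 30])) (.leaf ([30,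 42]))) (.node (.leaf ([28, 40])) (.leaf ([39, 54])))) (.node (.node (.leaf ([23, 38])) (.leaf ([25, 46]))) (.leaf ([25, 40])))))) (.node (.node (.node (.node (.node (.leaf ([11, 20])) (.leaf ([29, 44]))) (.node (.leaf ([23, 38])) (.leaf ([27, 42])))) (.node (.node (.leaf ([27, 36])) (.leaf ([35, 44]))) (.node (.leaf ([29, 44])) (.leaf ([36, 54]))))) (.node (.node (.node (.leaf ([14, 26])) (.leaf ([34, 46]))) (.node (.leaf ([25, 34])) (.leaf ([35, 50])))) (.node (.node (.leaf ([24, 36])) (.leaf ([21, 42]))) (.leaf ([29, 44]))))) (.node (.node (.node (.node (.leaf ([13, 22])) (.leaf ([26, 38]))) (.node (.leaf ([28, 40])) (.leaf ([30, 48])))) (.node (.node (.leaf ([10, 28])) (.leaf ([30, 48]))) (.node (.leaf ([24, 42])) (.leaf ([37, 52]))))) (.node (.node (.node (.leaf ([14, 26])) (.leaf ([26, 38]))) (.node (.leaf ([11, 32])) (.leaf ([23, 44])))) (.node (.node (.leaf ([19, 34])) (.leaf ([22, 40]))) (.leaf ([25, 40]))))))) (.node (.node (.node (.node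 (.node (.node (.leaf ([8, 14])) (.leaf ([20, 38]))) (.node (.leaf ([23, 38])) (.leaf ([27, 42])))) (.node (.node (.leaf ([19, 28])) (.leaf ([31, 40]))) (.node (.leaf ([20, 38])) (.leaf ([28, 46]))))) (.node (.node (.node (.leaf ([18, 24])) (.leaf ([21, 36]))) (.node (.leaf ([28, 40])) (.leaf ([31, 46])))) (.node (.node (.leaf ([15, 30])) (.leaf ([35, 50]))) (.leaf ([26, 38]))))) (.node (.node (.node (.node (.leaf ([13, 22])) (.leaf ([25, 40]))) (.node (.leaf ([28, 40])) (.leaf ([26, 44])))) (.node (.node (.leaf ([23, 32])) (.leaf ([21, 42]))) (.node (.leaf ([21, 36])) (.leaf ([40, 58]))))) (.node (.node (.node (.leaf ([10, 22])) (.leaf ([34, 46]))) (.node (.leaf ([28, 40])) (.leaf ([40, 52])))) (.node (.node (.leaf ([23, 38])) (.leaf ([30, 48]))) (.leaf ([26, 38])))))) (.node (.node (.node (.node (.node (.leaf ([16, 22])) (.leaf ([24, 42]))) (.node (.leaf ([23, 38])) (.leaf ([35, 50])))) (.node (.node (.leaf ([18, 30])) (.leaf ([22, 40]))) (.node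 (.leaf ([25, 40])) (.leaf ([32, 50]))))) (.node (.node (.node (.leaf ([18, 30])) (.leaf ([34, 46]))) (.node (.leaf ([20, 32])) (.leaf ([36, 48])))) (.node (.node (.leaf ([19, 34])) (.leaf ([30, 48]))) (.leaf ([25, 40]))))) (.node (.node (.node (.node (.leaf ([18, 24])) (.leaf ([30, 42]))) (.node (.leaf ([15, 30])) (.leaf ([35, 50])))) (.node (.node (.leaf ([19, 34])) (.leaf ([22, 40]))) (.node (.leaf ([21, 36])) (.leaf ([32, 50]))))) (.node (.node (.node (.leaf ([14, 26])) (.leaf ([34, 46]))) (.node (.leaf ([24, 42])) (.leaf ([27, 48])))) (.node (.node (.leaf ([25, 34])) (.leaf ([22, 40]))) (.leaf ([21, 36])))))))))) (.node (.node (.node (.node (.node (.node (.node (.node (.node (.leaf ([1, 4])) (.leaf ([30, 42]))) (.node (.leaf ([20, 32])) (.leaf ([22, 40])))) (.node (.node (.leaf ([18, 30])) (.leaf ([33, 48]))) (.node (.leaf ([20, 38])) (.leaf ([31, 52]))))) (.node (.node (.node (.leaf ([22, 28])) (.leaf ([25, 40]))) (.node (.leaf ([24, 36])) (.leaf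 ([26, 44])))) (.node (.node (.leaf ([14, 32])) (.leaf ([23, 38]))) (.node (.leaf ([24, 42])) (.leaf ([45, 60])))))) (.node (.node (.node (.node (.leaf ([9, 18])) (.leaf ([28, 46]))) (.node (.leaf ([27, 42])) (.leaf ([35, 50])))) (.node (.node (.leaf ([23, 32])) (.leaf ([17, 38]))) (.node (.leaf ([21, 36])) (.leaf ([32, 50]))))) (.node (.node (.node (.leaf ([13, 28])) (.leaf ([26, 38]))) (.node (.leaf ([25, 34])) (.leaf ([36, 48])))) (.node (.node (.leaf ([19, 34])) (.leaf ([25, 46]))) (.leaf ([21, 36])))))) (.node (.node (.node (.node (.node (.leaf ([12, 18])) (.leaf ([25, 40]))) (.node (.leaf ([19, 34])) (.leaf ([35, 50])))) (.node (.node (.leaf ([23, 32])) (.leaf ([34, 46]))) (.node (.leaf ([20, 38])) (.leaf ([27, 48]))))) (.node (.node (.node (.leaf ([13, 28])) (.leaf ([26, 38]))) (.node (.leaf ([20, 32])) (.leaf ([27, 42])))) (.node (.node (.leaf ([16, 28])) (.leaf ([27, 42]))) (.leaf ([25, 40]))))) (.node (.node (.node (.node (.leaf ([17, 26]))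 (.leaf ([30, 42]))) (.node (.leaf ([24, 36])) (.leaf ([26, 44])))) (.node (.node (.leaf ([23, 32])) (.leaf ([26, 44]))) (.node (.leaf ([29, 44])) (.leaf ([27, 48]))))) (.node (.node (.node (.leaf ([14, 26])) (.leaf ([25, 40]))) (.node (.leaf ([24, 36])) (.leaf ([26, 50])))) (.node (.node (.leaf ([15, 30])) (.leaf ([35, 50]))) (.leaf ([30, 42]))))))) (.node (.node (.node (.node (.node (.node (.leaf ([11, 14])) (.leaf ([25, 40]))) (.node (.leaf ([28, 40])) (.leaf ([26, 44])))) (.node (.node (.leaf ([23, 32])) (.leaf ([26, 38]))) (.node (.leaf ([16, 34])) (.leaf ([31, 52]))))) (.node (.node (.node (.leaf ([18, 24])) (.leaf ([21, 36]))) (.node (.leaf ([24, 36])) (.leaf ([36, 48])))) (.node (.node (.leaf ([15, 30])) (.leaf ([22, 40]))) (.node (.leaf ([20, 38])) (.leaf ([38, 56])))))) (.node (.node (.node (.node (.leaf ([12, 24])) (.leaf ([34, 46]))) (.node (.leaf ([19, 34])) (.leaf ([31, 46])))) (.node (.node (.leaf ([18, 30])) (.leaf ([21, 42]))) (.node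 (.leaf ([21, 36])) (.leaf ([36, 54]))))) (.node (.node (.node (.leaf ([14, 26])) (.leaf ([31, 40]))) (.node (.leaf ([33, 42])) (.leaf ([40, 52])))) (.node (.node (.leaf ([19, 34])) (.leaf ([27, 42]))) (.leaf ([22, 34])))))) (.node (.node (.node (.node (.node (.leaf ([16, 22])) (.leaf ([25, 40]))) (.node (.leaf ([23, 38])) (.leaf ([31, 46])))) (.node (.node (.leaf ([14, 26])) (.leaf ([22, 40]))) (.node (.leaf ([21, 36])) (.leaf ([32, 50]))))) (.node (.node (.node (.leaf ([14, 26])) (.leaf ([26, 38]))) (.node (.leaf ([24, 36])) (.leaf ([35, 50])))) (.node (.node (.leaf ([15, 30])) (.leaf ([30, 48]))) (.leaf ([16, 34]))))) (.node (.node (.node (.node (.leaf ([17, 26])) (.leaf ([25, 40]))) (.node (.leaf ([24, 36])) (.leaf ([35, 50])))) (.node (.node (.leaf ([19, 34])) (.leaf ([22, 40]))) (.node (.leaf ([25, 40])) (.leaf ([28, 46]))))) (.node (.node (.node (.leaf ([23, 32])) (.leaf ([30, 42]))) (.node (.leaf ([16, 34])) (.leaf ([32, 50])))) (.node (.node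 (.leaf ([24, 36])) (.leaf ([22, 40]))) (.leaf ([29, 44])))))))) (.node (.node (.node (.node (.node (.node (.node (.leaf ([6, 12])) (.leaf ([34, 46]))) (.node (.leaf ([28, 40])) (.leaf ([30, 48])))) (.node (.node (.leaf ([18, 30])) (.leaf ([30, 42]))) (.node (.leaf ([20, 38])) (.leaf ([26, 50]))))) (.node (.node (.node (.leaf ([13, 22])) (.leaf ([26, 38]))) (.node (.leaf ([24, 36])) (.leaf ([35, 50])))) (.node (.node (.leaf ([14, 32])) (.leaf ([31, 46]))) (.node (.leaf ([29, 44])) (.leaf ([33, 54])))))) (.node (.node (.node (.node (.leaf ([9, 18])) (.leaf ([33, 48]))) (.node (.leaf ([24, 36])) (.leaf ([31, 46])))) (.node (.node (.leaf ([19, 28])) (.leaf ([26, 44]))) (.node (.leaf ([21, 36])) (.leaf ([28, 46]))))) (.node (.node (.node (.leaf ([13, 28])) (.leaf ([26, 38]))) (.node (.leaf ([28, 40])) (.leaf ([40, 52])))) (.node (.node (.leaf ([24, 36])) (.leaf ([35, 50]))) (.leaf ([26, 38])))))) (.node (.node (.node (.node (.node (.leaf ([12, 18])) (.leaf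 ([29, 44]))) (.node (.leaf ([19, 34])) (.leaf ([26, 44])))) (.node (.node (.leaf ([22, 34])) (.leaf ([34, 46]))) (.node (.leaf ([24, 42])) (.leaf ([35, 56]))))) (.node (.node (.node (.leaf ([9, 24])) (.leaf ([29, 44]))) (.node (.leaf ([25, 34])) (.leaf ([36, 48])))) (.node (.node (.leaf ([19, 34])) (.leaf ([31, 46]))) (.leaf ([25, 40]))))) (.node (.node (.node (.node (.leaf ([13, 22])) (.leaf ([34, 46]))) (.node (.leaf ([24, 36])) (.leaf ([27, 42])))) (.node (.node (.leaf ([28, 34])) (.leaf ([30, 48]))) (.node (.leaf ([20, 38])) (.leaf ([32, 50]))))) (.node (.node (.node (.leaf ([19, 28])) (.leaf ([25, 40]))) (.node (.leaf ([29, 38])) (.leaf ([22, 46])))) (.node (.node (.leaf ([15, 30])) (.leaf ([22, 40]))) (.leaf ([21, 36]))))))) (.node (.node (.node (.node (.node (.node (.leaf ([7, 16])) (.leaf ([25, 40]))) (.node (.leaf ([19, 34])) (.leaf ([27, 42])))) (.node (.node (.leaf ([18, 30])) (.leaf ([26, 38]))) (.node (.leaf ([16, 34])) (.leaf ([28,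 46]))))) (.node (.node (.node (.leaf ([22, 28])) (.leaf ([26, 38]))) (.node (.leaf ([24, 36])) (.leaf ([39, 54])))) (.node (.node (.leaf ([24, 36])) (.leaf ([31, 46]))) (.leaf ([25, 40]))))) (.node (.node (.node (.node (.leaf ([9, 18])) (.leaf ([25, 40]))) (.node (.leaf ([23, 38])) (.leaf ([30, 48])))) (.node (.node (.leaf ([23, 32])) (.leaf ([26, 44]))) (.node (.leaf ([29, 44])) (.leaf ([32, 50]))))) (.node (.node (.node (.leaf ([23, 32])) (.leaf ([30, 42]))) (.node (.leaf ([24, 36])) (.leaf ([36, 48])))) (.node (.node (.leaf ([24, 36])) (.leaf ([26, 44]))) (.leaf ([21, 36])))))) (.node (.node (.node (.node (.node (.leaf ([12, 18])) (.leaf ([25, 40]))) (.node (.leaf ([19, 34])) (.leaf ([35, 50])))) (.node (.node (.leaf ([14, 26])) (.leaf ([22, 40]))) (.node (.leaf ([29, 44])) (.leaf ([36, 54]))))) (.node (.node (.node (.leaf ([14, 26])) (.leaf ([29, 44]))) (.node (.leaf ([24, 36])) (.leaf ([32, 44])))) (.node (.node (.leaf ([15, 30])) (.leaf ([26,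 44]))) (.leaf ([21, 36]))))) (.node (.node (.node (.node (.leaf ([17, 26])) (.leaf ([34, 46]))) (.node (.leaf ([20, 32])) (.leaf ([39, 54])))) (.node (.node (.leaf ([15, 30])) (.leaf ([22, 40]))) (.node (.leaf ([25, 40])) (.leaf ([41, 56]))))) (.node (.node (.node (.leaf ([18, 30])) (.leaf ([30, 42]))) (.node (.leaf ([20, 38])) (.leaf ([22, 46])))) (.node (.node (.leaf ([24, 36])) (.leaf ([31, 46]))) (.leaf ([34, 46]))))))))) (.node (.node (.node (.node (.node (.node (.node (.node (.leaf ([6, 6])) (.leaf ([30, 42]))) (.node (.leaf ([24, 36])) (.leaf ([27, 42])))) (.node (.node (.leaf ([22, 34])) (.leaf ([33, 48]))) (.node (.leaf ([16, 34])) (.leaf ([31, 52]))))) (.node (.node (.node (.leaf ([13, 22])) (.leaf ([21, 36]))) (.node (.leaf ([21, 30])) (.leaf ([31, 46])))) (.node (.node (.leaf ([15, 30])) (.leaf ([22, 40]))) (.node (.leaf ([29, 44])) (.leaf ([28, 52])))))) (.node (.node (.node (.node (.leaf ([12, 24])) (.leaf ([28, 46]))) (.node (.leaf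 ([27, 42])) (.leaf ([27, 42])))) (.node (.node (.leaf ([19, 28])) (.leaf ([22, 40]))) (.node (.leaf ([17, 32])) (.leaf ([32, 50]))))) (.node (.node (.node (.leaf ([14, 26])) (.leaf ([25, 40]))) (.node (.leaf ([29, 38])) (.leaf ([31, 46])))) (.node (.node (.leaf ([23, 38])) (.leaf ([30, 48]))) (.leaf ([29, 44])))))) (.node (.node (.node (.node (.node (.leaf ([12, 18])) (.leaf ([20, 38]))) (.node (.leaf ([19, 34])) (.leaf ([36, 48])))) (.node (.node (.leaf ([18, 30])) (.leaf ([34, 46]))) (.node (.leaf ([24, 42])) (.leaf ([28, 46]))))) (.node (.node (.node (.leaf ([10, 22])) (.leaf ([21, 36]))) (.node (.leaf ([20, 32])) (.leaf ([32, 44])))) (.node (.node (.leaf ([15, 30])) (.leaf ([31, 46]))) (.leaf ([29, 44]))))) (.node (.node (.node (.node (.leaf ([8, 20])) (.leaf ([25, 40]))) (.node (.leaf ([19, 34])) (.leaf ([21, 42])))) (.node (.node (.leaf ([23, 32])) (.leaf ([25, 46]))) (.node (.leaf ([16, 34])) (.leaf ([27, 48]))))) (.node (.node (.node (.leaf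 ([19, 28])) (.leaf ([25, 40]))) (.node (.leaf ([28, 40])) (.leaf ([30, 54])))) (.node (.node (.leaf ([20, 32])) (.leaf ([35, 50]))) (.leaf ([25, 40]))))))) (.node (.node (.node (.node (.node (.node (.leaf ([11, 14])) (.leaf ([24, 42]))) (.node (.leaf ([15, 30])) (.leaf ([27, 42])))) (.node (.node (.leaf ([27, 36])) (.leaf ([34, 46]))) (.node (.leaf ([16, 34])) (.leaf ([28, 46]))))) (.node (.node (.node (.leaf ([18, 24])) (.leaf ([26, 38]))) (.node (.leaf ([20, 32])) (.leaf ([39, 54])))) (.node (.node (.leaf ([19, 34])) (.leaf ([27, 42]))) (.node (.leaf ([25, 40])) (.leaf ([38, 56])))))) (.node (.node (.node (.node (.leaf ([13, 22])) (.leaf ([25, 40]))) (.node (.leaf ([24, 36])) (.leaf ([26, 44])))) (.node (.node (.leaf ([19, 28])) (.leaf ([25, 46]))) (.node (.leaf ([25, 40])) (.leaf ([37, 52]))))) (.node (.node (.node (.leaf ([18, 30])) (.leaf ([26, 38]))) (.node (.leaf ([24, 36])) (.leaf ([32, 44])))) (.node (.node (.leaf ([20, 32])) (.leaf ([27,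 42]))) (.leaf ([25, 40])))))) (.node (.node (.node (.node (.node (.leaf ([12, 18])) (.leaf ([34, 46]))) (.node (.leaf ([24, 36])) (.leaf ([31, 46])))) (.node (.node (.leaf ([15, 24])) (.leaf ([26, 44]))) (.node (.leaf ([20, 38])) (.leaf ([27, 48]))))) (.node (.node (.node (.leaf ([14, 26])) (.leaf ([25, 40]))) (.node (.leaf ([29, 38])) (.leaf ([36, 48])))) (.node (.node (.leaf ([15, 30])) (.leaf ([21, 42]))) (.leaf ([21, 36]))))) (.node (.node (.node (.node (.leaf ([21, 30])) (.leaf ([33, 48]))) (.node (.leaf ([29, 38])) (.leaf ([30, 48])))) (.node (.node (.leaf ([19, 34])) (.leaf ([25, 46]))) (.node (.leaf ([21, 36])) (.leaf ([28, 46]))))) (.node (.node (.node (.leaf ([23, 32])) (.leaf ([29, 44]))) (.node (.leaf ([15, 36])) (.leaf ([28, 46])))) (.node (.node (.leaf ([20, 32])) (.leaf ([26, 44]))) (.leaf ([30, 42])))))))) (.node (.node (.node (.node (.node (.node (.node (.leaf ([6, 12])) (.leaf ([21, 36]))) (.node (.leaf ([24, 36])) (.leaf ([31,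 46])))) (.node (.node (.leaf ([22, 34])) (.leaf ([34, 46]))) (.node (.leaf ([21, 36])) (.leaf ([28, 46]))))) (.node (.node (.node (.leaf ([18, 24])) (.leaf ([29, 44]))) (.node (.leaf ([15, 30])) (.leaf ([31, 46])))) (.node (.node (.leaf ([19, 34])) (.leaf ([22, 40]))) (.node (.leaf ([29, 44])) (.leaf ([33, 54])))))) (.node (.node (.node (.node (.leaf ([8, 20])) (.leaf ([29, 44]))) (.node (.leaf ([28, 40])) (.leaf ([35, 50])))) (.node (.node (.leaf ([24, 30])) (.leaf ([26, 44]))) (.node (.leaf ([26, 38])) (.leaf ([28, 46]))))) (.node (.node (.node (.leaf ([18, 30])) (.leaf ([26, 38]))) (.node (.leaf ([29, 38])) (.leaf ([39, 54])))) (.node (.node (.leaf ([28, 40])) (.leaf ([26, 44]))) (.leaf ([29, 44])))))) (.node (.node (.node (.node (.node (.leaf ([16, 22])) (.leaf ([21, 36]))) (.node (.leaf ([24, 36])) (.leaf ([26, 44])))) (.node (.node (.leaf ([23, 32])) (.leaf ([17, 38]))) (.node (.leaf ([16, 34])) (.leaf ([36, 54]))))) (.node (.node (.node (.leaf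 ([13, 28])) (.leaf ([21, 36]))) (.node (.leaf ([20, 32])) (.leaf ([35, 50])))) (.node (.node (.leaf ([20, 32])) (.leaf ([26, 44]))) (.leaf ([20, 38]))))) (.node (.node (.node (.node (.leaf ([17, 26])) (.leaf ([30, 42]))) (.node (.leaf ([28, 40])) (.leaf ([31, 46])))) (.node (.node (.leaf ([15, 30])) (.leaf ([21, 42]))) (.node (.leaf ([20, 38])) (.leaf ([45, 60]))))) (.node (.node (.node (.leaf ([19, 28])) (.leaf ([25, 40]))) (.node (.leaf ([15, 36])) (.leaf ([23, 44])))) (.node (.node (.leaf ([24, 36])) (.leaf ([27, 42]))) (.leaf ([26, 38]))))))) (.node (.node (.node (.node (.node (.node (.leaf ([7, 16])) (.leaf ([25, 40]))) (.node (.leaf ([19, 34])) (.leaf ([31, 46])))) (.node (.node (.leaf ([18, 30])) (.leaf ([29, 44]))) (.node (.leaf ([21, 36])) (.leaf ([37, 52]))))) (.node (.node (.node (.leaf ([22, 28])) (.leaf ([26, 38]))) (.node (.leaf ([29, 38])) (.leaf ([36, 48])))) (.node (.node (.leaf ([19, 34])) (.leaf ([22, 40]))) (.leaf ([20, 38])))))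 (.node (.node (.node (.node (.leaf ([14, 20])) (.leaf ([26, 38]))) (.node (.leaf ([28, 40])) (.leaf ([26, 44])))) (.node (.node (.leaf ([27, 36])) (.leaf ([22, 40]))) (.node (.leaf ([25, 40])) (.leaf ([41, 56]))))) (.node (.node (.node (.leaf ([14, 26])) (.leaf ([34, 46]))) (.node (.leaf ([29, 38])) (.leaf ([18, 42])))) (.node (.node (.leaf ([28, 40])) (.leaf ([34, 52]))) (.leaf ([25, 40])))))) (.node (.node (.node (.node (.node (.leaf ([17, 20])) (.leaf ([29, 44]))) (.node (.leaf ([23, 38])) (.leaf ([31, 46])))) (.node (.node (.leaf ([23, 32])) (.leaf ([26, 44]))) (.node (.leaf ([16, 34])) (.leaf ([31, 52]))))) (.node (.node (.node (.leaf ([19, 28])) (.leaf ([30, 42]))) (.node (.leaf ([20, 32])) (.leaf ([35, 50])))) (.node (.node (.leaf ([20, 32])) (.leaf ([30, 48]))) (.leaf ([26, 38]))))) (.node (.node (.node (.node (.leaf ([17, 26])) (.leaf ([34, 46]))) (.node (.leaf ([20, 32])) (.leaf ([35, 50])))) (.node (.node (.leaf ([20, 32])) (.leaf ([27,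 42]))) (.node (.leaf ([20, 38])) (.leaf ([32, 50]))))) (.node (.node (.node (.leaf ([18, 30])) (.leaf ([29, 44]))) (.node (.leaf ([16, 34])) (.leaf ([27, 48])))) (.node (.node (.leaf ([15, 30])) (.leaf ([26, 44]))) (.leaf ([25, 40]))))))))))

/-- the table -/
def table4 : Table where
  size := 972
  ngen := 3
  next g x := next4.getK (3 * g + x)
  prev g x := prev4.getK (3 * g + x)
  lab g x := lab4.getK (3 * g + x)
  val g x := val4.getK (3 * g + x)
  rank g x := rank4.getK (3 * g + x)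
  tree g := tree4.getK g
  cert j := cert4.getK j
  nded := 1945
  rels := [⟨[(1, true), (1, true), (1, true), (1, true)], [], [1]⟩,
    ⟨[(2, true), (2, true)], [], [0, 1]⟩,
    ⟨[(0, true), (1, true), (0, true), (1, true)], [], [0, 0, 1]⟩,
    ⟨[(2, true), (0, true), (2, true), (1, true), (2, false), (0, true), (2, false), (1, true)], [], [0, 0, 0, 1]⟩,
    ⟨[(0, true), (0, true), (2, true), (0, true), (0, true), (2, false), (0, false), (0, false), (2, false)], [], [0, 0, 0, 0, 1]⟩,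
    ⟨[(1, true), (2, true), (1, false), (2, false), (1, true), (0, false), (2, false), (0, true), (2, false), (0, false)], [], [0, 0, 0, 0, 0, 1]⟩,
    ⟨[(1, true), (2, true), (0, false), (0, false), (1, false), (1, false), (2, false), (0, true), (1, false), (0, false)], [], [0, 0, 0, 0, 0, 0, 1]⟩]
  pot g := pot4.getK g
  innerSize := 1
  innerGen := 0

/-- the table with its checks -/
def level4 : CfsgLib.Sporadic.ChainLevel where
  table := table4
  gexp := [[1, 4], [5, 8], [6, 6]]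
  perm := [254934358667554616713826854154103000468320965711477098431605688077208286521191490422825934960704070658651272181749054159817979434917502881490885275980167921915607269137831485280995941781667609523071659939245466225084447402648538990808766088702014082038978883146013333010646753858416088487968728599075790812510103534277811729969710790556475120751295728413798718265085045233921675086178547038290746760976599455342096879376108274369524894297082927796838105883617922033794587104650386400558507651391406720868805102963191528864890488646992928120670898558754522635325612205490850853437032215232576740549682193898902858909630518123565883729075592591887379436072641274704269822620746910595360564490570257728882139632140941752469843889021568590131332011090235990030467908525034517291473442373049696754992831355656698840874247687299731291502237418180271195466449576885428239698698388000360615275818714031396188407573908684088682723285783687001975190887597327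754968044404165402056556632179954607169369827310768139983050010409262842119835167508568118048034150336285525541523993586613408000699910524576416101695932774232291115971932221961650838615656119385228229825634443202625523019283983981756581739903845509291487678618743283421947587985564912156958912340275850623304269565930930566340816836798882722818978460289463325199395004916487185988184253213606505744403241495954199465113463423280167161554508512826083977743673521933646805934775321514528894947510609236197809024748573840107647443303879985272239245261804538597314902659633728978402029174356551355211237692135942109537041588812174975335085476351720234599710479556381861034747676719867291063945953630553942834251122701, 2185159926433292499523815195091999192276167696376754202804942854007160275399814337064767117267718134311504825811342842333243277906867273721401924205407114689213297275151827676862670002089239336996572693109312256265096990724747159252583287151249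80485742359003424917208152190549936275058319574665204280379945542919904797153282280861949523155533914383869426816773045052223193757616016945328601986475730351912823343906392830038976675636206239321842997788571418663800846243506199634720691775975393135323625650013786258342804247598944686591637872206177052966554852049691496321560919320012483012106375346799094245936074051762542356086363182775485679691314097364314165445402327648033608036571726911779280777524397406344894658667080102815401264057555246541176893558200691065391518224790713701363671406523481902467090938993677839513359253121982302032146911642654784789864219972371390025269021928812215181506528521380324920459722730376675323417929973031801684054331648716831125832885085408429228382568863148012300838389349510239043437507644502702364536921261371703330769780194828667510053652279939173761849806333696307957487486018540702335173317662871617618930340160686404508777426418984869670296216759049334764499848759915509822948768917603162042267867468212777281938874937665198949941286562434723832084367779382853338373225424213410297630287188419900989110469104447413382438881756078766256754361066300475889490483178301231871867973738057942221992796300747607688117880951706968437581077335453011785297131414698970637356383977296488948215022092544298917633969094619293756561940785877121980693020867112200897734265051612562659805817678277203059663171273507200375550705140826,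 25402398044858585222569440965821188438234004191435564974649529439895837741847346039094877069119206785926652039912207633710933104673838023162941383151824418645533387686463694284513386993985326332211307091301224015138730950964892825985305165742471388692436931970653776295765132818279581578756518198353220697642995945393640244585577006175674870443922188617334253188631483702675223416321576278765110254628937463642020614077090355578556374232188031962827072299731796381417727231240999511522327483930328399629906080011814036896644078695863208237018775168988682207284357288828739664147434724837471844092565372851926166488280399848031543912764361869592015231211218079799054564327017737486747126844374880869762623845404233732568385711194983414697295414551237945404268775988399811158851816576521161005669912278108728543281908183459979285108358964263243540020081989681856483226656862493947387532379213713318259748492933424539777841054465671299053022731723439851987149617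4533596566536627467592189555895893087240212869241749136761797944737220752868916207484998662822734973034743244258808147300148989980921081518425580740953205956324208841198433156051490042201182686774322759988476346660647531114468224965366229406764498313972997803176045395270052706232512871864649895099477559548738582999014271625052574539202217617356458031080051181455491975868826418440135393769504160900880172509389083149623053685249602996206695825563493614732121123784868154549125243146793089060050724775063014377665603454940361861953356195000509462005456740220253646582282096222801287135824078501276366258210359263907371099864944264823948891618703744733949707595073190951641141628855538271034069919730703]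
  pinv := [238849930903141971190408361208949448713552241477643115972112691702861320162346148081374234776880171758818552894025073365333884203870285468117740240553097547418790263301504492918404953861093809647109085342271773276061146953306604703228984917525045314139061326038410911005391245596706948926128786725039671513930938140384796780928893133248193272806944559684277419747499493143690506748191144571890231908763215247429642297252557238056192671273330781368183572531528167366139925285233075172023273899643276898074275293753862207783330072263245485759357360987338178053007263152320066628465257640712189448565750985737197207221717587152860696172343428227176732449882468843188836093247058523196258243662594090211841937744052985745046705156014485271837258372626327592766502268191642289125037606229625919879410293887044778566907989230395645790802426528464417522097880174800548056101859303980782718857258101308768652709225263668075024723921423009289527614091264145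629201824279826759790816958516385428262285903268427420993466420599924967493395091377922909141928458037596045561495407220557197572976027683238774191884668127697494009626828240024809479205019198053503335570611294943311155870254992638908441037052471452132019870619053977675785288434509181035035999231422001989923071502788732523276758762509295984902995215683038520439493700169320148008153172012058317626813864088708925171979241703524766074340591559388209043160636666749899131296916607909856195618084703826472092766038397582014546439913361519099067698843285183657281093499084028528166862605472486649365620546254953795310717546576626119217519498667195232245764236359495364232901427357695822547491891053353163412916459567, 2549718094000856544004341728871120469360728755116256533674731818067196834472612522800537171780108374992216842730939499941638994893851433729478495235752230618297904052775480509693461787170916843301975737684222947753035664509848403729496255856689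08200635341925663278670110851021720070848727972197702754776224682928783841878811157372728170718674237933292455101657583153305219884064749111789911898192492887978846426339004368756248523762622487809822755462927388491317584331341979753277339859631290400653486786676873693719350980041469708591885028444072975077923547801935102783650401624794537414462045297289109774612480537946882413440905981317998659075630577989539570277620839545640759419578913938374882712363090730703557802380775118208242269540338230601857582005614012359903073072390794045934991585582325572341564041712071422438616672201407375758472233816578800337641766070813662213244774990365538906212941394336813010247735046617969308560482784625250187002742048465662322879809239351272899552661144346600482589853485565598986768308956964055700658993149355850515836740092899735746552139663777874792886615380893559104810732916114223485602913168724193119124925496745844860837152936561648545960539170011419857711307553308769005060481671152790643096328224664626866528844604613238316113621981403163592260128713633327053184731014784525897404878999410122596747040818275866877782353729398013148305794367458483158157979937779034193542702687715243045312734578484258277097221543792908592130568746710233832610669598869295396510591542549461991655689502373697213636112817728455955486532308383457013008781904161503395114186184475902602009666605281792641561628674583490758413549306893,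 25402398044858585222569440965821188438234004191435564974649529439895837741847346039094877069119206785926652039912207633710933104673838023162941383151824418645533387686463694284513386993985326332211307091301224015138730950964892825985305165742471388692436931970653776295765132818279581578756518198353220697642995945393640244585577006175674870443922188617334253188631483702675223416321576278765110254628937463642020614077090355578556374232188031962827072299731796381417727231240999511522327483930328399629906080011814036896644078695863208237018775168988682207284357288828739664147434724837471844092565372851926166488280399848031543912764361869592015231211218079799054564327017737486747126844374880869762623845404233732568385711194983414697295414551237945404268775988399811158851816576521161005669912278108728543281908183459979285108358964263243540020081989681856483226656862493947387532379213713318259748492933424539777841054465671299053022731723439851987149617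4533596566536627467592189555895893087240212869241749136761797944737220752868916207484998662822734973034743244258808147300148989980921081518425580740953205956324208841198433156051490042201182686774322759988476346660647531114468224965366229406764498313972997803176045395270052706232512871864649895099477559548738582999014271625052574539202217617356458031080051181455491975868826418440135393769504160900880172509389083149623053685249602996206695825563493614732121123784868154549125243146793089060050724775063014377665603454940361861953356195000509462005456740220253646582282096222801287135824078501276366258210359263907371099864944264823948891618703744733949707595073190951641141628855538271034069919730703]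
  defs := []
  eqs := [(0, 36, [0, 0, (-3), 0, 0, 0, (-3)])]
  pts := [0, 1, 3]

end CfsgLib.Sporadic.MultCoThreePart
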